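import Cfsg.Agent.MaxClass.Basic
import Cfsg.Agent.Core.Frattini
import Mathlib.GroupTheory.Nilpotent

/-!
Characterisations of the 2-groups of maximal class.
-/

set_option autoImplicit false

namespace Cfsg.Agent.MaxClass

open Subgroup
open scoped commutatorElement

variable {S : Type*} [Group S] [Finite S]

theorem four_le_index_commutator (hS : IsPGroup 2 S) (hne : commutator S ≠ ⊥) :
    4 ≤ (commutator S).index := by
  have : Fact (Nat.Prime 2) := ⟨Nat.prime_two⟩
  obtain ⟨n, hn⟩ := exists_card_pow hS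
  obtain ⟨j, -, hj⟩ := (Nat.dvd_prime_pow Nat.prime_two).1 (hn ▸ (commutator S).index_dvd_card)
  by_contra hlt
  have hj1 : j ≤ 1 := by
    by_contra h
    have := Nat.pow_le_pow_right two_pos (show 2 ≤ j by omega)
    omega
  have := hS.isNilpotent
  have hn' : (commutator S).Normal := inferInstance
  have hcyc : IsCyclic (S ⧸ commutator S) := by
    rcases Nat.le_one_iff_eq_zero_or_eq_one.1 hj1 with rfl | rfl
    · have : Subsingleton (S ⧸ commutator S) :=
        (Nat.card_eq_one_iff_unique.1 (by rw [← index_eq_card, hj, pow_zero])).1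
      infer_instance
    · exact isCyclic_of_prime_card (p := 2) (by rw [← index_eq_card, hj, pow_one])
  obtain ⟨g, hg⟩ := hcyc
  obtain ⟨v, rfl⟩ := QuotientGroup.mk'_surjective (commutator S) g
  have htop : zpowers v = ⊤ := by
    refine Core.eq_top_of_sup_frattini Core.commutator_le_frattini ?_
    rw [eq_top_iff]
    intro x _
    obtain ⟨i, hi⟩ := mem_zpowers_iff.1 (hg (QuotientGroup.mk' _ x))
    rw [← mul_inv_cancel_left (v ^ i) x]
    refine mul_mem_sup (zpow_mem (mem_zpowers v) i) ?_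
    rw [← QuotientGroup.eq_one_iff, ← QuotientGroup.mk'_apply, map_mul, map_inv, map_zpow, hi, inv_mul_cancel]
  refine hne (commutator_eq_bot_of_comm fun p q => ?_)
  obtain ⟨i, rfl⟩ := mem_zpowers_iff.1 (htop ▸ mem_top p : p ∈ zpowers v)
  obtain ⟨l, rfl⟩ := mem_zpowers_iff.1 (htop ▸ mem_top q : q ∈ zpowers v)
  exact ((Commute.refl v).zpow_zpow i l).eq

/-- A 2-group with an element whose centralizer has order four. -/
theorem mc_of_centralizer (hS : IsPGroup 2 S) (x : S)
    (hC : Nat.card ↥(centralizer ({x} : Set S)) = 4) : Nat.card S = 4 ∨ MC S := by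
  by_cases hne : commutator S = ⊥
  · left
    have htop : centralizer ({x} : Set S) = ⊤ := eq_top_iff.2 fun g _ =>
      mem_centralizer_singleton_iff.2 (commutatorElement_eq_one_iff_mul_comm.1 (mem_bot.1
        (hne ▸ by rw [_root_.commutator_def]; exact commutator_mem_commutator (mem_top g) (mem_top x))))
    rwa [htop, card_top] at hC
  right
  refine mc_of_commutator hS (le_antisymm ?_ (four_le_index_commutator hS hne)) hne
  have hmem : ∀ g : S, x⁻¹ * (g * x * g⁻¹) ∈ commutator S := fun g => by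
    rw [_root_.commutator_def, show x⁻¹ * (g * x * g⁻¹) = ⁅x⁻¹, g⁆ by rw [commutatorElement_def]; group]
    exact commutator_mem_commutator (mem_top _) (mem_top _)
  let f : S ⧸ centralizer ({x} : Set S) → commutator S :=
    fun q => ⟨x⁻¹ * (q.out * x * q.out⁻¹), hmem _⟩
  have hf : Function.Injective f := fun p q h => by
    have h' : p.out * x * p.out⁻¹ = q.out * x * q.out⁻¹ := mul_left_cancel (congrArg Subtype.val h)
    rw [← Quotient.out_eq p, ← Quotient.out_eq q]
    refine QuotientGroup.eq.2 (mem_centralizer_singleton_iff.2 ?_)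
    calc p.out⁻¹ * q.out * x = p.out⁻¹ * (q.out * x * q.out⁻¹) * q.out := by group
      _ = p.out⁻¹ * (p.out * x * p.out⁻¹) * q.out := by rw [h']
      _ = x * (p.out⁻¹ * q.out) := by group
  have hle := Nat.card_le_card_of_injective f hf
  rw [← index_eq_card] at hle
  have h1 := (centralizer ({x} : Set S)).card_mul_index
  have h2 := (commutator S).card_mul_index
  rw [hC] at h1
  have h3 := Nat.mul_le_mul_left 4 hle
  rw [h1, ← h2, mul_comm 4] at h3
  exact Nat.le_of_mul_le_mul_left h3 Nat.card_pos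

theorem quaternion_involution_central {n : ℕ} [NeZero n] {q : QuaternionGroup n} (hq : orderOf q = 2)
    (r : QuaternionGroup n) : r * q = q * r := by
  rcases q with i | i
  · have h2 := pow_orderOf_eq_one (QuaternionGroup.a i)
    rw [hq, pow_two, QuaternionGroup.a_mul_a, QuaternionGroup.one_def] at h2
    injection h2 with h2'
    rcases r with j | j
    · simp [add_comm]
    · rw [QuaternionGroup.xa_mul_a, QuaternionGroup.a_mul_xa, sub_eq_add_neg,
        neg_eq_of_add_eq_zero_left h2']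
  · rw [QuaternionGroup.orderOf_xa] at hq; omega

/-- The common structure of the 2-groups of maximal class. -/
theorem MC.data (h : MC S) : ∃ (m : ℕ) (a b : S) (u : ℤ), 2 ≤ m ∧ Nat.card S = 2 ^ (m + 1) ∧
    orderOf a = 2 ^ m ∧ (zpowers a).index = 2 ∧ b ∉ zpowers a ∧ Odd u ∧
    b * a * b⁻¹ = a ^ (2 * u + 1) := by
  have hidx : ∀ (m : ℕ) (a : S), Nat.card S = 2 ^ (m + 1) → orderOf a = 2 ^ m → (zpowers a).index = 2 := by
    intro m a hc ha
    have h := (zpowers a).card_mul_index
    rw [Nat.card_zpowers, ha, hc, pow_succ] at h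
    exact Nat.eq_of_mul_eq_mul_left (Nat.two_pow_pos m) h
  have hout : ∀ (m : ℕ) (a b : S) (u : ℤ), 2 ≤ m → orderOf a = 2 ^ m → Odd u →
      b * a * b⁻¹ = a ^ (2 * u + 1) → b ∉ zpowers a := by
    intro m a b u hm ha hu he hb
    obtain ⟨i, rfl⟩ := mem_zpowers_iff.1 hb
    rw [show a ^ i * a * (a ^ i)⁻¹ = a ^ (1 : ℤ) by group, zpow_eq_iff ha] at he
    obtain ⟨j, rfl⟩ : ∃ j, m = j + 2 := ⟨m - 2, by omega⟩
    rw [show 2 * u + 1 - 1 = 2 * u by ring, pow_succ', mul_dvd_mul_iff_left (two_ne_zero : (2 : ℤ) ≠ 0)] at he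
    exact (Int.not_even_iff_odd.2 hu) (even_iff_two_dvd.2 ((dvd_pow_self 2 (by omega)).trans he))
  rcases h with ⟨k, ⟨e⟩⟩ | ⟨k, hc, a, b, ha, hb, he⟩ | ⟨k, ⟨e⟩⟩
  · have hc : Nat.card S = 2 ^ ((k + 2) + 1) := by
      rw [Nat.card_congr e.toEquiv, DihedralGroup.nat_card, ← pow_succ']
    have ha : orderOf (e.symm (DihedralGroup.r 1)) = 2 ^ (k + 2) :=
      (orderOf_injective e.symm.toMonoidHom e.symm.injective _).trans DihedralGroup.orderOf_r_one
    have he : e.symm (DihedralGroup.sr 0) * e.symm (DihedralGroup.r 1) * (e.symm (DihedralGroup.sr 0))⁻¹ =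
        e.symm (DihedralGroup.r 1) ^ (2 * (-1 : ℤ) + 1) := by
      rw [← map_inv, ← map_mul, ← map_mul, show (2 * (-1 : ℤ) + 1) = -1 by norm_num, zpow_neg_one, ← map_inv]
      simp
    exact ⟨k + 2, _, _, -1, by omega, hc, ha, hidx _ _ hc ha,
      hout _ _ _ _ (by omega) ha (by decide) he, by decide, he⟩
  · have he' : b * a * b⁻¹ = a ^ (2 * ((2 : ℤ) ^ (k + 1) - 1) + 1) := by
      rw [he, ← zpow_natCast, Nat.cast_sub Nat.one_le_two_pow]
      push_cast
      ring_nf
    have hu : Odd ((2 : ℤ) ^ (k + 1) - 1) := ⟨2 ^ k - 1, by ring⟩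
    exact ⟨k + 3, a, b, _, by omega, hc, ha, hidx _ _ hc ha, hout _ _ _ _ (by omega) ha hu he', hu, he'⟩
  · have hc : Nat.card S = 2 ^ ((k + 2) + 1) := by
      rw [Nat.card_congr e.toEquiv, Nat.card_eq_fintype_card, QuaternionGroup.card]; ring
    have ha : orderOf (e.symm (QuaternionGroup.a 1)) = 2 ^ (k + 2) :=
      (orderOf_injective e.symm.toMonoidHom e.symm.injective _).trans
        (by rw [QuaternionGroup.orderOf_a_one]; ring)
    have he : e.symm (QuaternionGroup.xa 0) * e.symm (QuaternionGroup.a 1) * (e.symm (QuaternionGroup.xa 0))⁻¹ =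
        e.symm (QuaternionGroup.a 1) ^ (2 * (-1 : ℤ) + 1) := by
      rw [← map_inv, ← map_mul, ← map_mul, show (2 * (-1 : ℤ) + 1) = -1 by norm_num, zpow_neg_one, ← map_inv]
      congr 1
      rw [mul_inv_eq_iff_eq_mul, QuaternionGroup.xa_mul_a]
      show _ = QuaternionGroup.a (-1) * QuaternionGroup.xa 0
      simp
    exact ⟨k + 2, _, _, -1, by omega, hc, ha, hidx _ _ hc ha,
      hout _ _ _ _ (by omega) ha (by decide) he, by decide, he⟩

theorem MC.lowerCentralSeries_ne_bot (h : MC S) {n : ℕ} (hn : Nat.card S = 2 ^ n) :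
    (⊤ : Subgroup S).lowerCentralSeries (n - 2) ≠ ⊥ := by
  obtain ⟨m, a, b, u, hm, hc, ha, -, -, hu, he⟩ := h.data
  obtain rfl : n = m + 1 := Nat.pow_right_injective le_rfl (hn.symm.trans hc)
  obtain ⟨j, rfl⟩ : ∃ j, m = j + 1 := ⟨m - 1, by omega⟩
  have key : ∀ i : ℕ, a ^ ((2 : ℤ) ^ i) ∈ (⊤ : Subgroup S).lowerCentralSeries i := by
    intro i
    induction i with
    | zero => simp
    | succ i ih =>
      have hmem : ⁅a ^ ((2 : ℤ) ^ i), b⁆ ∈ (⊤ : Subgroup S).lowerCentralSeries (i + 1) := by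
        rw [Subgroup.lowerCentralSeries_succ]; exact commutator_mem_commutator ih (mem_top b)
      have heq : ⁅a ^ ((2 : ℤ) ^ i), b⁆ = a ^ ((2 : ℤ) ^ (i + 1) * (-u)) := by
        rw [commutatorElement_def, show a ^ ((2 : ℤ) ^ i) * b * (a ^ ((2 : ℤ) ^ i))⁻¹ * b⁻¹ =
          a ^ ((2 : ℤ) ^ i) * (b * a ^ (-((2 : ℤ) ^ i)) * b⁻¹) by rw [zpow_neg]; group,
          conj_zpow_of_eq he, ← zpow_add]
        ring_nf
      obtain ⟨x, y, hxy⟩ : IsCoprime (-u) ((2 : ℤ) ^ (j + 1)) := by
        refine IsCoprime.pow_right ?_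
        obtain ⟨s, hs⟩ := hu
        exact ⟨-1, -s, by rw [hs]; ring⟩
      have h2 := zpow_mem (heq ▸ hmem) x
      rw [← zpow_mul] at h2
      have h3 : a ^ ((2 : ℤ) ^ (i + 1)) = a ^ ((2 : ℤ) ^ (i + 1) * (-u) * x) :=
        (zpow_eq_iff ha).2 ⟨-(2 ^ (i + 1) * y), by linear_combination ((2 : ℤ) ^ (i + 1)) * hxy⟩
      rwa [← h3] at h2
  intro hbot
  have h1 := key j
  rw [show j + 1 + 1 - 2 = j by omega] at hbot
  rw [hbot, mem_bot, ← zpow_zero a, zpow_eq_iff ha, zero_sub, dvd_neg, pow_succ] at h1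
  have h2 := Int.le_of_dvd (by positivity) h1
  have := pow_pos (two_pos : (0 : ℤ) < 2) j
  omega

theorem MC.centralizer_le (h : MC S) (H : Subgroup S) (hH : ¬ IsCyclic ↥H) :
    centralizer (H : Set S) ≤ H := by
  obtain ⟨m, a, b, u, hm, -, ha, hi, hb, hu, he⟩ := h.data
  obtain ⟨j, rfl⟩ : ∃ j, m = j + 1 := ⟨m - 1, by omega⟩
  have hAcyc : IsCyclic ↥(zpowers a) := inferInstance
  have hcent : ∀ h' ∉ zpowers a, ∀ v ∈ zpowers a, v * h' = h' * v → v ^ 2 = 1 := by
    intro h' hh v hv hcomm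
    have hlA : b⁻¹ * h' ∈ zpowers a := (cover_of_index_two hi hb h').resolve_left hh
    obtain ⟨l, hl⟩ := mem_zpowers_iff.1 hlA
    obtain ⟨i, rfl⟩ := mem_zpowers_iff.1 hv
    have e : b * a ^ i * b⁻¹ = a ^ i := by
      calc b * a ^ i * b⁻¹ = b * (a ^ l * a ^ i * (a ^ l)⁻¹) * b⁻¹ := by group
        _ = h' * a ^ i * h'⁻¹ := by rw [hl]; group
        _ = a ^ i := by rw [← hcomm, mul_inv_cancel_right]
    rw [conj_zpow_of_eq he, zpow_eq_iff ha] at e
    rw [← zpow_natCast, ← zpow_mul, ← zpow_zero a, zpow_eq_iff ha]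
    have hcop : IsCoprime ((2 : ℤ) ^ (j + 1)) u := by
      refine IsCoprime.pow_left ?_
      obtain ⟨s, hs⟩ := hu
      exact ⟨-s, 1, by rw [hs]; ring⟩
    refine hcop.dvd_of_dvd_mul_left ?_
    rwa [show i - (2 * u + 1) * i = u * (0 - i * ((2 : ℕ) : ℤ)) by push_cast; ring] at e
  obtain ⟨x, hxH, hxA⟩ : ∃ x ∈ H, x ∉ zpowers a := by
    by_contra! hle
    exact hH ((subgroupOfEquivOfLe (show H ≤ zpowers a from hle)).isCyclic.1 inferInstance)
  obtain ⟨w, hwH, hwA, hw1⟩ : ∃ w ∈ H, w ∈ zpowers a ∧ w ≠ 1 := by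
    by_contra! hno
    have hx2 : x * x = 1 := hno _ (mul_mem hxH hxH) ((mul_mem_iff_of_index_two hi).2 Iff.rfl)
    have hle : H ≤ zpowers x := fun y hy => by
      rcases cover_of_index_two hi hxA y with h' | h'
      · rw [hno y hy h']; exact one_mem _
      · have h'' := hno _ (mul_mem (inv_mem hxH) hy) h'
        rw [inv_mul_eq_one] at h''
        exact h'' ▸ mem_zpowers x
    exact hH ((subgroupOfEquivOfLe hle).isCyclic.1 inferInstance)
  have hz : ∀ v ∈ zpowers a, v ^ 2 = 1 → v ∈ H := by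
    intro v hv hv2
    refine zpowers_le.2 hwH (Fusion.mem_zpowers_of_orderOf_dvd hAcyc hv hwA ?_)
    refine (orderOf_dvd_iff_pow_eq_one.2 hv2).trans ?_
    obtain ⟨i, hi', hoi⟩ := (Nat.dvd_prime_pow Nat.prime_two).1
      (ha ▸ (Nat.card_zpowers a ▸ Subgroup.orderOf_mk w hwA ▸ _root_.orderOf_dvd_natCard (⟨w, hwA⟩ : zpowers a)))
    rw [hoi]
    refine dvd_pow_self 2 fun hi0 => hw1 (orderOf_eq_one_iff.1 (by rw [hoi, hi0, pow_zero]))
  intro g hg
  have hgx : x * g = g * x := mem_centralizer_iff.1 hg x hxH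
  rcases cover_of_index_two hi hxA g with hgA | hgA
  · exact hz g hgA (hcent x hxA g hgA hgx.symm)
  · have h2 := hz _ hgA (hcent x hxA _ hgA (by rw [mul_assoc, ← hgx]; group))
    have := mul_mem hxH h2
    rwa [mul_inv_cancel_left] at this

theorem mc_of_lowerCentralSeries (hna : ¬ IsMulCommutative S) {n : ℕ} (hn : Nat.card S = 2 ^ n)
    (h : (⊤ : Subgroup S).lowerCentralSeries (n - 2) ≠ ⊥) : MC S := by
  have hS : IsPGroup 2 S := IsPGroup.of_card hn
  have : Fact (Nat.Prime 2) := ⟨Nat.prime_two⟩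
  have hnil := hS.isNilpotent
  have hne : commutator S ≠ ⊥ := fun hb => hna ⟨⟨fun p q => commutatorElement_eq_one_iff_mul_comm.1
    (mem_bot.1 (hb ▸ by rw [_root_.commutator_def]; exact commutator_mem_commutator (mem_top p) (mem_top q)))⟩⟩
  have h4 := four_le_index_commutator hS hne
  refine mc_of_commutator hS (le_antisymm ?_ h4) hne
  set γ := (⊤ : Subgroup S).lowerCentralSeries with hγ
  have hstep : ∀ i, γ i ≠ ⊥ → 2 * Nat.card (γ (i + 1)) ≤ Nat.card (γ i) := by
    intro i hne'
    have hle : γ (i + 1) ≤ γ i := Subgroup.lowerCentralSeries_antitone _ (Nat.le_succ i)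
    obtain ⟨t, ht⟩ := card_dvd_of_le hle
    rcases t with _ | _ | t
    · have := Nat.card_pos (α := γ i); simp only [mul_zero] at ht; omega
    · exfalso
      have heq : γ i = γ (i + 1) := (eq_of_le_of_card_ge hle (by simp [ht])).symm
      have hconst : ∀ d, γ (i + d) = γ i := by
        intro d
        induction d with
        | zero => rfl
        | succ d ih =>
          have h1 : γ (i + (d + 1)) = ⁅γ (i + d), (⊤ : Subgroup S)⁆ := Subgroup.lowerCentralSeries_succ _ _
          have h2 : γ (i + 1) = ⁅γ i, (⊤ : Subgroup S)⁆ := Subgroup.lowerCentralSeries_succ _ _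
          rw [h1, ih, ← h2, ← heq]
      obtain ⟨N, hN⟩ := Subgroup.nilpotent_iff_lowerCentralSeries.1 hnil
      exact hne' (le_bot_iff.1 ((hconst N).symm.le.trans
        ((Subgroup.lowerCentralSeries_antitone _ (Nat.le_add_left N i)).trans hN.le)))
    · rw [ht]; nlinarith
  have hall : ∀ d, d ≤ n - 2 - 1 → 2 ^ d * Nat.card (γ (1 + d)) ≤ Nat.card (γ 1) := by
    intro d hd
    induction d with
    | zero => simp
    | succ d ih =>
      have hne' : γ (1 + d) ≠ ⊥ := fun hb => h (le_bot_iff.1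
        ((Subgroup.lowerCentralSeries_antitone _ (show 1 + d ≤ n - 2 by omega)).trans hb.le))
      have h1 := hstep _ hne'
      have h2 := ih (by omega)
      rw [pow_succ, mul_assoc]
      exact (Nat.mul_le_mul_left _ h1).trans h2
  have h3 : 3 ≤ n := by
    by_contra hlt
    have hcc := (commutator S).card_mul_index
    have := (one_lt_card_iff_ne_bot _).2 hne
    have := Nat.pow_le_pow_right two_pos (show n ≤ 2 by omega)
    nlinarith
  have h1 := hall (n - 3) (by omega)
  rw [show 1 + (n - 3) = n - 2 by omega] at h1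
  have h2 := (one_lt_card_iff_ne_bot _).2 h
  have hγ1 : γ 1 = commutator S := top_lowerCentralSeries_one
  rw [hγ1] at h1
  have h5 : 2 ^ (n - 3) * 2 ≤ Nat.card (commutator S) := (Nat.mul_le_mul_left _ h2).trans h1
  have hcc := (commutator S).card_mul_index
  rw [hn, show n = (n - 3) + 1 + 2 by omega, pow_add, pow_succ] at hcc
  have h6 := Nat.mul_le_mul_right (commutator S).index h5
  rw [hcc] at h6
  exact Nat.le_of_mul_le_mul_left h6 (by positivity)

theorem mc_of_centralizer_le (hna : ¬ IsMulCommutative S) {n : ℕ} (hn : Nat.card S = 2 ^ n)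
    (h : ∀ H : Subgroup S, ¬ IsCyclic ↥H → centralizer (H : Set S) ≤ H) : MC S := by
  have hS : IsPGroup 2 S := IsPGroup.of_card hn
  have : Fact (Nat.Prime 2) := ⟨Nat.prime_two⟩
  have hnt : Nontrivial S := by
    by_contra hh
    rw [not_nontrivial_iff_subsingleton] at hh
    exact hna ⟨⟨fun _ _ => Subsingleton.elim _ _⟩⟩
  by_cases huniq : ∀ u v : S, orderOf u = 2 → orderOf v = 2 → u = v
  · rcases Fusion.cyclic_or_quaternion hS huniq with hc | ⟨k, hk, he⟩
    · exact absurd ⟨⟨fun p q => (IsCyclic.commGroup (α := S)).mul_comm p q⟩⟩ hna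
    · obtain ⟨k, rfl⟩ : ∃ j, k = j + 1 := ⟨k - 1, by omega⟩
      exact Or.inr (Or.inr ⟨k, he⟩)
  have hctr := hS.center_nontrivial
  obtain ⟨j, hj0, hj⟩ := (hS.to_subgroup (center S)).exists_card_eq
      |> fun ⟨j, hj⟩ => (⟨j, (fun h0 => by
        rw [h0, pow_zero] at hj; exact (Finite.one_lt_card (α := center S)).ne' hj), hj⟩ :
        ∃ j, j ≠ 0 ∧ Nat.card (center S) = 2 ^ j)
  obtain ⟨⟨z, hz⟩, hzo⟩ := exists_prime_orderOf_dvd_card' (G := center S) 2 (hj ▸ dvd_pow_self 2 hj0)
  rw [Subgroup.orderOf_mk] at hzo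
  obtain ⟨t, hto, htz⟩ : ∃ t : S, orderOf t = 2 ∧ t ≠ z := by
    by_contra! hall
    exact huniq fun u v hu hv => (hall u hu).trans (hall v hv).symm
  have hcomm : ∀ g, g * z = z * g := mem_center_iff.1 hz
  have ht2 : t * t = 1 := by rw [← pow_two, ← hto, pow_orderOf_eq_one]
  have hz2 : z * z = 1 := by rw [← pow_two, ← hzo, pow_orderOf_eq_one]
  let E : Subgroup S :=
    { carrier := {1, z, t, z * t}
      one_mem' := by simp
      mul_mem' := by
        have e1 : t * z = z * t := hcomm t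
        have e2 : t * (z * t) = z := by rw [← mul_assoc, e1, mul_assoc, ht2, mul_one]
        have e3 : z * (z * t) = t := by rw [← mul_assoc, hz2, one_mul]
        have e4 : z * t * z = t := by rw [hcomm (z * t), e3]
        have e5 : z * t * t = z := by rw [mul_assoc, ht2, mul_one]
        have e6 : z * t * (z * t) = 1 := by rw [mul_assoc, e2, hz2]
        intro p q hp hq
        simp only [Set.mem_insert_iff, Set.mem_singleton_iff] at hp hq ⊢
        rcases hp with rfl | rfl | rfl | rfl <;> rcases hq with rfl | rfl | rfl | rfl <;>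
          simp [e1, e2, e3, e4, e5, e6, ht2, hz2]
      inv_mem' := by
        intro p hp
        simp only [Set.mem_insert_iff, Set.mem_singleton_iff] at hp ⊢
        rcases hp with rfl | rfl | rfl | rfl <;>
          simp [inv_eq_of_mul_eq_one_right hz2, inv_eq_of_mul_eq_one_right ht2, hcomm] }
  have hz1 : z ≠ 1 := fun e => by rw [e, orderOf_one] at hzo; omega
  have ht1 : t ≠ 1 := fun e => by rw [e, orderOf_one] at hto; omega
  have hzt : z * t ≠ 1 := fun e => htz (mul_left_cancel (e.trans hz2.symm))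
  have hE4 : Nat.card E = 4 := by
    show Nat.card ({1, z, t, z * t} : Set S) = 4
    rw [Nat.card_coe_set_eq, Set.ncard_insert_of_notMem (by simp [hz1.symm, ht1.symm, hzt.symm]),
      Set.ncard_insert_of_notMem (by simp [htz.symm, ht1]),
      Set.ncard_pair (by simp [hz1])]
  have hEc : ¬ IsCyclic ↥E := fun hc => htz ((Fusion.mem_zpowers_of_orderOf_dvd (x := z) (w := t) hc
    (by simp [E]) (by simp [E]) (by rw [hto, hzo])) |> fun hm => by
      obtain ⟨k, hk⟩ := (isOfFinOrder_of_finite z).mem_powers_iff_mem_zpowers.2 hm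
      have hk' : z ^ k = t := hk
      rw [← pow_mod_orderOf, hzo] at hk'
      rcases Nat.mod_two_eq_zero_or_one k with e | e <;> rw [e] at hk'
      · exact absurd (by simpa using hk'.symm) ht1
      · simpa using hk'.symm)
  have hCt : centralizer ({t} : Set S) ≤ E := fun g hg => h E hEc (mem_centralizer_iff.2 fun e he => by
    have hgt : g * t = t * g := mem_centralizer_singleton_iff.1 hg
    rcases he with rfl | rfl | rfl | rfl
    · simp
    · exact (hcomm g).symm
    · exact hgt.symm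
    · rw [mul_assoc, ← hgt, ← mul_assoc, ← hcomm g, mul_assoc])
  have hC4 : Nat.card ↥(centralizer ({t} : Set S)) = 4 := by
    rw [show centralizer ({t} : Set S) = E from le_antisymm hCt fun e he => by
      rw [mem_centralizer_singleton_iff]
      rcases he with rfl | rfl | rfl | rfl
      · simp
      · exact (hcomm t).symm
      · rfl
      · rw [mul_assoc, ← mul_assoc t z t, hcomm t, mul_assoc]]
    exact hE4
  refine (mc_of_centralizer hS t hC4).resolve_left fun h4 => hna ?_
  exact ⟨⟨(IsPGroup.commGroupOfCardEqPrimeSq (p := 2) (by rw [h4]; rfl)).mul_comm⟩⟩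

end Cfsg.Agent.MaxClass
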