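import Cfsg.Agent.Core.Frattini
import Mathlib.GroupTheory.Abelianization.Defs
import Mathlib.GroupTheory.SpecificGroups.Cyclic
import Mathlib.GroupTheory.Nilpotent

/-!
Small general facts about p-groups.
-/

set_option autoImplicit false

namespace Cfsg.Agent.MaxClass

open Subgroup
open scoped commutatorElement

variable {G : Type*} [Group G] [Finite G] {p : ℕ}

theorem commutator_ne_bot_of_not_comm (h : ¬ IsMulCommutative G) : commutator G ≠ ⊥ :=
  fun hb => h ⟨⟨fun x y => commutatorElement_eq_one_iff_mul_comm.1 (mem_bot.1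
    (hb ▸ by rw [_root_.commutator_def]; exact commutator_mem_commutator (mem_top x) (mem_top y)))⟩⟩

/-- A p-group generated modulo its commutator subgroup by one element is abelian. -/
theorem not_isCyclic_quotient_commutator [Fact p.Prime] (hG : IsPGroup p G) (hne : commutator G ≠ ⊥) :
    ¬ IsCyclic (G ⧸ commutator G) := by
  intro hcyc
  have := hG.isNilpotent
  obtain ⟨g, hg⟩ := hcyc
  obtain ⟨v, rfl⟩ := QuotientGroup.mk'_surjective (commutator G) g
  have htop : zpowers v = ⊤ := by
    refine Core.eq_top_of_sup_frattini Core.commutator_le_frattini ?_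
    rw [eq_top_iff]
    intro x _
    obtain ⟨i, hi⟩ := mem_zpowers_iff.1 (hg (QuotientGroup.mk' _ x))
    rw [← mul_inv_cancel_left (v ^ i) x]
    refine mul_mem_sup (zpow_mem (mem_zpowers v) i) ?_
    rw [← QuotientGroup.eq_one_iff, ← QuotientGroup.mk'_apply, map_mul, map_inv, map_zpow, hi, inv_mul_cancel]
  refine hne ?_
  rw [eq_bot_iff, _root_.commutator_def, commutator_le]
  intro x _ y _
  rw [mem_bot, commutatorElement_eq_one_iff_mul_comm]
  obtain ⟨i, rfl⟩ := mem_zpowers_iff.1 (htop ▸ mem_top x : x ∈ zpowers v)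
  obtain ⟨l, rfl⟩ := mem_zpowers_iff.1 (htop ▸ mem_top y : y ∈ zpowers v)
  exact ((Commute.refl v).zpow_zpow i l).eq

theorem sq_dvd_index_commutator [hp : Fact p.Prime] (hG : IsPGroup p G) (hne : commutator G ≠ ⊥) :
    p ^ 2 ∣ (commutator G).index := by
  obtain ⟨j, hj⟩ := hG.index (commutator G)
  rw [hj]
  refine pow_dvd_pow p (Nat.le_of_not_lt fun hlt => not_isCyclic_quotient_commutator hG hne ?_)
  rcases (by omega : j = 0 ∨ j = 1) with rfl | rfl
  · have : Subsingleton (G ⧸ commutator G) :=
      (Nat.card_eq_one_iff_unique.1 (by rw [← index_eq_card, hj, pow_zero])).1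
    infer_instance
  · exact isCyclic_of_prime_card (p := p) (by rw [← index_eq_card, hj, pow_one])

/-- Each step of the lower central series drops by a factor of at least `p`. -/
theorem lcs_step [hp : Fact p.Prime] (hG : IsPGroup p G) (i : ℕ)
    (hne : (⊤ : Subgroup G).lowerCentralSeries i ≠ ⊥) :
    p * Nat.card ↥((⊤ : Subgroup G).lowerCentralSeries (i + 1)) ≤ Nat.card ↥((⊤ : Subgroup G).lowerCentralSeries i) := by
  set γ := (⊤ : Subgroup G).lowerCentralSeries with hγ
  have hnil := hG.isNilpotent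
  have hle : γ (i + 1) ≤ γ i := Subgroup.lowerCentralSeries_antitone _ (Nat.le_succ i)
  obtain ⟨t, ht⟩ := card_dvd_of_le hle
  obtain ⟨u, hu⟩ := IsPGroup.iff_card.1 (hG.to_subgroup (γ i))
  have ht' : t ∣ p ^ u := hu ▸ ht ▸ dvd_mul_left _ _
  obtain ⟨j, -, rfl⟩ := (Nat.dvd_prime_pow hp.out).1 ht'
  rcases j with _ | j
  · exfalso
    rw [pow_zero, mul_one] at ht
    have heq : γ i = γ (i + 1) := (eq_of_le_of_card_ge hle ht.le).symm
    have hconst : ∀ d, γ (i + d) = γ i := by
      intro d
      induction d with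
      | zero => rfl
      | succ d ih =>
        have h1 : γ (i + (d + 1)) = ⁅γ (i + d), (⊤ : Subgroup G)⁆ := Subgroup.lowerCentralSeries_succ _ _
        have h2 : γ (i + 1) = ⁅γ i, (⊤ : Subgroup G)⁆ := Subgroup.lowerCentralSeries_succ _ _
        rw [h1, ih, ← h2, ← heq]
    obtain ⟨N, hN⟩ := Subgroup.nilpotent_iff_lowerCentralSeries.1 hnil
    exact hne (le_bot_iff.1 ((hconst N).symm.le.trans
      ((Subgroup.lowerCentralSeries_antitone _ (Nat.le_add_left N i)).trans hN.le)))
  · rw [ht, mul_comm]
    exact Nat.mul_le_mul_left _ (Nat.le_self_pow (by omega) p)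

/-- A nonabelian p-group has centre of index at least `p ^ 2`. -/
theorem sq_le_index_center [hp : Fact p.Prime] (hG : IsPGroup p G) (hna : ¬ IsMulCommutative G) :
    p ^ 2 ≤ (center G).index := by
  obtain ⟨j, hj⟩ := hG.index (center G)
  rw [hj]
  refine Nat.pow_le_pow_right hp.out.pos (Nat.le_of_not_lt fun hlt => hna ⟨⟨fun x y => ?_⟩⟩)
  have hcyc : IsCyclic (G ⧸ center G) := by
    rcases (by omega : j = 0 ∨ j = 1) with rfl | rfl
    · have : Subsingleton (G ⧸ center G) :=
        (Nat.card_eq_one_iff_unique.1 (by rw [← index_eq_card, hj, pow_zero])).1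
      infer_instance
    · exact isCyclic_of_prime_card (p := p) (by rw [← index_eq_card, hj, pow_one])
  exact commutative_of_cyclic_center_quotient (QuotientGroup.mk' (center G))
    (QuotientGroup.ker_mk' _).le x y

end Cfsg.Agent.MaxClass
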