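import Cfsg.Prelude.Def_CaseTheorems
import Cfsg.Agent.Fusion.UniqueInvolution
import Mathlib.GroupTheory.SpecificGroups.Dihedral
import Mathlib.GroupTheory.Abelianization.Defs

/-!
Finite 2-groups of maximal class: the groups with a cyclic subgroup of index two and Taussky's
criterion.
-/

set_option autoImplicit false

namespace Cfsg.Agent.MaxClass

open Subgroup

variable {S : Type*} [Group S]

/-- Dihedral, semidihedral, or generalised quaternion. -/
def MC (S : Type*) [Group S] : Prop :=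
  (∃ k : ℕ, Nonempty (S ≃* DihedralGroup (2 ^ (k + 2)))) ∨
    (∃ k : ℕ, Nat.card S = 2 ^ (k + 4) ∧ ∃ a b : S, orderOf a = 2 ^ (k + 3) ∧ orderOf b = 2 ∧
      b * a * b⁻¹ = a ^ (2 ^ (k + 2) - 1)) ∨
    (∃ k : ℕ, Nonempty (S ≃* QuaternionGroup (2 ^ (k + 1))))

theorem isQuasiDihedral_of_data {k : ℕ} (hc : Nat.card S = 2 ^ (k + 4)) {a b : S}
    (ha : orderOf a = 2 ^ (k + 3)) (hb : orderOf b = 2) (h : b * a * b⁻¹ = a ^ (2 ^ (k + 2) - 1)) :
    Cfsg.IsQuasiDihedral S :=
  ⟨k + 3, by omega, hc, a, b, ha, hb, h⟩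

/-- Conjugation on a cyclic subgroup normalised by `b`. -/
theorem conj_zpow_of_eq {a b : S} {r : ℤ} (h : b * a * b⁻¹ = a ^ r) (i : ℤ) :
    b * a ^ i * b⁻¹ = a ^ (r * i) := by
  rw [← conj_zpow, h, zpow_mul]

/-- Recognition of the dihedral group. -/
theorem nonempty_mulEquiv_dihedral (N : ℕ) [NeZero N] {a g : S} (ha : orderOf a = N)
    (hg : g * g = 1) (hconj : g * a * g⁻¹ = a⁻¹) (hgA : g ∉ zpowers a)
    (hcover : ∀ x : S, x ∈ zpowers a ∨ g⁻¹ * x ∈ zpowers a) :
    Nonempty (S ≃* DihedralGroup N) := by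
  let φ : ZMod N → S := fun i => a ^ i.val
  have hadd : ∀ i j, φ (i + j) = φ i * φ j := fun i j => by
    simp only [φ]
    rw [ZMod.val_add, ← pow_add]
    exact pow_eq_pow_iff_modEq.mpr (by rw [ha]; exact Nat.mod_modEq _ _)
  have h0 : φ 0 = 1 := by simp [φ]
  have hneg : ∀ i, φ (-i) = (φ i)⁻¹ := fun i =>
    eq_inv_of_mul_eq_one_left (by rw [← hadd, neg_add_cancel, h0])
  have hag : ∀ i, φ i * g = g * (φ i)⁻¹ := fun i => by
    have h1 : g * φ i * g⁻¹ = (φ i)⁻¹ := by
      simp only [φ]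
      rw [← conj_pow, hconj, inv_pow]
    have hgi : g⁻¹ = g := inv_eq_of_mul_eq_one_right hg
    rw [← h1]
    rw [hgi]
    calc φ i * g = g * g * φ i * g := by rw [hg, one_mul]
      _ = g * (g * φ i * g) := by group
  let f : DihedralGroup N → S := fun q => match q with
    | .r i => φ i
    | .sr i => g * φ i
  have hfm : ∀ q r, f (q * r) = f q * f r := by
    rintro (i | i) (j | j)
    · rw [DihedralGroup.r_mul_r]; exact hadd i j
    · rw [DihedralGroup.r_mul_sr]
      show g * φ (j - i) = φ i * (g * φ j)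
      rw [← mul_assoc, hag, mul_assoc, ← hneg i, ← hadd, sub_eq_neg_add]
    · rw [DihedralGroup.sr_mul_r]
      show g * φ (i + j) = g * φ i * φ j
      rw [hadd, mul_assoc]
    · rw [DihedralGroup.sr_mul_sr]
      show φ (j - i) = g * φ i * (g * φ j)
      rw [show g * φ i * (g * φ j) = g * (φ i * g) * φ j by group, hag, ← hneg i,
        show g * (g * φ (-i)) * φ j = (g * g) * (φ (-i) * φ j) by group, hg, one_mul, ← hadd]
      congr 1; ring
  have hinj : ∀ i j, φ i = φ j → i = j := fun i j h => ZMod.val_injective _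
    (pow_injOn_Iio_orderOf (by rw [Set.mem_Iio, ha]; exact ZMod.val_lt i)
      (by rw [Set.mem_Iio, ha]; exact ZMod.val_lt j) h)
  have hbij : Function.Bijective f := by
    refine ⟨?_, fun x => ?_⟩
    · rintro (i | i) (j | j) h
      · exact congrArg _ (hinj i j h)
      · exfalso; apply hgA
        have h' : g = φ i * (φ j)⁻¹ := eq_mul_inv_of_mul_eq (h : φ i = g * φ j).symm
        rw [h']; exact mul_mem (npow_mem_zpowers a _) (inv_mem (npow_mem_zpowers a _))
      · exfalso; apply hgA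
        have h' : g = φ j * (φ i)⁻¹ := eq_mul_inv_of_mul_eq (h : g * φ i = φ j)
        rw [h']; exact mul_mem (npow_mem_zpowers a _) (inv_mem (npow_mem_zpowers a _))
      · exact congrArg _ (hinj i j (mul_left_cancel h))
    · have hfin : IsOfFinOrder a := orderOf_pos_iff.1 (ha ▸ Nat.pos_of_ne_zero (NeZero.ne N))
      have key : ∀ y ∈ zpowers a, ∃ i, φ i = y := fun y hy => by
        obtain ⟨k, rfl⟩ := hfin.mem_powers_iff_mem_zpowers.2 hy
        refine ⟨(k : ZMod N), ?_⟩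
        simp only [φ]
        rw [ZMod.val_natCast]
        exact pow_eq_pow_iff_modEq.mpr (by rw [ha]; exact Nat.mod_modEq _ _)
      rcases hcover x with h | h
      · obtain ⟨i, hi⟩ := key x h; exact ⟨.r i, hi⟩
      · obtain ⟨i, hi⟩ := key _ h
        exact ⟨.sr i, by show g * φ i = x; rw [hi, mul_inv_cancel_left]⟩
  exact ⟨(MulEquiv.ofBijective (MonoidHom.mk' f hfm) hbij).symm⟩

/-- Square roots of one modulo a power of two. -/
theorem sqrt_one_cases {m : ℕ} (hm : 2 ≤ m) {r : ℤ} (h : (2 : ℤ) ^ m ∣ r ^ 2 - 1) :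
    (2 : ℤ) ^ m ∣ r - 1 ∨ (2 : ℤ) ^ m ∣ r + 1 ∨ (2 : ℤ) ^ m ∣ r - (1 + 2 ^ (m - 1)) ∨
      (2 : ℤ) ^ m ∣ r - (-1 + 2 ^ (m - 1)) := by
  obtain ⟨j, rfl⟩ : ∃ j, m = j + 2 := ⟨m - 2, by omega⟩
  obtain ⟨t, ht⟩ : ∃ t, r = 2 * t + 1 := by
    rcases Int.even_or_odd r with ⟨s, hs⟩ | hodd
    · exfalso
      have h2 : (2 : ℤ) ∣ r ^ 2 - 1 := (dvd_pow_self 2 (by omega)).trans h
      rw [hs] at h2
      have : (2 : ℤ) ∣ 1 := by
        have := dvd_sub (Dvd.intro (2 * s ^ 2) rfl : (2 : ℤ) ∣ 2 * (2 * s ^ 2)) h2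
        rwa [show 2 * (2 * s ^ 2) - ((s + s) ^ 2 - 1) = (1 : ℤ) by ring] at this
      omega
    · exact hodd
  subst ht
  rw [show (2 * t + 1) ^ 2 - 1 = (2 : ℤ) ^ 2 * (t * (t + 1)) by ring,
    show j + 2 = 2 + j by omega, pow_add] at h
  have h' : (2 : ℤ) ^ j ∣ t * (t + 1) := (mul_dvd_mul_iff_left (by norm_num)).1 h
  have hcases : (2 : ℤ) ^ j ∣ t ∨ (2 : ℤ) ^ j ∣ t + 1 := by
    rcases Int.even_or_odd t with he | ho
    · refine Or.inl ((IsCoprime.pow_left ?_).dvd_of_dvd_mul_right h')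
      obtain ⟨s, hs⟩ := he
      exact ⟨-s, 1, by rw [hs]; ring⟩
    · refine Or.inr ((IsCoprime.pow_left ?_).dvd_of_dvd_mul_left h')
      obtain ⟨s, hs⟩ := ho
      exact ⟨-s, 1, by rw [hs]; ring⟩
  rw [show j + 2 - 1 = j + 1 by omega]
  rcases hcases with ⟨s, hs⟩ | ⟨s, hs⟩ <;> rcases Int.even_or_odd s with ⟨u, hu⟩ | ⟨u, hu⟩
  · exact Or.inl ⟨u, by rw [hs, hu]; ring⟩
  · exact Or.inr (Or.inr (Or.inl ⟨u, by rw [hs, hu]; ring⟩))
  · exact Or.inr (Or.inl ⟨u, by
      rw [show t = t + 1 - 1 by ring, hs, hu]; ring⟩)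
  · exact Or.inr (Or.inr (Or.inr ⟨u, by
      rw [show t = t + 1 - 1 by ring, hs, hu]; ring⟩))

variable {a b : S} {m : ℕ}

theorem zpow_eq_iff (ha : orderOf a = 2 ^ m) {i j : ℤ} : a ^ i = a ^ j ↔ (2 : ℤ) ^ m ∣ j - i := by
  rw [zpow_eq_zpow_iff_modEq, ha, Int.modEq_iff_dvd]
  push_cast; rfl

theorem cover_of_index_two (hi : (zpowers a).index = 2) (hb : b ∉ zpowers a) (x : S) :
    x ∈ zpowers a ∨ b⁻¹ * x ∈ zpowers a := by
  by_cases hx : x ∈ zpowers a
  · exact Or.inl hx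
  · exact Or.inr ((mul_mem_iff_of_index_two hi).2 (iff_of_false (fun h => hb (by simpa using h)) hx))

theorem exists_exponent (hi : (zpowers a).index = 2) (b : S) :
    ∃ r : ℤ, b * a * b⁻¹ = a ^ r := by
  obtain ⟨r, hr⟩ := mem_zpowers_iff.1
    ((Subgroup.normal_of_index_eq_two hi).conj_mem a (mem_zpowers a) b)
  exact ⟨r, hr.symm⟩

theorem exponent_sq (ha : orderOf a = 2 ^ m) (hi : (zpowers a).index = 2) {r : ℤ}
    (hr : b * a * b⁻¹ = a ^ r) : (2 : ℤ) ^ m ∣ r ^ 2 - 1 := by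
  obtain ⟨c, hc⟩ := mem_zpowers_iff.1 ((mul_mem_iff_of_index_two hi (a := b) (b := b)).2 Iff.rfl)
  refine (zpow_eq_iff ha).1 ?_
  rw [zpow_one, pow_two, ← conj_zpow_of_eq hr r, ← hr,
    show b * (b * a * b⁻¹) * b⁻¹ = (b * b) * a * (b * b)⁻¹ by group, ← hc,
    ((Commute.refl a).zpow_left c).eq, mul_inv_cancel_right]

variable [Finite S]

/-- Inversion gives a dihedral or quaternion group. -/
theorem of_inverting (ha : orderOf a = 2 ^ m) (hm : 2 ≤ m) (hi : (zpowers a).index = 2)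
    (hb : b ∉ zpowers a) (hr : b * a * b⁻¹ = a⁻¹) :
    (∃ k : ℕ, Nonempty (S ≃* DihedralGroup (2 ^ (k + 2))) ∧ m = k + 2) ∨
      ∃ k : ℕ, Nonempty (S ≃* QuaternionGroup (2 ^ (k + 1))) ∧ m = k + 2 := by
  obtain ⟨c, hc⟩ := mem_zpowers_iff.1 ((mul_mem_iff_of_index_two hi (a := b) (b := b)).2 Iff.rfl)
  have hfix : (2 : ℤ) ^ m ∣ 2 * c := by
    have h : a ^ ((-1) * c) = a ^ c := by
      rw [← conj_zpow_of_eq (r := -1) (by rw [zpow_neg, zpow_one]; exact hr), hc]; group
    have := (zpow_eq_iff ha).1 h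
    rwa [show c - -1 * c = 2 * c by ring] at this
  obtain ⟨k, rfl⟩ : ∃ k, m = k + 2 := ⟨m - 2, by omega⟩
  rw [show k + 2 = (k + 1) + 1 from rfl, pow_succ'] at hfix
  obtain ⟨d, hd⟩ := (mul_dvd_mul_iff_left (two_ne_zero : (2 : ℤ) ≠ 0)).1 hfix
  rcases Int.even_or_odd d with ⟨u, hu⟩ | ⟨u, hu⟩
  · refine Or.inl ⟨k, nonempty_mulEquiv_dihedral (2 ^ (k + 2)) ha ?_ hr hb (cover_of_index_two hi hb), rfl⟩
    rw [← hc, hd, hu, show (2 : ℤ) ^ (k + 1) * (u + u) = ((2 ^ (k + 2) : ℕ) : ℤ) * u by push_cast; ring,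
      zpow_mul, zpow_natCast, ← ha, pow_orderOf_eq_one, one_zpow]
  · refine Or.inr ⟨k, Fusion.nonempty_mulEquiv_quaternion (2 ^ (k + 1)) (g := b) ?_ ?_ ?_ hb
      (cover_of_index_two hi hb), rfl⟩
    · rw [ha, ← pow_succ']
    · rw [← hc, ← zpow_natCast, zpow_eq_iff ha]
      exact ⟨-u, by rw [hd, hu]; push_cast; ring⟩
    · calc b⁻¹ * a * b = (b⁻¹ * (b * a * b⁻¹) * b)⁻¹ := by rw [hr]; group
        _ = a⁻¹ := by group

/-- The semidihedral exponent gives a semidihedral group. -/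
theorem of_semidihedral (hcard : Nat.card S = 2 ^ (m + 1)) (ha : orderOf a = 2 ^ m) (hm : 3 ≤ m)
    (hi : (zpowers a).index = 2) (hb : b ∉ zpowers a) {r : ℤ} (hr : b * a * b⁻¹ = a ^ r)
    (hrm : (2 : ℤ) ^ m ∣ r - (-1 + 2 ^ (m - 1))) :
    ∃ k : ℕ, m = k + 3 ∧ Nat.card S = 2 ^ (k + 4) ∧ ∃ a' b' : S, orderOf a' = 2 ^ (k + 3) ∧
      orderOf b' = 2 ∧ b' ∉ zpowers a' ∧ b' * a' * b'⁻¹ = a' ^ (2 ^ (k + 2) - 1) := by
  obtain ⟨k, rfl⟩ : ∃ k, m = k + 3 := ⟨m - 3, by omega⟩
  obtain ⟨c, hc⟩ := mem_zpowers_iff.1 ((mul_mem_iff_of_index_two hi (a := b) (b := b)).2 Iff.rfl)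
  rw [show k + 3 - 1 = k + 2 by omega] at hrm
  have hb' : b * a * b⁻¹ = a ^ (-1 + (2 : ℤ) ^ (k + 2)) :=
    hr.trans ((zpow_eq_iff ha).2 (by rw [← dvd_neg, neg_sub]; exact hrm))
  have hfix : (2 : ℤ) ^ (k + 3) ∣ 2 * ((1 - 2 ^ (k + 1)) * c) := by
    have h : a ^ ((-1 + (2 : ℤ) ^ (k + 2)) * c) = a ^ c := by
      rw [← conj_zpow_of_eq hb', hc]; group
    have := (zpow_eq_iff ha).1 h
    rwa [show c - (-1 + (2 : ℤ) ^ (k + 2)) * c = 2 * ((1 - 2 ^ (k + 1)) * c) by ring] at this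
  rw [show k + 3 = (k + 2) + 1 from rfl, pow_succ'] at hfix
  have hcop : IsCoprime ((2 : ℤ) ^ (k + 2)) (1 - 2 ^ (k + 1)) :=
    IsCoprime.pow_left ⟨2 ^ k, 1, by ring⟩
  obtain ⟨d, hd⟩ := hcop.dvd_of_dvd_mul_left ((mul_dvd_mul_iff_left (two_ne_zero : (2 : ℤ) ≠ 0)).1 hfix)
  have key : ∀ j : ℤ, a ^ j * b * (a ^ j * b) = a ^ (j + (-1 + 2 ^ (k + 2)) * j + c) := fun j => by
    rw [zpow_add, zpow_add, ← conj_zpow_of_eq hb', hc]; group
  have hord : ∀ j : ℤ, (2 : ℤ) ^ (k + 3) ∣ j + (-1 + 2 ^ (k + 2)) * j + c → orderOf (a ^ j * b) = 2 := by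
    intro j hj
    refine orderOf_eq_prime ?_ fun h => hb ?_
    · rw [pow_two, key, ← zpow_zero a, zpow_eq_iff ha, zero_sub, dvd_neg]; exact hj
    · rw [show b = (a ^ j)⁻¹ from (inv_eq_of_mul_eq_one_right h).symm]
      exact inv_mem (zpow_mem (mem_zpowers a) j)
  obtain ⟨j, hj⟩ : ∃ j : ℤ, orderOf (a ^ j * b) = 2 := by
    rcases Int.even_or_odd d with ⟨u, hu⟩ | ⟨u, hu⟩
    · exact ⟨0, hord 0 ⟨u, by rw [hd, hu]; ring⟩⟩
    · exact ⟨1, hord 1 ⟨u + 1, by rw [hd, hu]; ring⟩⟩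
  refine ⟨k, rfl, hcard, a, a ^ j * b, ha, hj, fun h => hb ?_, ?_⟩
  · have := mul_mem (inv_mem (zpow_mem (mem_zpowers a) j)) h
    rwa [inv_mul_cancel_left] at this
  · calc a ^ j * b * a * (a ^ j * b)⁻¹ = a ^ j * (b * a * b⁻¹) * (a ^ j)⁻¹ := by group
      _ = b * a * b⁻¹ := by rw [hb']; group
      _ = a ^ (2 ^ (k + 2) - 1) := by
        rw [hb', ← zpow_natCast, Nat.cast_sub Nat.one_le_two_pow]
        push_cast
        ring_nf

/-- A group with a cyclic subgroup of index two and a non-central exponent is of maximal class. -/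
theorem mc_of_exponent (hcard : Nat.card S = 2 ^ (m + 1)) (ha : orderOf a = 2 ^ m) (hm : 2 ≤ m)
    (hi : (zpowers a).index = 2) (hb : b ∉ zpowers a) {r : ℤ} (hr : b * a * b⁻¹ = a ^ r)
    (hcase : (2 : ℤ) ^ m ∣ r + 1 ∨ (3 ≤ m ∧ (2 : ℤ) ^ m ∣ r - (-1 + 2 ^ (m - 1)))) : MC S := by
  rcases hcase with h | ⟨h3, h⟩
  · have hinv : b * a * b⁻¹ = a⁻¹ := by
      rw [hr, ← zpow_neg_one, zpow_eq_iff ha, ← dvd_neg]
      simpa [add_comm] using h
    rcases of_inverting ha hm hi hb hinv with ⟨k, hk, -⟩ | ⟨k, hk, -⟩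
    exacts [Or.inl ⟨k, hk⟩, Or.inr (Or.inr ⟨k, hk⟩)]
  · obtain ⟨k, -, hc, a', b', h1, h2, -, h4⟩ := of_semidihedral hcard ha h3 hi hb hr h
    exact Or.inr (Or.inl ⟨k, hc, a', b', h1, h2, h4⟩)

theorem exists_card_pow (hS : IsPGroup 2 S) : ∃ n, Nat.card S = 2 ^ n :=
  have : Fact (Nat.Prime 2) := ⟨Nat.prime_two⟩
  IsPGroup.iff_card.1 hS

theorem abelian_normal_commutator (A : Subgroup S) (hi : A.index = 2) (hA : ∀ u ∈ A, ∀ v ∈ A, u * v = v * u)
    {b : S} (hb : b ∉ A) (K : Subgroup S) (hKA : K ≤ A) (hK : ∀ v ∈ K, b * v = v * b) :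
    Nat.card (commutator S) * Nat.card K ≤ Nat.card A := by
  have hn := Subgroup.normal_of_index_eq_two hi
  let f : A →* A := MonoidHom.mk' (fun v => ⟨b * v * b⁻¹, hn.conj_mem _ v.2 b⟩ * v⁻¹) (fun u v => by
    apply Subtype.ext
    simp only [Subgroup.coe_mul, Subgroup.coe_inv, mul_inv_rev]
    have h1 := hA _ (hn.conj_mem _ v.2 b) _ (inv_mem u.2)
    calc b * (u * v) * b⁻¹ * ((v : S)⁻¹ * (u : S)⁻¹)
        = b * u * b⁻¹ * (b * v * b⁻¹ * (v : S)⁻¹) * (u : S)⁻¹ := by group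
      _ = b * u * b⁻¹ * ((u : S)⁻¹ * (b * v * b⁻¹ * (v : S)⁻¹)) := by
          rw [mul_assoc _ _ (u : S)⁻¹, hA _ (mul_mem (hn.conj_mem _ v.2 b) (inv_mem v.2)) _ (inv_mem u.2)]
      _ = b * u * b⁻¹ * (u : S)⁻¹ * (b * v * b⁻¹ * (v : S)⁻¹) := by group)
  set R := f.range.map A.subtype with hR
  have hRA : R ≤ A := map_subtype_le _
  have hmem : ∀ v ∈ A, b * v * b⁻¹ * v⁻¹ ∈ R := fun v hv => ⟨_, ⟨⟨v, hv⟩, rfl⟩, rfl⟩
  have hRn : R.Normal := by
    refine ⟨fun w hw g => ?_⟩
    have hbw : b * w * b⁻¹ ∈ R := by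
      obtain ⟨_, ⟨v, rfl⟩, rfl⟩ := hw
      have h := hmem _ (hn.conj_mem _ v.2 b)
      convert h using 1
      show b * (b * (v : S) * b⁻¹ * (v : S)⁻¹) * b⁻¹ = _
      group
    by_cases hg : g ∈ A
    · rwa [hA g hg w (hRA hw), mul_inv_cancel_right]
    · have hd : g * b⁻¹ ∈ A :=
        (mul_mem_iff_of_index_two hi).2 (iff_of_false hg fun h => hb (by simpa using h))
      have h := hA _ hd _ (hRA hbw)
      rwa [show g * w * g⁻¹ = (g * b⁻¹) * (b * w * b⁻¹) * (g * b⁻¹)⁻¹ by group, h, mul_inv_cancel_right]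
  have hle : commutator S ≤ R := by
    rw [_root_.commutator_def, commutator_le]
    intro p _ q _
    rw [← QuotientGroup.eq_one_iff (N := R), ← QuotientGroup.mk'_apply, map_commutatorElement,
      commutatorElement_eq_one_iff_commute]
    set π := QuotientGroup.mk' R
    have hab : ∀ v ∈ A, Commute (π b) (π v) := fun v hv => by
      rw [← commutatorElement_eq_one_iff_commute, ← map_commutatorElement, commutatorElement_def,
        QuotientGroup.mk'_apply, QuotientGroup.eq_one_iff]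
      exact hmem v hv
    have hAA : ∀ u ∈ A, ∀ v ∈ A, Commute (π u) (π v) := fun u hu v hv => by
      show _ * _ = _ * _
      rw [← map_mul, ← map_mul, hA u hu v hv]
    have hgen : ∀ g : S, (g ∈ A ∨ ∃ u ∈ A, g = b * u) := fun g => by
      by_cases hg : g ∈ A
      · exact Or.inl hg
      · exact Or.inr ⟨b⁻¹ * g, (mul_mem_iff_of_index_two hi).2 (iff_of_false (fun h => hb (by simpa using h)) hg),
          (mul_inv_cancel_left b g).symm⟩
    rcases hgen p with hp | ⟨u, hu, rfl⟩ <;> rcases hgen q with hq | ⟨v, hv, rfl⟩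
    · exact hAA p hp q hq
    · rw [map_mul]; exact (hab p hp).symm.mul_right (hAA p hp v hv)
    · rw [map_mul]; exact (hab q hq).mul_left (hAA u hu q hq)
    · rw [map_mul, map_mul]
      exact ((Commute.refl (π b)).mul_right (hab v hv)).mul_left ((hab u hu).symm.mul_right (hAA u hu v hv))
  have hker : Nat.card K ≤ Nat.card f.ker :=
    Nat.card_le_card_of_injective (fun v => (⟨⟨v, hKA v.2⟩, Subtype.ext (by
      show b * (v : S) * b⁻¹ * (v : S)⁻¹ = 1
      rw [hK v v.2]; group)⟩ : f.ker)) fun u v h => Subtype.ext (congrArg (fun w : f.ker => ((w : A) : S)) h)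
  calc Nat.card (commutator S) * Nat.card K ≤ Nat.card R * Nat.card f.ker :=
        Nat.mul_le_mul (card_le_of_le hle) hker
    _ = f.ker.index * Nat.card f.ker := by
        rw [hR, card_map_of_injective A.subtype_injective, Subgroup.index_ker]
    _ = Nat.card A := by rw [mul_comm, card_mul_index]

/-- A nonabelian 2-group with commutator index four has a cyclic subgroup of index two. -/
theorem exists_cyclic_index_two (N : ℕ) : ∀ (S : Type*) [Group S] [Finite S], Nat.card S ≤ N →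
    IsPGroup 2 S → (commutator S).index = 4 → commutator S ≠ ⊥ → ∃ a : S, (zpowers a).index = 2 := by
  induction N with
  | zero =>
    intro S _ _ h
    have := Nat.card_pos (α := S)
    omega
  | succ N ih =>
    intro S _ _ hcard hS hi hne
    have : Fact (Nat.Prime 2) := ⟨Nat.prime_two⟩
    obtain ⟨Nz, hNle, hNc, hNn, hN2⟩ := Fusion.exists_central_card_prime hS (commutator S) hne
    set π := QuotientGroup.mk' Nz with hπ
    have hπs : Function.Surjective π := QuotientGroup.mk'_surjective Nz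
    have hmap : commutator (S ⧸ Nz) = (commutator S).map π := by
      rw [_root_.commutator_def, _root_.commutator_def, map_commutator, map_top_of_surjective π hπs]
    have hqi : (commutator (S ⧸ Nz)).index = 4 := by
      rw [hmap, index_map_eq _ hπs (by rwa [QuotientGroup.ker_mk']), hi]
    have hqc : Nat.card (S ⧸ Nz) * 2 = Nat.card S := by
      rw [← hN2, mul_comm]; exact Nz.card_mul_index
    by_cases hqne : commutator (S ⧸ Nz) = ⊥
    · rw [hqne, index_bot] at hqi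
      rw [hqi] at hqc
      obtain ⟨v, hv⟩ : ∃ v : S, v * v ≠ 1 := by
        by_contra! h
        refine hne ?_
        rw [eq_bot_iff, _root_.commutator_def, commutator_le]
        intro p _ q _
        rw [mem_bot, commutatorElement_eq_one_iff_mul_comm]
        calc p * q = (q * q) * (p * q) * (p * p) := by rw [h, h]; simp
          _ = q * ((q * p) * (q * p)) * p := by group
          _ = q * p := by rw [h, mul_one]
      obtain ⟨j, hj⟩ := IsPGroup.iff_orderOf.1 hS v
      have hd : 2 ^ j ∣ 8 := hj ▸ (hqc.symm ▸ _root_.orderOf_dvd_natCard v : orderOf v ∣ 4 * 2)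
      have hj2 : 2 ≤ j := by
        by_contra hlt
        refine hv ?_
        rw [← pow_two]
        exact orderOf_dvd_iff_pow_eq_one.1 (hj ▸ (pow_dvd_pow 2 (by omega : j ≤ 1)).trans (pow_one 2).dvd)
      have hj3 : j ≠ 3 := fun h3 => by
        subst h3
        have htop : zpowers v = ⊤ := eq_top_of_card_eq _ (by rw [Nat.card_zpowers, hj, ← hqc]; norm_num)
        refine hne ?_
        rw [eq_bot_iff, _root_.commutator_def, commutator_le]
        intro p _ q _
        rw [mem_bot, commutatorElement_eq_one_iff_mul_comm]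
        obtain ⟨i, rfl⟩ := mem_zpowers_iff.1 (htop ▸ mem_top p : p ∈ zpowers v)
        obtain ⟨l, rfl⟩ := mem_zpowers_iff.1 (htop ▸ mem_top q : q ∈ zpowers v)
        exact ((Commute.refl v).zpow_zpow i l).eq
      have hj' : j ≤ 3 := Nat.pow_dvd_pow_iff_le_right one_lt_two |>.1 (by simpa using hd)
      refine ⟨v, ?_⟩
      have h := (zpowers v).card_mul_index
      rw [Nat.card_zpowers, hj, show j = 2 by omega, ← hqc] at h
      omega
    obtain ⟨q, hq⟩ := ih (S ⧸ Nz) (by have := Nat.card_pos (α := S ⧸ Nz); omega) (hS.to_quotient Nz) hqi hqne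
    obtain ⟨a, rfl⟩ := hπs q
    set A := (zpowers (π a)).comap π with hA
    have hAi : A.index = 2 := by rw [hA, index_comap_of_surjective _ hπs, hq]
    have hdec : ∀ v ∈ A, ∃ i : ℤ, ∃ c ∈ Nz, v = a ^ i * c := by
      intro v hv
      obtain ⟨i, hi'⟩ := mem_zpowers_iff.1 (hv : π v ∈ zpowers (π a))
      refine ⟨i, (a ^ i)⁻¹ * v, ?_, (mul_inv_cancel_left _ _).symm⟩
      rw [← QuotientGroup.eq_one_iff, ← QuotientGroup.mk'_apply, ← hπ, map_mul, map_inv, map_zpow, hi',
        inv_mul_cancel]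
    have hAc : ∀ u ∈ A, ∀ v ∈ A, u * v = v * u := by
      intro u hu v hv
      obtain ⟨i, c, hc, rfl⟩ := hdec u hu
      obtain ⟨l, d, hd, rfl⟩ := hdec v hv
      have h1 : ∀ w ∈ Nz, ∀ g : S, Commute w g := fun w hw g => (mem_center_iff.1 (hNc hw) g).symm
      exact (((Commute.refl a).zpow_zpow i l).mul_right (h1 d hd (a ^ i)).symm).mul_left (h1 c hc _)
    by_cases hNa : Nz ≤ zpowers a
    · refine ⟨a, ?_⟩
      rw [show zpowers a = A from le_antisymm (zpowers_le.2 (show π a ∈ zpowers (π a) from mem_zpowers _))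
        fun v hv => by
          obtain ⟨i, c, hc, rfl⟩ := hdec v hv
          exact mul_mem (zpow_mem (mem_zpowers a) i) (hNa hc)]
      exact hAi
    exfalso
    obtain ⟨b, hb⟩ : ∃ b, b ∉ A := by
      by_contra! h
      rw [show A = ⊤ from eq_top_iff.2 fun v _ => h v, index_top] at hAi
      omega
    obtain ⟨m, hm⟩ := IsPGroup.iff_orderOf.1 hS a
    have hAcard : Nat.card A * 2 = Nat.card S := hAi ▸ A.card_mul_index
    have hScard : 8 < Nat.card S := by
      have hcc := (commutator (S ⧸ Nz)).card_mul_index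
      rw [hqi] at hcc
      have := (one_lt_card_iff_ne_bot _).2 hqne
      omega
    have hm2 : 2 ≤ m := by
      by_contra hlt
      have hz : zpowers (π a) ≠ ⊥ → Nat.card (zpowers (π a)) ≤ 2 := fun _ => by
        rw [Nat.card_zpowers]
        exact (Nat.le_of_dvd (orderOf_pos a) (orderOf_map_dvd π a)).trans
          (hm ▸ (Nat.pow_le_pow_right two_pos (by omega : m ≤ 1)).trans (pow_one 2).le)
      have h := (zpowers (π a)).card_mul_index
      rw [hq] at h
      by_cases hbot : zpowers (π a) = ⊥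
      · rw [hbot, card_bot] at h; omega
      · have := hz hbot; omega
    set z := a ^ 2 ^ (m - 1) with hz
    have hzo : orderOf z = 2 := by
      rw [hz, orderOf_pow' _ (by positivity), hm,
        Nat.gcd_eq_right (pow_dvd_pow 2 (by omega : m - 1 ≤ m)), Nat.pow_div (by omega) two_pos,
        show m - (m - 1) = 1 by omega, pow_one]
    have hza : z ∈ zpowers a := npow_mem_zpowers a _
    have hzb : b * z = z * b := by
      have hAn := Subgroup.normal_of_index_eq_two hAi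
      obtain ⟨i, c, hc, e⟩ := hdec _ (hAn.conj_mem a (show π a ∈ zpowers (π a) from mem_zpowers _) b)
      have hc2 : c ^ 2 = 1 := by
        have h := _root_.orderOf_dvd_natCard (⟨c, hc⟩ : Nz)
        rw [hN2, Subgroup.orderOf_mk] at h
        exact orderOf_dvd_iff_pow_eq_one.1 h
      have hcz : b * z * b⁻¹ ∈ zpowers a := by
        rw [hz, ← conj_pow, e, (show Commute (a ^ i) c from (mem_center_iff.1 (hNc hc) _)).mul_pow,
          show 2 ^ (m - 1) = 2 * 2 ^ (m - 2) by rw [← pow_succ']; congr 1; omega, pow_mul c, hc2, one_pow,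
          mul_one]
        exact pow_mem (zpow_mem (mem_zpowers a) i) _
      obtain ⟨l, hl⟩ := mem_zpowers_iff.1 hcz
      have hl2 : orderOf (b * z * b⁻¹) = 2 :=
        (orderOf_injective (MulAut.conj b).toMonoidHom (MulAut.conj b).injective z).trans hzo
      refine mul_inv_eq_iff_eq_mul.1 ?_
      rw [← hl] at hl2 ⊢
      have h1 : (a ^ l) ^ 2 = 1 := by
        have h := pow_orderOf_eq_one (a ^ l)
        rwa [hl2] at h
      rw [← zpow_natCast (a ^ l) 2, ← zpow_mul, ← zpow_zero a, zpow_eq_iff hm, zero_sub, dvd_neg] at h1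
      obtain ⟨j, rfl⟩ : ∃ j, m = j + 1 := ⟨m - 1, by omega⟩
      rw [pow_succ, Nat.cast_ofNat] at h1
      obtain ⟨d, hd⟩ := (mul_dvd_mul_iff_right (two_ne_zero : (2 : ℤ) ≠ 0)).1 h1
      rcases Int.even_or_odd d with ⟨u, hu⟩ | ⟨u, hu⟩
      · exfalso
        have : a ^ l = 1 := by
          rw [← zpow_zero a, zpow_eq_iff hm, hd, hu]; exact ⟨-u, by ring⟩
        rw [this, orderOf_one] at hl2; omega
      · rw [hz, show j + 1 - 1 = j from rfl, ← zpow_natCast, zpow_eq_iff hm, hd, hu]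
        exact ⟨-u, by push_cast; ring⟩
    have hKc : 4 ≤ Nat.card ↥(zpowers z ⊔ Nz) := by
      have hdis : ¬ Nz ≤ zpowers z := fun h => hNa (h.trans (zpowers_le.2 hza))
      have hlt : zpowers z < zpowers z ⊔ Nz := lt_of_le_of_ne le_sup_left fun e => hdis (e ▸ le_sup_right)
      obtain ⟨t, ht⟩ := card_dvd_of_le hlt.le
      rw [Nat.card_zpowers, hzo] at ht
      have ht1 : t ≠ 1 := fun e => hlt.ne (eq_of_le_of_card_ge hlt.le (by
        rw [ht, e, Nat.card_zpowers, hzo]))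
      have ht0 : t ≠ 0 := fun e => (Nat.card_pos (α := ↥(zpowers z ⊔ Nz))).ne' (by rw [ht, e, mul_zero])
      omega
    have hbound := abelian_normal_commutator A hAi hAc hb (zpowers z ⊔ Nz)
      (sup_le ((zpowers_le.2 hza).trans (zpowers_le.2 (show π a ∈ zpowers (π a) from mem_zpowers _)))
        fun c hc => show π c ∈ zpowers (π a) by
          rw [show π c = 1 from (QuotientGroup.eq_one_iff c).2 hc]; exact one_mem _)
      (fun v hv => by
        have hle : zpowers z ⊔ Nz ≤ centralizer ({b} : Set S) := sup_le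
          (zpowers_le.2 (mem_centralizer_singleton_iff.2 hzb.symm))
          fun c hc => mem_centralizer_singleton_iff.2 (mem_center_iff.1 (hNc hc) b).symm
        exact (mem_centralizer_singleton_iff.1 (hle hv)).symm)
    have h := (commutator S).card_mul_index
    rw [hi] at h
    have h4 := (Nat.mul_le_mul_left (Nat.card (commutator S)) hKc).trans hbound
    omega

theorem commutator_eq_bot_of_comm {T : Type*} [Group T] (h : ∀ p q : T, p * q = q * p) :
    commutator T = ⊥ := by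
  rw [eq_bot_iff, _root_.commutator_def, commutator_le]
  intro p _ q _
  rw [mem_bot, commutatorElement_eq_one_iff_mul_comm]
  exact h p q

/-- **Taussky's theorem.** A nonabelian 2-group whose commutator subgroup has index four is dihedral,
semidihedral or generalised quaternion. -/
theorem mc_of_commutator (hS : IsPGroup 2 S) (hi : (commutator S).index = 4) (hne : commutator S ≠ ⊥) :
    MC S := by
  have : Fact (Nat.Prime 2) := ⟨Nat.prime_two⟩
  obtain ⟨a, ha2⟩ := exists_cyclic_index_two (Nat.card S) S le_rfl hS hi hne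
  obtain ⟨m, hm⟩ := IsPGroup.iff_orderOf.1 hS a
  have hcard : Nat.card S = 2 ^ (m + 1) := by
    rw [← (zpowers a).card_mul_index, Nat.card_zpowers, hm, ha2, pow_succ]
  obtain ⟨b, hb⟩ : ∃ b, b ∉ zpowers a := by
    by_contra! h
    rw [show zpowers a = ⊤ from eq_top_iff.2 fun v _ => h v, index_top] at ha2
    omega
  have hScard : 8 ≤ Nat.card S := by
    have h := (commutator S).card_mul_index
    rw [hi] at h
    have := (one_lt_card_iff_ne_bot _).2 hne
    omega
  have hm2 : 2 ≤ m := by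
    by_contra h
    have := Nat.pow_le_pow_right two_pos (show m + 1 ≤ 2 by omega)
    omega
  obtain ⟨r, hr⟩ := exists_exponent ha2 b
  have hAc : ∀ u ∈ zpowers a, ∀ v ∈ zpowers a, u * v = v * u := by
    intro u hu v hv
    obtain ⟨i, rfl⟩ := mem_zpowers_iff.1 hu
    obtain ⟨l, rfl⟩ := mem_zpowers_iff.1 hv
    exact ((Commute.refl a).zpow_zpow i l).eq
  have hsmall : ∀ d : ℕ, (2 : ℤ) ^ m ∣ (r - 1) * 2 ^ d → d ≤ m → Nat.card (commutator S) * 2 ^ (m - d) ≤ 2 ^ m := by
    intro d hd hdm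
    have h := abelian_normal_commutator (zpowers a) ha2 hAc hb (zpowers (a ^ 2 ^ d))
      (zpowers_le.2 (npow_mem_zpowers a _)) fun v hv => by
        obtain ⟨i, rfl⟩ := mem_zpowers_iff.1 hv
        refine mul_inv_eq_iff_eq_mul.1 ?_
        rw [← zpow_natCast a, ← zpow_mul, conj_zpow_of_eq hr, zpow_eq_iff hm]
        push_cast
        obtain ⟨t, ht⟩ := hd
        exact ⟨-t * i, by linear_combination (-i) * ht⟩
    rw [Nat.card_zpowers, Nat.card_zpowers, hm, orderOf_pow' _ (by positivity), hm,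
      Nat.gcd_eq_right (pow_dvd_pow 2 hdm), Nat.pow_div hdm two_pos] at h
    exact h
  have hcc := (commutator S).card_mul_index
  rw [hi, hcard, show m + 1 = (m - 1) + 2 by omega, pow_add] at hcc
  have hccard : Nat.card (commutator S) = 2 ^ (m - 1) := by omega
  rcases sqrt_one_cases hm2 (exponent_sq hm ha2 hr) with h | h | h | h
  · exfalso
    have := hsmall 0 (by simpa using h) (Nat.zero_le _)
    rw [hccard, Nat.sub_zero] at this
    have h1 : 2 ≤ 2 ^ (m - 1) := by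
      calc 2 = 2 ^ 1 := (pow_one 2).symm
        _ ≤ 2 ^ (m - 1) := Nat.pow_le_pow_right two_pos (by omega)
    have := Nat.mul_le_mul_right (2 ^ m) h1
    have := Nat.two_pow_pos m
    omega
  · exact mc_of_exponent hcard hm hm2 ha2 hb hr (Or.inl h)
  · rcases Nat.lt_or_ge m 3 with hlt | hge
    · obtain rfl : m = 2 := by omega
      refine mc_of_exponent hcard hm hm2 ha2 hb hr (Or.inl ?_)
      norm_num at h ⊢
      omega
    · exfalso
      obtain ⟨t, ht⟩ := h
      have := hsmall 1 ⟨2 * t + 1, by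
        have e : r - 1 = 2 ^ m * t + 2 ^ (m - 1) := by linear_combination ht
        have e2 : (2 : ℤ) ^ m = 2 ^ (m - 1) * 2 := by rw [← pow_succ]; congr 1; omega
        rw [e]; linear_combination -e2⟩ (by omega)
      rw [hccard, ← pow_add] at this
      have := (Nat.pow_le_pow_iff_right one_lt_two).1 this
      omega
  · rcases Nat.lt_or_ge m 3 with hlt | hge
    · exfalso
      obtain rfl : m = 2 := by omega
      norm_num at h
      have := hsmall 0 (by norm_num; omega) (Nat.zero_le _)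
      rw [hccard] at this
      norm_num at this
    · exact mc_of_exponent hcard hm hm2 ha2 hb hr (Or.inr ⟨hge, h⟩)

end Cfsg.Agent.MaxClass
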