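import Mathlib.GroupTheory.Nilpotent
import Mathlib.GroupTheory.PGroup
import Mathlib.GroupTheory.SpecificGroups.Cyclic

/-!
The upper central series of a `p`-group of maximal class.
-/

set_option autoImplicit false

open Subgroup
open scoped commutatorElement

namespace Cfsg.Agent.MaxClass

variable {p : ℕ} [hp : Fact p.Prime] {G : Type*} [Group G] [Finite G]

/-- In a group of order `p ^ n` and class at least `n - 1`, the `i`-th centre has order `p ^ i` for `i ≤ n - 2`. -/
theorem card_upperCentralSeries {n : ℕ} (hn : Nat.card G = p ^ n) (h2 : 2 ≤ n)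
    (hcl : (⊤ : Subgroup G).lowerCentralSeries (n - 2) ≠ ⊥) {i : ℕ} (hi : i ≤ n - 2) :
    Nat.card (Subgroup.upperCentralSeries G i) = p ^ i := by
  have hG : IsPGroup p G := IsPGroup.of_card hn
  haveI := hG.isNilpotent
  have hpp := hp.out
  have hne : ∀ j, j ≤ n - 2 → Subgroup.upperCentralSeries G j ≠ ⊤ := by
    intro j hj h
    rw [Subgroup.upperCentralSeries_eq_top_iff_nilpotencyClass_le] at h
    refine hcl ?_
    rw [Subgroup.lowerCentralSeries_eq_bot_iff_nilpotencyClass_le]
    omega
  have hcard : ∀ j, ∃ e, Nat.card (Subgroup.upperCentralSeries G j) = p ^ e := fun j =>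
    IsPGroup.iff_card.1 (hG.to_subgroup _)
  have hstep : ∀ j, j < n - 2 → p * Nat.card (Subgroup.upperCentralSeries G j) ≤ Nat.card (Subgroup.upperCentralSeries G (j + 1)) := by
    intro j hj
    have hle : Subgroup.upperCentralSeries G j ≤ Subgroup.upperCentralSeries G (j + 1) := Subgroup.upperCentralSeries_mono G (Nat.le_succ j)
    obtain ⟨e, he⟩ := hcard j
    obtain ⟨e', he'⟩ := hcard (j + 1)
    have hlt : Subgroup.upperCentralSeries G j ≠ Subgroup.upperCentralSeries G (j + 1) := by
      intro heq
      have hst : ∀ d, Subgroup.upperCentralSeries G (j + d) = Subgroup.upperCentralSeries G j := by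
        intro d
        induction d with
        | zero => rfl
        | succ d ih =>
          refine le_antisymm (fun x hx => ?_) (Subgroup.upperCentralSeries_mono G (by omega))
          rw [heq]
          rw [← add_assoc] at hx
          exact Subgroup.mem_upperCentralSeries_succ_iff.2 fun y => ih ▸ Subgroup.mem_upperCentralSeries_succ_iff.1 hx y
      have htop : Subgroup.upperCentralSeries G (j + Group.nilpotencyClass G) = ⊤ :=
        Subgroup.upperCentralSeries_eq_top_iff_nilpotencyClass_le.2 (Nat.le_add_left _ _)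
      rw [hst] at htop
      exact hne j (by omega) htop
    have h1 := card_dvd_of_le hle
    rw [he, he', Nat.pow_dvd_pow_iff_le_right hpp.one_lt] at h1
    have h2' : e ≠ e' := fun h => hlt (eq_of_le_of_card_ge hle (by rw [he, he', h]))
    rw [he, he', ← pow_succ']
    exact Nat.pow_le_pow_right hpp.pos (by omega)
  have htopstep : p ^ 2 * Nat.card (Subgroup.upperCentralSeries G (n - 2)) ≤ p ^ n := by
    set Z := Subgroup.upperCentralSeries G (n - 2) with hZ
    obtain ⟨e, he⟩ := hcard (n - 2)
    rw [← hZ] at he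
    have hen : e ≤ n := (Nat.pow_dvd_pow_iff_le_right hpp.one_lt).1 (he ▸ hn ▸ card_subgroup_dvd_card Z)
    rw [he, ← pow_add]
    refine Nat.pow_le_pow_right hpp.pos ?_
    by_contra hlt
    have hidx : Z.index = p ^ (n - e) := by
      have := Z.card_mul_index
      rw [he, hn] at this
      refine Nat.eq_of_mul_eq_mul_left (pow_pos hpp.pos e) (this.trans ?_)
      rw [← pow_add, Nat.add_sub_cancel' hen]
    rcases Nat.eq_zero_or_pos (n - e) with h0 | h0
    · exact hne (n - 2) le_rfl (eq_top_of_card_eq Z (by rw [he, hn, show e = n by omega]))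
    -- a cyclic quotient of the central series collapses
    have hne1 : n - e = 1 := by omega
    haveI : IsCyclic (G ⧸ Z) := isCyclic_of_prime_card (p := p) (by rw [← index_eq_card, hidx, hne1, pow_one])
    obtain ⟨q, hq⟩ := IsCyclic.exists_generator (α := G ⧸ Z)
    obtain ⟨g, rfl⟩ := QuotientGroup.mk_surjective q
    refine hne (n - 2) le_rfl (eq_top_iff.2 fun x _ => ?_)
    rcases Nat.eq_zero_or_pos (n - 2) with hz | hz
    · -- then the group is cyclic, hence abelian
      exfalso
      refine hcl ?_
      rw [Subgroup.lowerCentralSeries_eq_bot_iff_nilpotencyClass_le]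
      have hb : Z = ⊥ := by rw [hZ, hz, Subgroup.upperCentralSeries_zero]
      rw [hb, card_bot] at he
      have : e = 0 := by
        rcases e with _ | e
        · rfl
        · exact absurd he (Nat.one_lt_pow (Nat.succ_ne_zero e) hpp.one_lt).ne
      omega
    obtain ⟨m, hm⟩ : ∃ m, n - 2 = m + 1 := ⟨n - 2 - 1, by omega⟩
    have hgZ : g ∈ Z := by
      rw [hZ, hm, Subgroup.mem_upperCentralSeries_succ_iff]
      intro y
      obtain ⟨l, hl⟩ := mem_zpowers_iff.1 (hq (y : G ⧸ Z))
      have hz' : (g ^ l)⁻¹ * y ∈ Z := by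
        rw [← QuotientGroup.eq_one_iff, QuotientGroup.mk_mul, QuotientGroup.mk_inv, QuotientGroup.mk_zpow, hl,
          inv_mul_cancel]
      obtain ⟨z, hzd⟩ : ∃ z, z = (g ^ l)⁻¹ * y := ⟨_, rfl⟩
      have hy : y = g ^ l * z := by rw [hzd, mul_inv_cancel_left]
      have hzZ : z ∈ Subgroup.upperCentralSeries G (m + 1) := by rw [hzd, ← hm]; exact hz'
      have h1 : ⁅z, g⁆ ∈ Subgroup.upperCentralSeries G m := Subgroup.mem_upperCentralSeries_succ_iff.1 hzZ g
      have e : ⁅g, y⁆ = g ^ l * ⁅z, g⁆⁻¹ * (g ^ l)⁻¹ := by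
        rw [hy, commutatorElement_def, commutatorElement_def]
        group
      rw [e]
      exact (inferInstance : (Subgroup.upperCentralSeries G m).Normal).conj_mem _ (inv_mem h1) _
    obtain ⟨l, hl⟩ := mem_zpowers_iff.1 (hq (x : G ⧸ Z))
    have hgq : (g : G ⧸ Z) = 1 := (QuotientGroup.eq_one_iff g).2 hgZ
    rw [hgq, one_zpow] at hl
    exact (QuotientGroup.eq_one_iff x).1 hl.symm
  -- squeeze
  have hlow : ∀ j, j ≤ n - 2 → p ^ j ≤ Nat.card (Subgroup.upperCentralSeries G j) := by
    intro j
    induction j with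
    | zero => intro _; simp
    | succ j ih =>
      intro hj
      rw [pow_succ']
      exact (Nat.mul_le_mul_left p (ih (by omega))).trans (hstep j (by omega))
  have hup : ∀ d, d ≤ n - 2 → p ^ d * Nat.card (Subgroup.upperCentralSeries G (n - 2 - d)) ≤ p ^ (n - 2) := by
    intro d
    induction d with
    | zero =>
      intro _
      rw [pow_zero, one_mul, Nat.sub_zero]
      refine Nat.le_of_mul_le_mul_left ?_ (pow_pos hpp.pos 2)
      rw [← pow_add, show 2 + (n - 2) = n by omega]
      exact htopstep
    | succ d ih =>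
      intro hd
      rw [pow_succ, mul_assoc]
      refine (Nat.mul_le_mul_left _ ((hstep (n - 2 - (d + 1)) (by omega)).trans ?_)).trans (ih (by omega))
      rw [show n - 2 - (d + 1) + 1 = n - 2 - d by omega]
  refine le_antisymm ?_ (hlow i hi)
  have h := hup (n - 2 - i) (by omega)
  rw [show n - 2 - (n - 2 - i) = i by omega] at h
  refine Nat.le_of_mul_le_mul_left ?_ (pow_pos hpp.pos (n - 2 - i))
  rw [← pow_add, show n - 2 - i + i = n - 2 by omega]
  exact h

end Cfsg.Agent.MaxClass
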