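import Cfsg.Agent.FGS.AutFrattini
import Cfsg.Agent.Fusion.UniqueInvolution
import Cfsg.Agent.MaxClass.Class
import Cfsg.Agent.Fusion.Critical
import Cfsg.Prelude.Def_OddOrderLocal
import Mathlib.Data.ZMod.QuotientGroup

/-!
Metacyclic 2-groups with an automorphism of odd order.
-/

set_option autoImplicit false

namespace Cfsg.Agent.MaxClass

open Subgroup
open scoped commutatorElement

universe u

variable {X : Type u} [Group X] [Finite X]

theorem isMetacyclic_quotient (h : Cfsg.IsMetacyclic X) (D : Subgroup X) [D.Normal] :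
    Cfsg.IsMetacyclic (X ⧸ D) := by
  obtain ⟨N, hN, hNc, hQc⟩ := h
  have hn : (N.map (QuotientGroup.mk' D)).Normal := hN.map _ (QuotientGroup.mk'_surjective D)
  refine ⟨N.map (QuotientGroup.mk' D), hn, ?_, ?_⟩
  · exact isCyclic_of_surjective ((QuotientGroup.mk' D).subgroupMap N) ((QuotientGroup.mk' D).subgroupMap_surjective N)
  · refine isCyclic_of_surjective (QuotientGroup.map N _ (QuotientGroup.mk' D) (le_comap_map _ _)) ?_
    intro q
    obtain ⟨q, rfl⟩ := QuotientGroup.mk'_surjective _ q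
    obtain ⟨x, rfl⟩ := QuotientGroup.mk'_surjective D q
    exact ⟨(x : X ⧸ N), rfl⟩

theorem card_le_two_of_isCyclic {H : Type*} [Group H] [Finite H] [IsCyclic H] (h : ∀ x : H, x ^ 2 = 1) :
    Nat.card H ≤ 2 := by
  obtain ⟨g, hg⟩ := IsCyclic.exists_generator (α := H)
  rw [← orderOf_eq_card_of_forall_mem_zpowers hg]
  exact Nat.le_of_dvd two_pos (orderOf_dvd_iff_pow_eq_one.2 (h g))

theorem card_elementary_le_four (h : Cfsg.IsMetacyclic X) (E : Subgroup X) (hE : ∀ x ∈ E, x ^ 2 = 1) :
    Nat.card E ≤ 4 := by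
  obtain ⟨N, hN, hNc, hQc⟩ := h
  set f := (QuotientGroup.mk' N).comp E.subtype with hf
  have h1 : Nat.card f.ker ≤ 2 := by
    let g : f.ker →* N := MonoidHom.mk' (fun x => ⟨((x : E) : X), (QuotientGroup.eq_one_iff _).1 x.2⟩) fun _ _ => rfl
    have : IsCyclic f.ker := isCyclic_of_injective g fun a b e =>
      Subtype.ext (Subtype.ext (congrArg (fun w : N => (w : X)) e))
    exact card_le_two_of_isCyclic fun x => Subtype.ext (Subtype.ext (hE _ (x : E).2))
  have h2 : Nat.card f.range ≤ 2 := card_le_two_of_isCyclic fun x => Subtype.ext (by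
    obtain ⟨e, he⟩ := x.2
    show (x : X ⧸ N) ^ 2 = 1
    rw [← he, ← map_pow, show e ^ 2 = 1 from Subtype.ext (hE _ e.2), map_one])
  have h3 := f.ker.card_mul_index
  rw [Subgroup.index_ker] at h3
  rw [← h3]
  exact Nat.mul_le_mul h1 h2

theorem exists_two_generators (h : Cfsg.IsMetacyclic X) : ∃ a b : X, closure {a, b} = ⊤ := by
  obtain ⟨N, hN, hNc, hQc⟩ := h
  obtain ⟨c, hc⟩ := IsCyclic.exists_generator (α := N)
  obtain ⟨d, hd⟩ := IsCyclic.exists_generator (α := X ⧸ N)
  obtain ⟨d, rfl⟩ := QuotientGroup.mk'_surjective N d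
  refine ⟨(c : X), d, eq_top_iff.2 fun x _ => ?_⟩
  obtain ⟨i, hi⟩ := mem_zpowers_iff.1 (hd (QuotientGroup.mk' N x))
  have hmem : (d ^ i)⁻¹ * x ∈ N := by
    rw [← QuotientGroup.eq_one_iff, ← QuotientGroup.mk'_apply, map_mul, map_inv, map_zpow, hi, inv_mul_cancel]
  obtain ⟨j, hj⟩ := mem_zpowers_iff.1 (hc ⟨_, hmem⟩)
  have e : x = d ^ i * (c : X) ^ j := by
    have := congrArg Subtype.val hj
    rw [SubgroupClass.coe_zpow] at this
    rw [this, mul_inv_cancel_left]
  rw [e]
  exact mul_mem (zpow_mem (subset_closure (by simp)) i) (zpow_mem (subset_closure (by simp)) j)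

theorem frattini_index_le_four (hX : IsPGroup 2 X) (h : Cfsg.IsMetacyclic X) :
    Nat.card (X ⧸ frattini X) ≤ 4 := by
  have : Fact (Nat.Prime 2) := ⟨Nat.prime_two⟩
  obtain ⟨n, hn⟩ := IsPGroup.iff_card.1 hX
  obtain ⟨hcomm, hexp⟩ := FGS.frattini_quotient_props hn
  obtain ⟨a, b, hab⟩ := exists_two_generators h
  set π := QuotientGroup.mk' (frattini X)
  have hsq : ∀ q : X ⧸ frattini X, q * q = 1 := fun q => by rw [← pow_two]; exact hexp q
  let K : Subgroup (X ⧸ frattini X) :=
    { carrier := {1, π a, π b, π a * π b}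
      one_mem' := by simp
      mul_mem' := by
        have e1 : π a * (π a * π b) = π b := by rw [← mul_assoc, hsq, one_mul]
        have e2 : π b * (π a * π b) = π a := by rw [hcomm (π a), ← mul_assoc, hsq, one_mul]
        have e3 : π a * π b * π a = π b := by rw [hcomm _ (π a), e1]
        have e4 : π a * π b * π b = π a := by rw [mul_assoc, hsq, mul_one]
        intro p q hp hq
        simp only [Set.mem_insert_iff, Set.mem_singleton_iff] at hp hq ⊢
        rcases hp with rfl | rfl | rfl | rfl <;> rcases hq with rfl | rfl | rfl | rfl <;>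
          simp [hsq, e1, e2, e3, e4, hcomm (π b) (π a)]
      inv_mem' := by
        intro p hp
        rwa [inv_eq_of_mul_eq_one_right (hsq p)] }
  have htop : K = ⊤ := by
    rw [eq_top_iff, ← map_top_of_surjective π (QuotientGroup.mk'_surjective _), ← hab, MonoidHom.map_closure,
      closure_le]
    rintro _ ⟨w, rfl | rfl, rfl⟩
    · exact Or.inr (Or.inl rfl)
    · exact Or.inr (Or.inr (Or.inl rfl))
  rw [← Subgroup.card_top, ← htop]
  show Nat.card ({1, π a, π b, π a * π b} : Set (X ⧸ frattini X)) ≤ 4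
  rw [Nat.card_coe_set_eq]
  have h2 := Set.ncard_insert_le (1 : X ⧸ frattini X) {π a, π b, π a * π b}
  have h3 := Set.ncard_insert_le (π a) {π b, π a * π b}
  have h4 := Set.ncard_insert_le (π b) {π a * π b}
  have h5 := Set.ncard_singleton (π a * π b)
  omega

/-- An odd automorphism of a two-generated 2-group permutes the three nontrivial Frattini classes
cyclically. -/
theorem orbit_three (hX : IsPGroup 2 X) (h4 : Nat.card (X ⧸ frattini X) ≤ 4) (α : MulAut X) (hα : α ≠ 1)
    (hodd : Odd (orderOf α)) :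
    (∀ x : X, x ∉ frattini X → QuotientGroup.mk' (frattini X) (α x) ≠ QuotientGroup.mk' (frattini X) x) ∧
      ∃ u : X, u ∉ frattini X ∧ closure {u, α u} = ⊤ ∧
        (u * α u)⁻¹ * α (α u) ∈ frattini X := by
  have : Fact (Nat.Prime 2) := ⟨Nat.prime_two⟩
  obtain ⟨n, hn⟩ := IsPGroup.iff_card.1 hX
  obtain ⟨r, hr⟩ := hX.index (frattini X)
  obtain ⟨hcomm, hexp⟩ := FGS.frattini_quotient_props hn
  set π := QuotientGroup.mk' (frattini X) with hπ
  have hsq : ∀ q : X ⧸ frattini X, q * q = 1 := fun q => by rw [← pow_two]; exact hexp q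
  have h0 : ∀ x, π x = 1 ↔ x ∈ frattini X := fun x => QuotientGroup.eq_one_iff x
  have hresp : ∀ (β : MulAut X) (x y : X), π x = π y → π (β x) = π (β y) := fun β x y e => by
    refine QuotientGroup.eq.2 ?_
    rw [← map_inv, ← map_mul]
    exact (characteristic_iff_map_le.1 frattini_characteristic β) ⟨_, QuotientGroup.eq.1 e, rfl⟩
  have hinj : ∀ (β : MulAut X) (x y : X), π (β x) = π (β y) → π x = π y := fun β x y e => by
    simpa using hresp β.symm _ _ e
  have hα1 : ∀ x, π (α x) = 1 ↔ π x = 1 := fun x => by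
    constructor
    · intro e; rw [← map_one π] at e ⊢; exact hinj α x 1 (by rwa [map_one α])
    · intro e; rw [← map_one π] at e ⊢; have := hresp α x 1 e; rwa [map_one α] at this
  have htriv : ¬ ∀ x, π (α (α x)) = π x := by
    intro h
    apply hα
    have hk : ∀ β ∈ zpowers (α ^ 2), ∀ x : X, β x * x⁻¹ ∈ frattini X := by
      intro β hβ
      obtain ⟨k, rfl⟩ := mem_powers_iff_mem_zpowers.2 hβ
      have hk : ∀ k : ℕ, ∀ x : X, π (((α ^ 2) ^ k) x) = π x := by
        intro k
        induction k with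
        | zero => intro x; simp
        | succ k ih =>
          intro x
          rw [pow_succ, MulAut.mul_apply, ih, pow_two, MulAut.mul_apply]; exact h x
      intro x
      rw [← h0, map_mul, map_inv]
      show π (((α ^ 2) ^ k) x) * (π x)⁻¹ = 1
      rw [hk, mul_inv_cancel]
    have h1 := FGS.card_dvd_of_trivial_on_frattini_quotient hn hr (zpowers (α ^ 2)) hk
    rw [Nat.card_zpowers] at h1
    have hcop : (orderOf α).Coprime 2 := Nat.coprime_two_right.2 hodd
    have h2 : orderOf (α ^ 2) = 1 :=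
      Nat.eq_one_of_dvd_coprimes ((hcop.coprime_dvd_left (orderOf_pow_dvd 2)).pow_right _) dvd_rfl h1
    have h3 : orderOf α ∣ 2 := orderOf_dvd_iff_pow_eq_one.2 (orderOf_eq_one_iff.1 h2)
    exact orderOf_eq_one_iff.1 (Nat.eq_one_of_dvd_coprimes hcop dvd_rfl h3)
  have hfour : ∀ a b : X ⧸ frattini X, a ≠ 1 → b ≠ 1 → a ≠ b → ∀ q, q = 1 ∨ q = a ∨ q = b ∨ q = a * b := by
    intro a b ha hb hab q
    by_contra! hq
    have hab1 : a * b ≠ 1 := fun e => hab (by rw [mul_eq_one_iff_eq_inv.1 e, inv_eq_of_mul_eq_one_right (hsq b)])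
    have h5 : ({q, 1, a, b, a * b} : Set (X ⧸ frattini X)).ncard = 5 := by
      rw [Set.ncard_insert_of_notMem (by simp [hq.1, hq.2.1, hq.2.2.1, hq.2.2.2]),
        Set.ncard_insert_of_notMem (by simp [ha.symm, hb.symm, hab1.symm]),
        Set.ncard_insert_of_notMem (by simp [hab, hb]), Set.ncard_pair (by simp [ha])]
    have := Set.ncard_le_card ({q, 1, a, b, a * b} : Set (X ⧸ frattini X))
    omega
  have hnofix : ∀ x : X, x ∉ frattini X → π (α x) ≠ π x := by
    intro x hx hfix
    refine htriv fun y => ?_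
    have hx1 : π x ≠ 1 := fun e => hx ((h0 x).1 e)
    by_cases hy1 : π y = 1
    · rw [hy1, hα1, hα1, hy1]
    by_cases hyx : π y = π x
    · have e1 := hresp α _ _ hyx
      have e2 := hresp α _ _ e1
      rw [e2, hresp α _ _ hfix, hfix, hyx]
    rcases hfour (π x) (π y) hx1 hy1 (Ne.symm hyx) (π (α y)) with e | e | e | e
    · exact absurd ((hα1 y).1 e) hy1
    · exact absurd (hinj α y x (e.trans hfix.symm)) hyx
    · rw [hresp α _ _ e, e]
    · have e2 : π (α y) = π (x * y) := e.trans (map_mul π x y).symm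
      rw [hresp α _ _ e2, map_mul α, map_mul π, hfix, e, ← mul_assoc, hsq, one_mul]
  refine ⟨hnofix, ?_⟩
  obtain ⟨u, hu⟩ : ∃ u, u ∉ frattini X := by
    by_contra! h
    exact htriv fun x => by rw [(h0 _).2 (h _), (h0 _).2 (h _)]
  have ha : π u ≠ 1 := fun e => hu ((h0 u).1 e)
  have hb : π (α u) ≠ 1 := fun e => ha ((hα1 u).1 e)
  have hab : π u ≠ π (α u) := (hnofix u hu).symm
  have hc : π (α (α u)) = π u * π (α u) := by
    rcases hfour (π u) (π (α u)) ha hb hab (π (α (α u))) with e | e | e | e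
    · exact absurd ((hα1 _).1 e) hb
    · exfalso
      have hm : u * α u ∉ frattini X := fun hm => hab (by
        have h1 := (h0 _).2 hm
        rw [map_mul] at h1
        rw [mul_eq_one_iff_eq_inv.1 h1, inv_eq_of_mul_eq_one_right (hsq _)])
      refine hnofix _ hm ?_
      rw [map_mul α, map_mul, map_mul, e, hcomm]
    · exact absurd e (hnofix _ fun hm => hb ((h0 _).2 hm))
    · exact e
  refine ⟨u, hu, ?_, by rw [← h0, map_mul, map_inv, map_mul, hc, inv_mul_cancel]⟩
  refine Core.eq_top_of_sup_frattini le_rfl (eq_top_iff.2 fun x _ => ?_)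
  have hmem : ∀ w ∈ closure {u, α u}, π x = π w → x ∈ closure {u, α u} ⊔ frattini X := fun w hw e => by
    rw [← mul_inv_cancel_left w x]
    exact mul_mem_sup hw (QuotientGroup.eq.1 e.symm)
  have hu' : u ∈ closure {u, α u} := subset_closure (by simp)
  have hv' : α u ∈ closure {u, α u} := subset_closure (by simp)
  rcases hfour (π u) (π (α u)) ha hb hab (π x) with e | e | e | e
  · exact hmem 1 (one_mem _) (by rw [e, map_one])
  · exact hmem _ hu' e
  · exact hmem _ hv' e
  · exact hmem _ (mul_mem hu' hv') (by rw [e, map_mul])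

theorem mem_frattini_sq (hX : IsPGroup 2 X) (M : Subgroup X) (h : ∀ x : X, x * x ∈ M) : frattini X ≤ M := by
  have : Fact (Nat.Prime 2) := ⟨Nat.prime_two⟩
  have hn : M.Normal := ⟨fun v hv x => by
    have e : x * v * x⁻¹ = (x * v) * (x * v) * v⁻¹ * (x * x)⁻¹ := by group
    rw [e]
    exact mul_mem (mul_mem (h _) (inv_mem hv)) (inv_mem (h x))⟩
  refine Fusion.frattini_le_of_elementary (p := 2) M ?_ fun x => by rw [pow_two]; exact h x
  rw [_root_.commutator_def, Subgroup.commutator_le]
  intro x _ y _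
  rw [show ⁅x, y⁆ = (x * x) * ((x⁻¹ * y) * (x⁻¹ * y)) * (y * y)⁻¹ by rw [commutatorElement_def]; group]
  exact mul_mem (mul_mem (h x) (h _)) (inv_mem (h y))

theorem exists_exponent_log (hX : IsPGroup 2 X) (hnt : Nontrivial X) :
    ∃ e, (∀ x : X, x ^ 2 ^ (e + 1) = 1) ∧ ∃ x : X, x ^ 2 ^ e ≠ 1 := by
  classical
  obtain ⟨n, hn⟩ := exists_card_pow hX
  have hex : ∃ e, ∀ x : X, x ^ 2 ^ e = 1 := ⟨n, fun x => by rw [← hn]; exact pow_card_eq_one'⟩
  obtain ⟨e, he⟩ : ∃ e, Nat.find hex = e + 1 := ⟨Nat.find hex - 1, by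
    have : Nat.find hex ≠ 0 := fun h0 => by
      obtain ⟨x, hx⟩ := exists_ne (1 : X)
      exact hx (by simpa [h0] using Nat.find_spec hex x)
    omega⟩
  have h1 := Nat.find_spec hex
  rw [he] at h1
  have h2 := Nat.find_min hex (show e < Nat.find hex by omega)
  push Not at h2
  exact ⟨e, h1, h2⟩

/-- Two commuting generators whose top powers are distinct involutions give a homocyclic group. -/
theorem homocyclic_of_gens (u v : X) (e : ℕ) (hcomm : ∀ a b : X, a * b = b * a) (hgen : closure {u, v} = ⊤)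
    (hu : u ^ 2 ^ (e + 1) = 1) (hv : v ^ 2 ^ (e + 1) = 1) (hu1 : u ^ 2 ^ e ≠ 1) (hv1 : v ^ 2 ^ e ≠ 1)
    (hne : u ^ 2 ^ e ≠ v ^ 2 ^ e) :
    Nonempty (X ≃* Multiplicative (ZMod (2 ^ (e + 1))) × Multiplicative (ZMod (2 ^ (e + 1)))) := by
  let φ : Multiplicative (ZMod (2 ^ (e + 1))) × Multiplicative (ZMod (2 ^ (e + 1))) →* X :=
    MonoidHom.mk' (fun q => u ^ (Multiplicative.toAdd q.1).val * v ^ (Multiplicative.toAdd q.2).val) (fun q r => by
      have key : ∀ (w : X), w ^ 2 ^ (e + 1) = 1 → ∀ i j : ZMod (2 ^ (e + 1)), w ^ (i + j).val = w ^ i.val * w ^ j.val := by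
        intro w hw i j
        rw [← pow_add, ZMod.val_add]
        conv_rhs => rw [← Nat.mod_add_div (i.val + j.val) (2 ^ (e + 1)), pow_add, pow_mul, hw, one_pow, mul_one]
      simp only [Prod.fst_mul, Prod.snd_mul, toAdd_mul, key u hu, key v hv]
      rw [mul_assoc (u ^ (Multiplicative.toAdd q.1).val), ← mul_assoc (u ^ (Multiplicative.toAdd r.1).val),
        hcomm (u ^ (Multiplicative.toAdd r.1).val), mul_assoc, mul_assoc])
  have hinj : Function.Injective φ := by
    rw [injective_iff_map_eq_one]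
    rintro ⟨i, j⟩ h
    have h' : u ^ (Multiplicative.toAdd i).val * v ^ (Multiplicative.toAdd j).val = 1 := h
    have main : ∀ (t : ℕ), t ≤ e + 1 → 2 ^ t ∣ (Multiplicative.toAdd i).val ∧ 2 ^ t ∣ (Multiplicative.toAdd j).val := by
      intro t
      induction t with
      | zero => exact fun _ => ⟨by simp, by simp⟩
      | succ t ih =>
        intro ht
        obtain ⟨⟨i', hi⟩, ⟨j', hj⟩⟩ := ih (by omega)
        have h2 : (u ^ 2 ^ e) ^ i' * (v ^ 2 ^ e) ^ j' = 1 := by
          have h3 : (u ^ (2 ^ t * i') * v ^ (2 ^ t * j')) ^ 2 ^ (e - t) = 1 := by rw [← hi, ← hj, h', one_pow]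
          have hexp : ∀ k : ℕ, 2 ^ t * k * 2 ^ (e - t) = 2 ^ e * k := fun k => by
            rw [mul_right_comm, ← pow_add, show t + (e - t) = e by omega]
          rw [(show Commute (u ^ (2 ^ t * i')) (v ^ (2 ^ t * j')) from hcomm _ _).mul_pow, ← pow_mul, ← pow_mul,
            hexp, hexp] at h3
          rw [← pow_mul, ← pow_mul]
          exact h3
        have hsqu : ∀ w : X, w ^ 2 ^ (e + 1) = 1 → ∀ k : ℕ, (w ^ 2 ^ e) ^ k = 1 ∧ Even k ∨
            (w ^ 2 ^ e) ^ k = w ^ 2 ^ e ∧ Odd k := fun w hw k => by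
          have h2w : (w ^ 2 ^ e) ^ 2 = 1 := by rw [← pow_mul, ← pow_succ, hw]
          rcases Nat.even_or_odd k with hk | hk
          · obtain ⟨l, rfl⟩ := hk
            exact Or.inl ⟨by rw [← two_mul, pow_mul, h2w, one_pow], ⟨l, rfl⟩⟩
          · obtain ⟨l, rfl⟩ := hk
            exact Or.inr ⟨by rw [pow_add, pow_mul, h2w, one_pow, one_mul, pow_one], ⟨l, rfl⟩⟩
        rcases hsqu u hu i' with ⟨e1, hi'⟩ | ⟨e1, -⟩ <;> rcases hsqu v hv j' with ⟨e2, hj'⟩ | ⟨e2, -⟩ <;>
          rw [e1, e2] at h2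
        · obtain ⟨a', ha'⟩ := hi'
          obtain ⟨b', hb'⟩ := hj'
          exact ⟨⟨a', by rw [hi, ha', pow_succ]; ring⟩, ⟨b', by rw [hj, hb', pow_succ]; ring⟩⟩
        · exact absurd (by simpa using h2) hv1
        · exact absurd (by simpa using h2) hu1
        · refine absurd (mul_eq_one_iff_eq_inv.1 h2) (fun hh => hne (hh.trans (inv_eq_of_mul_eq_one_right ?_)))
          rw [← pow_two, ← pow_mul, ← pow_succ, hv]
    obtain ⟨h1, h2⟩ := main (e + 1) le_rfl
    have key : ∀ c : ZMod (2 ^ (e + 1)), 2 ^ (e + 1) ∣ c.val → c = 0 := fun c hc => by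
      rw [← ZMod.natCast_zmod_val c, ZMod.natCast_eq_zero_iff]; exact hc
    exact Prod.ext (Multiplicative.toAdd.injective (key _ h1)) (Multiplicative.toAdd.injective (key _ h2))
  have hsurj : Function.Surjective φ := by
    rw [← MonoidHom.range_eq_top, eq_top_iff, ← hgen, closure_le]
    have he1 : 1 < 2 ^ (e + 1) := Nat.one_lt_pow (by omega) one_lt_two
    have : Fact (1 < 2 ^ (e + 1)) := ⟨he1⟩
    rintro w (rfl | rfl)
    · exact ⟨(Multiplicative.ofAdd 1, 1), by simp [φ, ZMod.val_one]⟩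
    · exact ⟨(1, Multiplicative.ofAdd 1), by simp [φ, ZMod.val_one]⟩
  exact ⟨(MulEquiv.ofBijective φ ⟨hinj, hsurj⟩).symm⟩

/-- The top powers of the three classes are distinct when the group is abelian. -/
theorem abelian_case (hX : IsPGroup 2 X) (h4 : Nat.card (X ⧸ frattini X) ≤ 4) (α : MulAut X) (hα : α ≠ 1)
    (hodd : Odd (orderOf α)) (hcomm : ∀ a b : X, a * b = b * a) :
    ∃ n : ℕ, Nonempty (X ≃* Multiplicative (ZMod (2 ^ n)) × Multiplicative (ZMod (2 ^ n))) := by
  obtain ⟨-, u, hu, hgen, hc⟩ := orbit_three hX h4 α hα hodd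
  have hnt : Nontrivial X := ⟨⟨u, 1, fun e => hu (e ▸ one_mem _)⟩⟩
  obtain ⟨e, he, x, hx⟩ := exists_exponent_log hX hnt
  let M : Subgroup X :=
    { carrier := {y | y ^ 2 ^ e = 1}
      one_mem' := one_pow _
      mul_mem' := fun {p q} (hp : p ^ 2 ^ e = 1) (hq : q ^ 2 ^ e = 1) => by
        show (p * q) ^ 2 ^ e = 1
        rw [(show Commute p q from hcomm p q).mul_pow, hp, hq, mul_one]
      inv_mem' := fun {p} (hp : p ^ 2 ^ e = 1) => by show p⁻¹ ^ 2 ^ e = 1; rw [inv_pow, hp, inv_one] }
  have hΦ : frattini X ≤ M := mem_frattini_sq hX M fun y => by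
    show (y * y) ^ 2 ^ e = 1
    rw [← pow_two, ← pow_mul, ← pow_succ', he]
  have hα' : ∀ y, (α y) ^ 2 ^ e = 1 ↔ y ^ 2 ^ e = 1 := fun y => by rw [← map_pow, MulEquiv.map_eq_one_iff]
  have huM : u ∉ M := fun huM => hx (by
    have hle : closure {u, α u} ≤ M := (closure_le _).2 (by
      rintro w (rfl | rfl)
      exacts [huM, (hα' u).2 huM])
    exact hle (hgen ▸ mem_top x))
  have hvM : α u ∉ M := fun h => huM ((hα' u).1 h)
  have huvM : u * α u ∉ M := fun h => by
    have h2 : α (α u) ∈ M := by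
      have := M.mul_mem h (hΦ hc)
      rwa [mul_inv_cancel_left] at this
    exact hvM ((hα' (α u)).1 h2)
  refine ⟨e + 1, homocyclic_of_gens u (α u) e hcomm hgen (he u) (he _) huM hvM fun heq => huvM ?_⟩
  show (u * α u) ^ 2 ^ e = 1
  rw [(show Commute u (α u) from hcomm _ _).mul_pow, heq, ← pow_two, ← pow_mul, ← pow_succ, he]

/-- The case of a commutator subgroup of order two. -/
theorem quaternion_case (hX : IsPGroup 2 X) (hm : Cfsg.IsMetacyclic X) (α : MulAut X) (hα : α ≠ 1)
    (hodd : Odd (orderOf α)) (z : X) (hz : z * z = 1) (hz1 : z ≠ 1) (hcom : commutator X = zpowers z) :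
    Nonempty (X ≃* QuaternionGroup 2) := by
  have : Fact (Nat.Prime 2) := ⟨Nat.prime_two⟩
  have := hX.isNilpotent
  obtain ⟨-, u, hu, hgen, hc⟩ := orbit_three hX (frattini_index_le_four hX hm) α hα hodd
  have hzc : ∀ x, x * z = z * x := by
    intro x
    have hn : (commutator X).Normal := inferInstance
    have h1 : x * z * x⁻¹ ∈ zpowers z := hcom ▸ hn.conj_mem z (hcom.symm ▸ mem_zpowers z) x
    obtain ⟨i, hi⟩ := mem_zpowers_iff.1 h1
    rcases Int.even_or_odd i with ⟨j, rfl⟩ | ⟨j, rfl⟩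
    · rw [← two_mul, zpow_mul, zpow_two, hz, one_zpow] at hi
      exact absurd (conj_eq_one_iff.1 hi.symm) hz1
    · rw [zpow_add, zpow_mul, zpow_two, hz, one_zpow, one_mul, zpow_one] at hi
      exact mul_inv_eq_iff_eq_mul.1 hi.symm
  have hz2 : ∀ i : ℤ, z ^ i = 1 ∨ z ^ i = z := fun i => by
    rcases Int.even_or_odd i with ⟨j, rfl⟩ | ⟨j, rfl⟩
    · left; rw [← two_mul, zpow_mul, zpow_two, hz, one_zpow]
    · right; rw [zpow_add, zpow_mul, zpow_two, hz, one_zpow, one_mul, zpow_one]
  have hcm : ∀ x y : X, ⁅x, y⁆ = 1 ∨ ⁅x, y⁆ = z := fun x y => by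
    have h1 : ⁅x, y⁆ ∈ zpowers z := hcom ▸ (by
      rw [_root_.commutator_def]; exact commutator_mem_commutator (mem_top x) (mem_top y))
    obtain ⟨i, hi⟩ := mem_zpowers_iff.1 h1
    rw [← hi]; exact hz2 i
  have hzn : (zpowers z).Normal := hcom ▸ inferInstance
  have hzα : α z = z := by
    have h1 : α z ∈ commutator X :=
      (characteristic_iff_map_le.1 (inferInstance : (commutator X).Characteristic) α) ⟨z, hcom ▸ mem_zpowers z, rfl⟩
    rw [hcom] at h1
    obtain ⟨i, hi⟩ := mem_zpowers_iff.1 h1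
    rcases hz2 i with e | e <;> rw [e] at hi
    · exact absurd (α.injective (hi.symm.trans (map_one α).symm)) hz1
    · exact hi.symm
  have hsq : ∀ x y : X, (x * y) * (x * y) = x * x * (y * y) * ⁅y, x⁆ := by
    intro x y
    have hcen : ∀ g, g * ⁅y, x⁆ = ⁅y, x⁆ * g := fun g => by
      rcases hcm y x with e | e <;> rw [e]
      · simp
      · exact hzc g
    calc x * y * (x * y) = x * (⁅y, x⁆ * (x * y)) * y := by rw [commutatorElement_def]; group
      _ = x * ((x * y) * ⁅y, x⁆) * y := by rw [hcen (x * y)]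
      _ = x * x * y * (⁅y, x⁆ * y) := by group
      _ = x * x * y * (y * ⁅y, x⁆) := by rw [hcen y]
      _ = x * x * (y * y) * ⁅y, x⁆ := by group
  have huv : ⁅α u, u⁆ = z := by
    refine (hcm _ _).resolve_left fun h1 => hz1 ?_
    have hcomm : Commute (α u) u := commutatorElement_eq_one_iff_commute.1 h1
    have hbot : commutator X = ⊥ := by
      refine commutator_eq_bot_of_comm fun p q => ?_
      have hle : ∀ w ∈ ({u, α u} : Set X), ∀ w' ∈ closure {u, α u}, Commute w w' := by
        intro w hw w' hw'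
        induction hw' using closure_induction with
        | mem y hy =>
          rcases hw with rfl | rfl <;> rcases hy with rfl | rfl
          exacts [Commute.refl _, hcomm.symm, hcomm, Commute.refl _]
        | one => exact Commute.one_right _
        | mul a b _ _ ha hb => exact ha.mul_right hb
        | inv a _ ha => exact ha.inv_right
      have hp : p ∈ closure {u, α u} := hgen ▸ mem_top p
      induction hp using closure_induction with
      | mem y hy => exact hle y hy q (hgen ▸ mem_top q)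
      | one => exact Commute.one_left q
      | mul a b _ _ ha hb => exact (Commute.mul_left ha hb).eq
      | inv a _ ha => exact (Commute.inv_left ha).eq
    rw [hcom, zpowers_eq_bot] at hbot
    exact hbot
  -- exponent of the abelianisation
  set π := QuotientGroup.mk' (zpowers z) with hπ
  have hq : ∀ a b : X ⧸ zpowers z, a * b = b * a := fun a b => by
    obtain ⟨a, rfl⟩ := QuotientGroup.mk'_surjective _ a
    obtain ⟨b, rfl⟩ := QuotientGroup.mk'_surjective _ b
    rw [← commutatorElement_eq_one_iff_mul_comm, ← map_commutatorElement, QuotientGroup.mk'_apply,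
      QuotientGroup.eq_one_iff, ← hcom, _root_.commutator_def]
    exact commutator_mem_commutator (mem_top a) (mem_top b)
  have hπu : π u ≠ 1 := fun e => hu (Core.commutator_le_frattini (hcom ▸ (QuotientGroup.eq_one_iff u).1 e))
  obtain ⟨e, he, x₀, hx₀⟩ := exists_exponent_log (hX.to_quotient (zpowers z)) ⟨⟨π u, 1, hπu⟩⟩
  have hmemz : ∀ y : X, y ^ 2 ^ (e + 1) = 1 ∨ y ^ 2 ^ (e + 1) = z := fun y => by
    have h1 : y ^ 2 ^ (e + 1) ∈ zpowers z := by
      rw [← QuotientGroup.eq_one_iff, ← QuotientGroup.mk'_apply, map_pow]; exact he _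
    obtain ⟨i, hi⟩ := mem_zpowers_iff.1 h1
    rw [← hi]; exact hz2 i
  have hpowcen : ∀ y g : X, g * y ^ 2 ^ (e + 1) = y ^ 2 ^ (e + 1) * g := fun y g => by
    rcases hmemz y with h | h <;> rw [h]
    · simp
    · exact hzc g
  rcases e with _ | e
  · simp only [zero_add, pow_one] at he hmemz
    have hsqz : ∀ y : X, y * y = 1 ∨ y * y = z := fun y => by rw [← pow_two]; exact hmemz y
    have hΦz : frattini X ≤ zpowers z := mem_frattini_sq hX _ fun y => by
      rcases hsqz y with h | h <;> rw [h]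
      exacts [one_mem _, mem_zpowers z]
    obtain ⟨i, hi⟩ := mem_zpowers_iff.1 (hΦz hc)
    have hcα : α (α u) = u * α u * z ^ i := by rw [hi, mul_inv_cancel_left]
    have hzsq : z ^ i * z ^ i = 1 := by rcases hz2 i with h | h <;> rw [h] <;> simp [hz]
    have hαsq : ∀ y : X, α y * α y = y * y := fun y => by
      rw [← map_mul]; rcases hsqz y with h | h <;> rw [h]
      exacts [map_one α, hzα]
    have h2 : u * α u * (u * α u) = u * u := by
      have h1 : α (α u) * α (α u) = u * u := by rw [hαsq, hαsq]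
      rw [hcα] at h1
      rw [← h1]
      have hci : ∀ g, g * z ^ i = z ^ i * g := fun g => by
        rcases hz2 i with h | h <;> rw [h]
        · simp
        · exact hzc g
      calc u * α u * (u * α u) = u * α u * (u * α u) * (z ^ i * z ^ i) := by rw [hzsq, mul_one]
        _ = u * α u * ((u * α u) * z ^ i) * z ^ i := by group
        _ = u * α u * (z ^ i * (u * α u)) * z ^ i := by rw [hci (u * α u)]
        _ = u * α u * z ^ i * (u * α u * z ^ i) := by group
    rw [hsq, hαsq, huv] at h2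
    have huz : u * u = z := by
      rcases hsqz u with h | h
      · rw [h] at h2; simp at h2; exact absurd h2 hz1
      · exact h
    have hou : orderOf u = 2 * 2 := by
      have h4 : u ^ 4 = 1 := by rw [show 4 = 2 * 2 from rfl, pow_mul, pow_two u, huz, pow_two, hz]
      have := orderOf_eq_prime_pow (p := 2) (n := 1) (x := u) (by rw [pow_one, pow_two, huz]; exact hz1) h4
      simpa using this
    have hvv : α u * α u = z := by rw [hαsq, huz]
    have hzA : z ∈ zpowers u := huz ▸ mul_mem (mem_zpowers u) (mem_zpowers u)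
    have hconj : (α u)⁻¹ * u * α u = u⁻¹ := by
      have huv' : ⁅(α u)⁻¹, u⁆ = z := by
        refine (hcm _ _).resolve_left fun h1 => hz1 ?_
        rw [← huv, commutatorElement_eq_one_iff_commute.2]
        simpa using (commutatorElement_eq_one_iff_commute.1 h1).inv_left
      rw [commutatorElement_def, inv_inv] at huv'
      have : (α u)⁻¹ * u * α u = z * u := by rw [← huv']; group
      rw [this, eq_inv_iff_mul_eq_one, mul_assoc, huz, hz]
    have hvA : α u ∉ zpowers u := fun hv => by
      obtain ⟨i, hi⟩ := mem_zpowers_iff.1 hv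
      rw [← hi, commutatorElement_eq_one_iff_commute.2 ((Commute.refl u).zpow_left i)] at huv
      exact hz1 huv.symm
    refine Fusion.nonempty_mulEquiv_quaternion 2 (a := u) (g := α u) hou (by rw [pow_two u, hvv, huz]) hconj hvA ?_
    intro x
    have hx : x ∈ closure {u, α u} := hgen ▸ mem_top x
    let H : Subgroup X :=
      { carrier := {y | y ∈ zpowers u ∨ (α u)⁻¹ * y ∈ zpowers u}
        one_mem' := Or.inl (one_mem _)
        mul_mem' := by
          have hnorm : ∀ w ∈ zpowers u, (α u)⁻¹ * w * α u ∈ zpowers u := by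
            intro w hw
            obtain ⟨i, rfl⟩ := mem_zpowers_iff.1 hw
            have := conj_zpow (a := (α u)⁻¹) (b := u) (i := i)
            rw [inv_inv, hconj] at this
            rw [← this, inv_zpow]
            exact inv_mem (zpow_mem (mem_zpowers u) i)
          rintro p q (hp | hp) (hq | hq)
          · exact Or.inl (mul_mem hp hq)
          · refine Or.inr ?_
            rw [show (α u)⁻¹ * (p * q) = (α u)⁻¹ * p * α u * ((α u)⁻¹ * q) by group]
            exact mul_mem (hnorm p hp) hq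
          · exact Or.inr (by rw [← mul_assoc]; exact mul_mem hp hq)
          · refine Or.inl ?_
            rw [show p * q = α u * α u * ((α u)⁻¹ * ((α u)⁻¹ * p) * α u) * ((α u)⁻¹ * q) by group, hvv]
            exact mul_mem (mul_mem hzA (hnorm _ hp)) hq
        inv_mem' := by
          rintro p (hp | hp)
          · exact Or.inl (inv_mem hp)
          · refine Or.inr ?_
            rw [show (α u)⁻¹ * p⁻¹ = (α u)⁻¹ * ((α u)⁻¹ * p)⁻¹ * α u * (α u * α u)⁻¹ by group, hvv]
            obtain ⟨i, hi⟩ := mem_zpowers_iff.1 hp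
            have := conj_zpow (a := (α u)⁻¹) (b := u) (i := -i)
            rw [inv_inv, hconj] at this
            rw [← hi, ← zpow_neg, ← this]
            exact mul_mem (zpow_mem (inv_mem (mem_zpowers u)) _) (inv_mem hzA) }
    exact ((closure_le H).2 (by
      rintro w (rfl | rfl)
      · exact Or.inl (mem_zpowers _)
      · exact Or.inr (by simp)) hx : x ∈ H)
  exfalso
  -- the squares are central and squaring twice is multiplicative
  have hcen2 : ∀ y g : X, g * (y * y) = y * y * g := fun y g => by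
    have h1 : ⁅g, y * y⁆ = 1 := by
      have key : ∀ a : X, g * a * g⁻¹ = ⁅g, a⁆ * a := fun a => by rw [commutatorElement_def]; group
      rcases hcm g y with h | h
      · have hc1 : Commute g y := commutatorElement_eq_one_iff_commute.1 h
        exact commutatorElement_eq_one_iff_commute.2 (hc1.mul_right hc1)
      · rw [commutatorElement_def, show g * (y * y) * g⁻¹ = g * y * g⁻¹ * (g * y * g⁻¹) by group, key, h,
          show z * y * (z * y) = z * (y * z) * y by group, hzc y, ← mul_assoc, hz, one_mul, mul_inv_cancel]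
    exact commutatorElement_eq_one_iff_mul_comm.1 h1
  have hpow2 : ∀ k : ℕ, 2 ≤ k → ∀ a b : X, (a * b) ^ 2 ^ k = a ^ 2 ^ k * b ^ 2 ^ k := by
    intro k hk a b
    obtain ⟨k, rfl⟩ : ∃ j, k = j + 2 := ⟨k - 2, by omega⟩
    have hcab : ∀ g, g * ⁅b, a⁆ = ⁅b, a⁆ * g := fun g => by
      rcases hcm b a with h | h <;> rw [h]
      · simp
      · exact hzc g
    have hcsq : ⁅b, a⁆ * ⁅b, a⁆ = 1 := by rcases hcm b a with h | h <;> rw [h] <;> simp [hz]
    have h4 : (a * b) ^ 4 = a ^ 4 * b ^ 4 := by
      rw [show (4 : ℕ) = 2 * 2 from rfl, pow_mul, pow_mul, pow_mul, pow_two (a * b), hsq, pow_two,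
        show a * a * (b * b) * ⁅b, a⁆ * (a * a * (b * b) * ⁅b, a⁆) =
          a * a * (b * b) * (⁅b, a⁆ * (a * a * (b * b))) * ⁅b, a⁆ by group, ← hcab,
        show a * a * (b * b) * (a * a * (b * b) * ⁅b, a⁆) * ⁅b, a⁆ =
          a * a * (b * b * (a * a)) * (b * b) * (⁅b, a⁆ * ⁅b, a⁆) by group, hcsq, mul_one, hcen2 a (b * b),
        pow_two a, pow_two b, pow_two, pow_two]
      group
    rw [show 2 ^ (k + 2) = 4 * 2 ^ k by rw [pow_add]; ring, pow_mul, pow_mul, pow_mul, h4]
    refine Commute.mul_pow ?_ _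
    show a ^ 4 * b ^ 4 = b ^ 4 * a ^ 4
    rw [show (4 : ℕ) = 2 * 2 from rfl, pow_mul b, pow_two (b ^ 2), pow_two b, hcen2 (b * b)]
  have hαpow : ∀ y, (α y) ^ 2 ^ (e + 2) = y ^ 2 ^ (e + 2) := fun y => by
    rw [← map_pow]; rcases hmemz y with h | h <;> rw [h]
    exacts [map_one α, hzα]
  let L : Subgroup X :=
    { carrier := {y | y ^ 2 ^ (e + 2) = 1}
      one_mem' := one_pow _
      mul_mem' := fun {p q} (hp : p ^ 2 ^ (e + 2) = 1) (hq : q ^ 2 ^ (e + 2) = 1) => by
        show (p * q) ^ 2 ^ (e + 2) = 1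
        rw [hpow2 _ (by omega), hp, hq, mul_one]
      inv_mem' := fun {p} (hp : p ^ 2 ^ (e + 2) = 1) => by show p⁻¹ ^ 2 ^ (e + 2) = 1; rw [inv_pow, hp, inv_one] }
  have hΦ : frattini X ≤ L := mem_frattini_sq hX L fun y => by
    show (y * y) ^ 2 ^ (e + 2) = 1
    rw [← pow_two, ← pow_mul, mul_comm, pow_mul]
    rcases hmemz y with h | h <;> rw [h] <;> simp [pow_two, hz]
  have huL : u ^ 2 ^ (e + 2) = 1 := by
    have hcL : ((u * α u)⁻¹ * α (α u)) ^ 2 ^ (e + 2) = 1 := hΦ hc
    have h1 : (u * α u) ^ 2 ^ (e + 2) = u ^ 2 ^ (e + 2) := by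
      have h3 := hpow2 (e + 2) (by omega) (u * α u) ((u * α u)⁻¹ * α (α u))
      rw [mul_inv_cancel_left, hαpow, hαpow, hcL, mul_one] at h3
      exact h3.symm
    rw [hpow2 _ (by omega), hαpow] at h1
    exact mul_eq_left.1 h1
  have hvL : (α u) ^ 2 ^ (e + 2) = 1 := by rw [hαpow, huL]
  -- the top powers of `u`, `α u` and `z` generate an elementary abelian group of order eight
  set a := u ^ 2 ^ (e + 1) with ha
  set b := (α u) ^ 2 ^ (e + 1) with hb
  have hacen : ∀ g, g * a = a * g := fun g => by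
    rw [ha, pow_succ' 2 e, pow_mul, pow_two]
    exact (Commute.pow_right (show Commute g (u * u) from hcen2 u g) (2 ^ e)).eq
  have hbcen : ∀ g, g * b = b * g := fun g => by
    rw [hb, pow_succ' 2 e, pow_mul, pow_two]
    exact (Commute.pow_right (show Commute g (α u * α u) from hcen2 (α u) g) (2 ^ e)).eq
  have haa : a * a = 1 := by rw [ha, ← pow_add, ← two_mul, ← pow_succ', huL]
  have hbb : b * b = 1 := by rw [hb, ← pow_add, ← two_mul, ← pow_succ', hvL]
  let E : Subgroup X :=
    { carrier := {y | y * y = 1 ∧ ∀ g, g * y = y * g}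
      one_mem' := ⟨one_mul 1, fun g => by simp⟩
      mul_mem' := fun {p q} hp hq => ⟨by
        calc p * q * (p * q) = p * (q * p) * q := by group
          _ = p * (p * q) * q := by rw [hp.2 q]
          _ = (p * p) * (q * q) := by group
          _ = 1 := by rw [hp.1, hq.1, one_mul],
        fun g => by rw [← mul_assoc, hp.2, mul_assoc, hq.2, mul_assoc]⟩
      inv_mem' := fun {p} hp => by rwa [inv_eq_of_mul_eq_one_right hp.1] }
  have hE := card_elementary_le_four hm E fun y hy => by rw [pow_two]; exact hy.1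
  have haE : a ∈ E := ⟨haa, hacen⟩
  have hbE : b ∈ E := ⟨hbb, hbcen⟩
  have hzE : z ∈ E := ⟨hz, hzc⟩
  -- the images of `a` and `b` in the abelianisation are distinct involutions
  let M : Subgroup X :=
    { carrier := {y | π y ^ 2 ^ (e + 1) = 1}
      one_mem' := by simp
      mul_mem' := fun {p q} (hp : π p ^ 2 ^ (e + 1) = 1) (hq' : π q ^ 2 ^ (e + 1) = 1) => by
        show π (p * q) ^ 2 ^ (e + 1) = 1
        rw [map_mul, (show Commute (π p) (π q) from hq _ _).mul_pow, hp, hq', mul_one]
      inv_mem' := fun {p} (hp : π p ^ 2 ^ (e + 1) = 1) => by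
        show π p⁻¹ ^ 2 ^ (e + 1) = 1; rw [map_inv, inv_pow, hp, inv_one] }
  have hΦM : frattini X ≤ M := mem_frattini_sq hX M fun y => by
    show π (y * y) ^ 2 ^ (e + 1) = 1
    rw [← pow_two, map_pow, ← pow_mul, ← pow_succ', he]
  have hαM : ∀ y, y ∈ M → α y ∈ M := fun y (hy : π y ^ 2 ^ (e + 1) = 1) => by
    show π (α y) ^ 2 ^ (e + 1) = 1
    rw [← map_pow, hπ, QuotientGroup.mk'_apply, QuotientGroup.eq_one_iff, ← map_pow]
    rw [← map_pow, hπ, QuotientGroup.mk'_apply, QuotientGroup.eq_one_iff] at hy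
    obtain ⟨i, hi⟩ := mem_zpowers_iff.1 hy
    rw [← hi, map_zpow, hzα]
    exact zpow_mem (mem_zpowers z) i
  have huM : u ∉ M := fun huM => by
    obtain ⟨x₁, rfl⟩ := QuotientGroup.mk'_surjective _ x₀
    have hle : closure {u, α u} ≤ M := (closure_le _).2 (by
      rintro w (rfl | rfl)
      exacts [huM, hαM u huM])
    exact hx₀ (hle (hgen ▸ mem_top x₁))
  obtain ⟨k, hk⟩ : ∃ k, orderOf α = k + 1 := ⟨orderOf α - 1, by have := orderOf_pos α; omega⟩
  have hback : ∀ y, α y ∈ M → y ∈ M := fun y hy => by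
    have h1 : ∀ j : ℕ, (α ^ (j + 1)) y ∈ M := fun j => by
      induction j with
      | zero => simpa using hy
      | succ j ih => rw [pow_succ', MulAut.mul_apply]; exact hαM _ ih
    have := h1 k
    rwa [← hk, pow_orderOf_eq_one, MulAut.one_apply] at this
  have hvM : α u ∉ M := fun h => huM (hback u h)
  have huvM : u * α u ∉ M := fun h => by
    have h2 : α (α u) ∈ M := by
      have := M.mul_mem h (hΦM hc)
      rwa [mul_inv_cancel_left] at this
    exact hvM (hback _ h2)
  have hza : a ∉ zpowers z := fun h => huM (by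
    show π u ^ 2 ^ (e + 1) = 1
    rw [← map_pow]; exact (QuotientGroup.eq_one_iff _).2 h)
  have hzb : b ∉ zpowers z := fun h => hvM (by
    show π (α u) ^ 2 ^ (e + 1) = 1
    rw [← map_pow]; exact (QuotientGroup.eq_one_iff _).2 h)
  have hab : a * b ∉ zpowers z := fun h => huvM (by
    show π (u * α u) ^ 2 ^ (e + 1) = 1
    rw [map_mul, (show Commute (π u) (π (α u)) from hq _ _).mul_pow, ← map_pow, ← map_pow, ← map_mul]
    exact (QuotientGroup.eq_one_iff _).2 h)
  have h1z : (1 : X) ∈ zpowers z := one_mem _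
  have hzz : z ∈ zpowers z := mem_zpowers z
  have h5 : ({1, z, a, b, a * b} : Set X).ncard = 5 := by
    rw [Set.ncard_insert_of_notMem, Set.ncard_insert_of_notMem, Set.ncard_insert_of_notMem, Set.ncard_pair]
    · exact fun h => hab (by rw [← h]; exact absurd (mul_eq_right.1 h.symm) (fun e1 => hza (e1 ▸ h1z)))
    · simp only [Set.mem_insert_iff, Set.mem_singleton_iff, not_or]
      exact ⟨fun h => hab (by rw [← h, haa]; exact h1z), fun h => hzb (mul_eq_left.1 h.symm ▸ h1z)⟩
    · simp only [Set.mem_insert_iff, Set.mem_singleton_iff, not_or]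
      exact ⟨fun h => hza (h ▸ hzz), fun h => hzb (h ▸ hzz), fun h => hab (h ▸ hzz)⟩
    · simp only [Set.mem_insert_iff, Set.mem_singleton_iff, not_or]
      exact ⟨hz1.symm, fun h => hza (h ▸ h1z), fun h => hzb (h ▸ h1z), fun h => hab (h ▸ h1z)⟩
  have hsub : ({1, z, a, b, a * b} : Set X) ⊆ (E : Set X) := by
    rintro y (rfl | rfl | rfl | rfl | rfl)
    exacts [one_mem E, hzE, haE, hbE, mul_mem haE hbE]
  have h6 := Set.ncard_le_ncard hsub
  rw [h5] at h6
  have h7 : (E : Set X).ncard = Nat.card E := (Nat.card_coe_set_eq _).symm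
  omega

/-- A metacyclic 2-group with a nontrivial automorphism of odd order is quaternion of order eight or
homocyclic. -/
theorem metacyclic_odd_aut (hX : IsPGroup 2 X) (hm : Cfsg.IsMetacyclic X) (α : MulAut X) (hα : α ≠ 1)
    (hodd : Odd (orderOf α)) :
    Nonempty (X ≃* QuaternionGroup 2) ∨
      ∃ n : ℕ, Nonempty (X ≃* Multiplicative (ZMod (2 ^ n)) × Multiplicative (ZMod (2 ^ n))) := by
  have : Fact (Nat.Prime 2) := ⟨Nat.prime_two⟩
  have := hX.isNilpotent
  by_cases hne : commutator X = ⊥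
  · refine Or.inr (abelian_case hX (frattini_index_le_four hX hm) α hα hodd fun a b =>
      commutatorElement_eq_one_iff_mul_comm.1 (mem_bot.1 (hne ▸ ?_)))
    rw [_root_.commutator_def]; exact commutator_mem_commutator (mem_top a) (mem_top b)
  left
  have hcyc : IsCyclic (commutator X) := by
    obtain ⟨N, hN, hNc, hQc⟩ := hm
    have hle : commutator X ≤ N := by
      let _ : CommGroup (X ⧸ N) := IsCyclic.commGroup
      have h2 := Abelianization.commutator_subset_ker (QuotientGroup.mk' N)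
      rwa [QuotientGroup.ker_mk'] at h2
    exact (subgroupOfEquivOfLe hle).isCyclic.1 inferInstance
  obtain ⟨⟨c, hcC⟩, hc⟩ := IsCyclic.exists_generator (α := commutator X)
  have hcz : commutator X = zpowers c := le_antisymm (fun w hw => by
    obtain ⟨i, hi⟩ := mem_zpowers_iff.1 (hc ⟨w, hw⟩)
    exact ⟨i, congrArg Subtype.val hi⟩) (zpowers_le.2 hcC)
  set D := zpowers (c * c) with hD
  have hDc : ∀ w ∈ D, ∀ f : X →* X, f c ∈ zpowers c → f w ∈ D := fun w hw f hf => by
    obtain ⟨i, rfl⟩ := mem_zpowers_iff.1 hw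
    obtain ⟨j, hj⟩ := mem_zpowers_iff.1 hf
    refine mem_zpowers_iff.2 ⟨j * i, ?_⟩
    rw [map_zpow, map_mul, ← hj, zpow_mul, ((Commute.refl c).mul_zpow j)]
  have hDn : D.Normal := ⟨fun w hw g => by
    have := hDc w hw (MulAut.conj g).toMonoidHom
      (hcz ▸ (inferInstance : (commutator X).Normal).conj_mem c hcC g)
    simpa using this⟩
  have hαc : ∀ β : MulAut X, β c ∈ zpowers c := fun β =>
    hcz ▸ (characteristic_iff_map_le.1 (inferInstance : (commutator X).Characteristic) β) ⟨c, hcC, rfl⟩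
  have hDα : D.map α.toMonoidHom = D := by
    refine eq_of_le_of_card_ge (fun w ⟨v, hv, e⟩ => e ▸ hDc v hv α.toMonoidHom (hαc α)) ?_
    rw [card_map_of_injective (f := α.toMonoidHom) α.injective]
  let β : MulAut (X ⧸ D) := QuotientGroup.congr D D α hDα
  have hDΦ : D ≤ frattini X :=
    (zpowers_le.2 (mul_mem hcC hcC)).trans Core.commutator_le_frattini
  have hβapp : ∀ x : X, β (x : X ⧸ D) = ((α x : X) : X ⧸ D) := fun x => rfl
  obtain ⟨hnofix, u, hu, -, -⟩ := orbit_three hX (frattini_index_le_four hX hm) α hα hodd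
  have hβ : β ≠ 1 := fun h => by
    refine hnofix u hu ?_
    have h2 := hβapp u
    rw [h, MulAut.one_apply] at h2
    exact QuotientGroup.eq.2 (hDΦ (QuotientGroup.eq.1 h2.symm))
  have hβodd : Odd (orderOf β) := by
    refine hodd.of_dvd_nat (orderOf_dvd_iff_pow_eq_one.2 (MulEquiv.ext fun q => ?_))
    obtain ⟨x, rfl⟩ := QuotientGroup.mk_surjective q
    have : ∀ k : ℕ, (β ^ k) (x : X ⧸ D) = (((α ^ k) x : X) : X ⧸ D) := fun k => by
      induction k with
      | zero => rfl
      | succ k ih => rw [pow_succ', pow_succ', MulAut.mul_apply, ih, MulAut.mul_apply, hβapp]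
    rw [this, pow_orderOf_eq_one]; rfl
  set π := QuotientGroup.mk' D with hπ
  have hcomY : commutator (X ⧸ D) = zpowers (π c) := by
    rw [← MonoidHom.map_zpowers, ← hcz, _root_.commutator_def, _root_.commutator_def, map_commutator,
      map_top_of_surjective π (QuotientGroup.mk'_surjective D)]
  have hz : π c * π c = 1 := by
    rw [← map_mul]; exact (QuotientGroup.eq_one_iff _).2 (mem_zpowers _)
  obtain ⟨m, hm'⟩ := IsPGroup.iff_orderOf.1 hX c
  have hm0 : m ≠ 0 := fun h => hne (by rw [hcz, zpowers_eq_bot, ← orderOf_eq_one_iff, hm', h, pow_zero])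
  have hz1 : π c ≠ 1 := fun h => by
    obtain ⟨i, hi⟩ := mem_zpowers_iff.1 ((QuotientGroup.eq_one_iff c).1 h : c ∈ D)
    rw [(Commute.refl c).mul_zpow, ← zpow_add] at hi
    have h1 : c ^ (i + i) = c ^ (1 : ℤ) := hi.trans (zpow_one c).symm
    rw [zpow_eq_iff hm'] at h1
    have := (dvd_pow_self (2 : ℤ) hm0).trans h1
    omega
  obtain ⟨eY⟩ := quaternion_case (hX.to_quotient D) (isMetacyclic_quotient hm D) β hβ hβodd (π c) hz hz1 hcomY
  by_cases hD1 : c * c = 1
  · have hDbot : D = ⊥ := by rw [hD, hD1, zpowers_one_eq_bot]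
    exact ⟨(((QuotientGroup.quotientMulEquivOfEq hDbot).trans QuotientGroup.quotientBot).symm).trans eY⟩
  exfalso
  have hi4 : (commutator X).index = 4 := by
    have h1 := index_map_eq (commutator X) (QuotientGroup.mk'_surjective D)
      (by rw [QuotientGroup.ker_mk']; exact zpowers_le.2 (mul_mem hcC hcC))
    have h2 := (commutator (X ⧸ D)).card_mul_index
    have h3 : (zpowers (π c)).index = (commutator X).index := by rw [← MonoidHom.map_zpowers, ← hcz]; exact h1
    rw [hcomY, Nat.card_zpowers, orderOf_eq_prime (p := 2) (by rw [pow_two]; exact hz) hz1,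
      Nat.card_congr eY.toEquiv, Nat.card_eq_fintype_card, QuaternionGroup.card] at h2
    omega
  obtain ⟨k, a, b, w, hk, hcard, ha, hai, hb, hw, hab⟩ := (mc_of_commutator hX hi4 hne).data
  have hm2 : 2 ≤ m := by
    by_contra hlt
    exact hD1 (by rw [← pow_two]; exact orderOf_dvd_iff_pow_eq_one.1 (hm' ▸ (pow_dvd_pow 2 (show m ≤ 1 by omega)).trans (pow_one 2).dvd))
  have hk3 : 3 ≤ k := by
    have h1 := (commutator X).card_mul_index
    rw [hcz, Nat.card_zpowers, hm', ← hcz, hi4, hcard, show (4 : ℕ) = 2 ^ 2 by norm_num, ← pow_add] at h1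
    have := Nat.pow_right_injective le_rfl h1
    omega
  set C := centralizer (commutator X : Set X) with hC
  have hCX' : ∀ y, y ∈ C ↔ y * c = c * y := by
    intro y
    constructor
    · intro hy; exact (mem_centralizer_iff.1 hy c hcC).symm
    · intro hy
      refine mem_centralizer_iff.2 fun w hw' => ?_
      rw [SetLike.mem_coe, hcz] at hw'
      obtain ⟨i, rfl⟩ := mem_zpowers_iff.1 hw'
      exact ((show Commute y c from hy).zpow_right i).symm.eq
  have hcA : c ∈ zpowers a := by
    have hle : commutator X ≤ zpowers a := by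
      have hAn := normal_of_index_eq_two hai
      have : IsCyclic (X ⧸ zpowers a) := isCyclic_of_prime_card (p := 2) (by rw [← index_eq_card, hai])
      let _ : CommGroup (X ⧸ zpowers a) := IsCyclic.commGroup
      have h2 := Abelianization.commutator_subset_ker (QuotientGroup.mk' (zpowers a))
      rwa [QuotientGroup.ker_mk'] at h2
    exact hle hcC
  have haC : a ∈ C := (hCX' a).2 (by
    obtain ⟨i, rfl⟩ := mem_zpowers_iff.1 hcA
    exact ((Commute.refl a).zpow_right i).eq)
  have hbC : b ∉ C := by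
    intro hbC
    have h1 : ⁅b, a⁆ ∈ commutator X := by
      rw [_root_.commutator_def]; exact commutator_mem_commutator (mem_top b) (mem_top a)
    have h2 : ⁅b, a⁆ = a ^ (2 * w) := by
      rw [commutatorElement_def, hab, zpow_add_one, mul_inv_cancel_right]
    have h3 := mem_centralizer_iff.1 hbC _ h1
    rw [h2] at h3
    have h4 : a ^ ((2 * w + 1) * (2 * w)) = a ^ (2 * w) := by
      rw [← conj_zpow_of_eq hab, ← h3, mul_inv_cancel_right]
    rw [zpow_eq_iff ha, show 2 * w - (2 * w + 1) * (2 * w) = -(4 * (w * w)) by ring, dvd_neg] at h4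
    obtain ⟨j, rfl⟩ : ∃ j, k = j + 3 := ⟨k - 3, by omega⟩
    rw [show (2 : ℤ) ^ (j + 3) = 4 * 2 ^ (j + 1) by ring, mul_dvd_mul_iff_left (by norm_num)] at h4
    exact (Int.not_even_iff_odd.2 (hw.mul hw)) (even_iff_two_dvd.2 ((dvd_pow_self 2 (by omega)).trans h4))
  have hCchar : C.Characteristic := by rw [hC]; infer_instance
  have hΦC : frattini X ≤ C := mem_frattini_sq hX C fun y => by
    rcases cover_of_index_two hai hb y with hy | hy
    · exact mul_mem ((zpowers_le.2 haC) hy) ((zpowers_le.2 haC) hy)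
    · exact (zpowers_le.2 haC) ((mul_mem_iff_of_index_two hai).2 Iff.rfl)
  obtain ⟨-, v, hv, hgen, hc'⟩ := orbit_three hX (frattini_index_le_four hX hm) α hα hodd
  have hαC : ∀ (γ : MulAut X) (y : X), y ∈ C → γ y ∈ C := fun γ y hy =>
    characteristic_iff_map_le.1 hCchar γ ⟨y, hy, rfl⟩
  have hvC : v ∉ C := fun h => hbC ((closure_le C).2 (by
    rintro y (rfl | rfl)
    exacts [h, hαC α v h]) (hgen ▸ mem_top b))
  have hαvC : α v ∉ C := fun h => hvC (by simpa using hαC α.symm _ h)
  have hαα : α (α v) ∉ C := fun h => hαvC (by simpa using hαC α.symm _ h)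
  refine hαα ?_
  have hCi : C = zpowers a := by
    refine le_antisymm (fun y hy => ?_) (zpowers_le.2 haC)
    rcases cover_of_index_two hai hb y with h | h
    · exact h
    · exfalso
      have := mul_mem hy (inv_mem ((zpowers_le.2 haC) h))
      rw [mul_inv_rev, inv_inv, ← mul_assoc, mul_inv_cancel, one_mul] at this
      exact hbC this
  have huv : v * α v ∈ C := by
    rw [hCi] at hvC hαvC ⊢
    exact (mul_mem_iff_of_index_two hai).2 (iff_of_false hvC hαvC)
  have := mul_mem huv (hΦC hc')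
  rwa [mul_inv_cancel_left] at this

end Cfsg.Agent.MaxClass
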