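import Cfsg.Agent.MaxClass.OddP

/-!
A p-group with a small self-centralising subgroup has maximal class.
-/

set_option autoImplicit false

namespace Cfsg.Agent.MaxClass

open Subgroup
open scoped commutatorElement

variable {p : ℕ} [hp : Fact p.Prime]

/-- The elements centralising a subgroup modulo the centre, as the preimage of a centraliser. -/
theorem mem_preimage_centralizer {X : Type*} [Group X] {Z : Subgroup X} [Z.Normal] {a x : X} :
    x ∈ (centralizer ({QuotientGroup.mk' Z a} : Set (X ⧸ Z))).comap (QuotientGroup.mk' Z) ↔ ⁅x, a⁆ ∈ Z := by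
  rw [mem_comap, mem_centralizer_singleton_iff, ← commutatorElement_eq_one_iff_mul_comm, ← map_commutatorElement,
    QuotientGroup.mk'_apply, QuotientGroup.eq_one_iff]

theorem card_center_of_selfcent {X : Type*} [Group X] [Finite X] (hX : IsPGroup p X) (A : Subgroup X) {k : ℕ}
    (hA : Nat.card A = p ^ k) (hk : 1 ≤ k) (hAC : centralizer (A : Set X) ≤ A) :
    center X ≤ A ∧ p ∣ Nat.card (center X) := by
  refine ⟨(center_le_centralizer _).trans hAC, ?_⟩
  have : Nontrivial X := by
    by_contra h
    rw [not_nontrivial_iff_subsingleton] at h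
    have : Nat.card A = 1 := Nat.card_eq_one_iff_unique.2 ⟨inferInstance, inferInstance⟩
    rw [hA] at this
    exact absurd this (Nat.one_lt_pow (by omega) hp.out.one_lt).ne'
  have := hX.center_nontrivial
  obtain ⟨j, hj⟩ := IsPGroup.iff_card.1 (hX.to_subgroup (center X))
  rw [hj]
  refine dvd_pow_self p fun h0 => ?_
  rw [h0, pow_zero] at hj
  exact (Finite.one_lt_card (α := center X)).ne' hj

theorem class_succ_of_quotient {X : Type*} [Group X] [Finite X] (hX : IsPGroup p X) [Nontrivial X] {n : ℕ}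
    (h : Group.nilpotencyClass (X ⧸ center X) = n) : Group.nilpotencyClass X = n + 1 := by
  have := hX.isNilpotent
  rw [nilpotencyClass_quotient_center] at h
  have : Group.nilpotencyClass X ≠ 0 := fun h0 => by
    rw [nilpotencyClass_zero_iff_subsingleton] at h0
    exact false_of_nontrivial_of_subsingleton X
  omega

/-- A self-centralising subgroup of order `p ^ 2` forces maximal class. -/
theorem class_of_selfcent_sq : ∀ (n : ℕ) (X : Type*) [Group X] [Finite X], Nat.card X = p ^ n →
    ∀ A : Subgroup X, Nat.card A = p ^ 2 → centralizer (A : Set X) ≤ A → Group.nilpotencyClass X = n - 1 := by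
  intro n
  induction n using Nat.strong_induction_on with
  | _ n ih =>
  intro X _ _ hn A hA hAC
  have hX : IsPGroup p X := IsPGroup.of_card hn
  have := hX.isNilpotent
  have hpp := hp.out
  obtain ⟨hZA, hpZ⟩ := card_center_of_selfcent hX A hA (by norm_num) hAC
  obtain ⟨j, hj2, hj⟩ := (Nat.dvd_prime_pow hpp).1 (hA ▸ card_dvd_of_le hZA)
  have hnt : Nontrivial X := by
    refine Finite.one_lt_card_iff_nontrivial.1 ?_
    have h1 := Nat.le_of_dvd Nat.card_pos A.card_subgroup_dvd_card
    rw [hA] at h1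
    exact lt_of_lt_of_le (Nat.one_lt_pow (by norm_num) hpp.one_lt) h1
  rcases (by
    rcases j with _ | _ | _ | j
    · exfalso; rw [hj, pow_zero] at hpZ; exact hpp.one_lt.ne' (Nat.dvd_one.1 hpZ)
    · left; rfl
    · right; rfl
    · omega : j = 1 ∨ j = 2) with rfl | rfl
  swap
  · have hZeq : center X = A := eq_of_le_of_card_ge hZA (by rw [hA, hj])
    have htop : A = ⊤ := eq_top_iff.2 fun x _ => hAC (mem_centralizer_iff.2 fun a ha =>
      (mem_center_iff.1 (hZeq.symm ▸ ha : a ∈ center X) x).symm)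
    have h2 : n = 2 := Nat.pow_right_injective hpp.two_le (hn.symm.trans (show Nat.card X = p ^ 2 by rw [← hA, htop, card_top]))
    subst h2
    have hq : Subsingleton (X ⧸ center X) := (Nat.card_eq_one_iff_unique.1 (by
      rw [← index_eq_card, hZeq, htop, index_top])).1
    exact class_succ_of_quotient hX (n := 0) (nilpotencyClass_zero_iff_subsingleton.2 hq)
  rw [pow_one] at hj
  set Z := center X with hZ
  obtain ⟨a, haA, haZ⟩ : ∃ a ∈ A, a ∉ Z := by
    by_contra! h
    have := card_le_of_le (show A ≤ Z from h)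
    rw [hA, hj] at this
    have := hpp.two_le
    nlinarith
  set π := QuotientGroup.mk' Z
  set D := (centralizer ({π a} : Set (X ⧸ Z))).comap π with hD
  have hZD : Z ≤ D := fun z hz => mem_preimage_centralizer.2 (by
    rw [commutatorElement_eq_one_iff_mul_comm.2 (mem_center_iff.1 hz a).symm]; exact one_mem _)
  have hAgen : A ≤ Z ⊔ zpowers a := by
    have hlt : Z < Z ⊔ zpowers a := lt_of_le_of_ne le_sup_left fun e => haZ (e ▸ le_sup_right (a := Z) (mem_zpowers a))
    have hle : Z ⊔ zpowers a ≤ A := sup_le hZA (zpowers_le.2 haA)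
    obtain ⟨i, hi⟩ := IsPGroup.iff_card.1 (hX.to_subgroup (Z ⊔ zpowers a))
    refine (eq_of_le_of_card_ge hle ?_).symm.le
    rw [hA, hi]
    refine Nat.pow_le_pow_right hpp.pos ?_
    by_contra hi2
    exact hlt.ne (eq_of_le_of_card_ge hlt.le (by
      rw [hj, hi]; exact (Nat.pow_le_pow_right hpp.pos (show i ≤ 1 by omega)).trans (pow_one p).le))
  have hCa : centralizer ({a} : Set X) ≤ A := fun x hx => hAC (mem_centralizer_iff.2 fun w hw => by
    have hle : Z ⊔ zpowers a ≤ centralizer ({x} : Set X) := sup_le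
      (fun z hz => mem_centralizer_singleton_iff.2 (mem_center_iff.1 hz x).symm)
      (zpowers_le.2 (mem_centralizer_singleton_iff.2 (mem_centralizer_singleton_iff.1 hx).symm))
    exact mem_centralizer_singleton_iff.1 (hle (hAgen hw)))
  have hAab : ∀ u ∈ A, ∀ v ∈ A, u * v = v * u := fun u hu v hv =>
    congrArg Subtype.val ((IsPGroup.commGroupOfCardEqPrimeSq hA).mul_comm (⟨u, hu⟩ : A) ⟨v, hv⟩)
  have hAD : A ≤ D := fun u hu => mem_preimage_centralizer.2 (by
    rw [commutatorElement_eq_one_iff_mul_comm.2 (hAab u hu a haA)]; exact one_mem _)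
  have hDcard : Nat.card D ≤ p * p ^ 2 := by
    let f : D ⧸ A.subgroupOf D → Z := fun q => ⟨⁅(q.out : X), a⁆, mem_preimage_centralizer.1 q.out.2⟩
    have hf : Function.Injective f := fun x y h => by
      have h' : ⁅(x.out : X), a⁆ = ⁅(y.out : X), a⁆ := congrArg Subtype.val h
      rw [← Quotient.out_eq x, ← Quotient.out_eq y]
      refine QuotientGroup.eq.2 (mem_subgroupOf.2 (hCa (mem_centralizer_singleton_iff.2 ?_)))
      have h2 : (x.out : X) * a * (x.out : X)⁻¹ = y.out * a * (y.out : X)⁻¹ := by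
        have := congrArg (· * a) h'
        simpa [commutatorElement_def, mul_assoc] using this
      show (x.out : X)⁻¹ * y.out * a = a * ((x.out : X)⁻¹ * y.out)
      calc (x.out : X)⁻¹ * y.out * a = (x.out : X)⁻¹ * (y.out * a * (y.out : X)⁻¹) * y.out := by group
        _ = (x.out : X)⁻¹ * (x.out * a * (x.out : X)⁻¹) * y.out := by rw [h2]
        _ = a * ((x.out : X)⁻¹ * y.out) := by group
    have h1 := Nat.card_le_card_of_injective f hf
    rw [← index_eq_card, hj] at h1
    have h2 := (A.subgroupOf D).card_mul_index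
    rw [Nat.card_congr (subgroupOfEquivOfLe hAD).toEquiv, hA] at h2
    rw [← h2, mul_comm p]
    exact Nat.mul_le_mul_left _ h1
  have hDmap : D.map π = centralizer ({π a} : Set (X ⧸ Z)) :=
    map_comap_eq_self_of_surjective (QuotientGroup.mk'_surjective Z) _
  set C := centralizer ({π a} : Set (X ⧸ Z)) with hC
  have hCcard : Nat.card C * p = Nat.card D := by
    have h1 := D.card_mul_index
    have h2 := C.card_mul_index
    have h3 : D.index = C.index := index_comap_of_surjective _ (QuotientGroup.mk'_surjective Z)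
    rw [h3] at h1
    have h4 := Z.card_mul_index
    rw [hj, index_eq_card] at h4
    rw [← h4, ← h2] at h1
    have hpos : 0 < C.index := Nat.pos_of_ne_zero index_ne_zero_of_finite
    rw [← mul_assoc] at h1
    rw [mul_comm (Nat.card C)]
    exact (Nat.eq_of_mul_eq_mul_right hpos h1).symm
  obtain ⟨m, hm⟩ : ∃ m, n = m + 1 := ⟨n - 1, by
    have : n ≠ 0 := fun h => by
      rw [h, pow_zero] at hn; exact (Finite.one_lt_card (α := X)).ne' hn
    omega⟩
  subst hm
  have hqcard : Nat.card (X ⧸ Z) = p ^ m := by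
    have h4 := Z.card_mul_index
    rw [hj, index_eq_card, hn, pow_succ'] at h4
    exact Nat.eq_of_mul_eq_mul_left hpp.pos h4
  have hqP : IsPGroup p (X ⧸ Z) := IsPGroup.of_card hqcard
  obtain ⟨i, hi⟩ := IsPGroup.iff_card.1 (hqP.to_subgroup C)
  have hi2 : i = 2 := by
    have hub : i ≤ 2 := by
      rw [← hCcard, hi, mul_comm p (p ^ 2)] at hDcard
      exact (Nat.pow_le_pow_iff_right hpp.one_lt).1 (Nat.le_of_mul_le_mul_right hDcard hpp.pos)
    by_contra hne
    have hD2 : Nat.card D ≤ p ^ 2 := by
      rw [← hCcard, hi, ← pow_succ]; exact Nat.pow_le_pow_right hpp.pos (by omega)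
    have hDA : D = A := (eq_of_le_of_card_ge hAD (by rw [hA]; exact hD2)).symm
    -- the centraliser of `π a` is then the image of `A`, of order `p`
    have hCz : C = zpowers (π a) := by
      refine le_antisymm ?_ (zpowers_le.2 (mem_centralizer_singleton_iff.2 rfl))
      rw [← hDmap, hDA]
      refine (map_mono hAgen).trans ?_
      rw [Subgroup.map_sup, MonoidHom.map_zpowers, QuotientGroup.map_mk'_self, bot_sup_eq]
    have hπa1 : π a ≠ 1 := fun h => haZ ((QuotientGroup.eq_one_iff a).1 h)
    have hqnt : Nontrivial (X ⧸ Z) := ⟨⟨π a, 1, hπa1⟩⟩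
    have := hqP.center_nontrivial
    obtain ⟨⟨w, hw⟩, hw1⟩ := exists_ne (1 : center (X ⧸ Z))
    have hwC : w ∈ zpowers (π a) := hCz ▸ center_le_centralizer _ hw
    have hcardC : Nat.card (zpowers (π a)) ≤ p := by
      rw [← hCz]
      rw [← hCcard] at hD2
      exact Nat.le_of_mul_le_mul_right (by rwa [← pow_two]) hpp.pos
    have heq : zpowers w = zpowers (π a) := eq_of_le_of_card_ge (zpowers_le.2 hwC) (by
      obtain ⟨v, hv⟩ := IsPGroup.iff_orderOf.1 hqP w
      rw [Nat.card_zpowers w, hv]
      refine hcardC.trans (Nat.le_self_pow (fun h0 => hw1 ?_) p)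
      rw [h0, pow_zero] at hv
      exact Subtype.ext (orderOf_eq_one_iff.1 hv))
    have hac : π a ∈ center (X ⧸ Z) := zpowers_le.2 hw (heq ▸ mem_zpowers (π a))
    have htop : C = ⊤ := eq_top_iff.2 fun x _ => mem_centralizer_singleton_iff.2 (mem_center_iff.1 hac x)
    have hDtop : D = ⊤ := by rw [hD, htop, comap_top]
    have hAtop : A = ⊤ := hDA ▸ hDtop
    have hcen : A ≤ Z := fun u hu => mem_center_iff.2 fun x => hAab x (hAtop ▸ mem_top x) u hu
    exact haZ (hcen haA)
  subst hi2
  rw [hi] at hCcard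
  have hCsc : centralizer (C : Set (X ⧸ Z)) ≤ C := fun x hx =>
    mem_centralizer_singleton_iff.2 (mem_centralizer_iff.1 hx (π a) (mem_centralizer_singleton_iff.2 rfl)).symm
  have hcl := ih m (by omega) (X ⧸ Z) hqcard C hi hCsc
  have hm2 : 2 ≤ m := (Nat.pow_le_pow_iff_right hpp.one_lt).1 (by
    rw [← hqcard, ← hi]; exact Nat.le_of_dvd Nat.card_pos C.card_subgroup_dvd_card)
  rw [class_succ_of_quotient hX hcl]
  omega

/-- A self-centralising nonabelian subgroup of order `p ^ 3` forces maximal class. -/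
theorem class_of_selfcent_cube {X : Type*} [Group X] [Finite X] {n : ℕ} (hn : Nat.card X = p ^ n)
    (B : Subgroup X) (hB : Nat.card B = p ^ 3) (hBna : ¬ IsMulCommutative B)
    (hC : centralizer (B : Set X) ≤ B) : Group.nilpotencyClass X = n - 1 := by
  have hpp := hp.out
  have hX : IsPGroup p X := IsPGroup.of_card hn
  have hBp : IsPGroup p B := hX.to_subgroup B
  obtain ⟨hZB, hpZ⟩ := card_center_of_selfcent hX B hB (by norm_num) hC
  have hBnt : Nontrivial B := by
    by_contra h; rw [not_nontrivial_iff_subsingleton] at h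
    exact hBna ⟨⟨fun _ _ => Subsingleton.elim _ _⟩⟩
  set ZB := (center B).map B.subtype with hZBdef
  have hZB' : Nat.card ZB = p := by
    rw [hZBdef, card_map_of_injective B.subtype_injective]
    have h1 := sq_le_index_center hBp hBna
    have h2 := (center B).card_mul_index
    rw [hB] at h2
    have := hBp.center_nontrivial
    obtain ⟨i, hi⟩ := IsPGroup.iff_card.1 (hBp.to_subgroup (center B))
    rw [hi] at h2 ⊢
    have hi1 : 1 ≤ i := by
      by_contra h0
      rw [show i = 0 by omega, pow_zero] at hi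
      exact (Finite.one_lt_card (α := center B)).ne' hi
    have hi' : i ≤ 1 := by
      have h3 : p ^ i * p ^ 2 ≤ p ^ 3 := (Nat.mul_le_mul_left _ h1).trans h2.le
      rw [← pow_add] at h3
      have := (Nat.pow_le_pow_iff_right hpp.one_lt).1 h3
      omega
    rw [show i = 1 by omega, pow_one]
  have hCB : centralizer (B : Set X) = ZB := by
    ext x
    constructor
    · intro hx
      exact ⟨⟨x, hC hx⟩, mem_center_iff.2 fun q => Subtype.ext (mem_centralizer_iff.1 hx q q.2), rfl⟩
    · rintro ⟨q, hq, rfl⟩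
      exact mem_centralizer_iff.2 fun w hw => congrArg Subtype.val (mem_center_iff.1 hq ⟨w, hw⟩)
  have hZeq : center X = ZB := eq_of_le_of_card_ge ((center_le_centralizer _).trans hCB.le)
    (by rw [hZB']; exact Nat.le_of_dvd Nat.card_pos hpZ)
  set Z := center X with hZ
  set π := QuotientGroup.mk' Z
  set Bq := B.map π with hBq
  have hZBle : Z ≤ B := hZB
  have hker : π.ker ≤ B := by rwa [QuotientGroup.ker_mk']
  have hBqcard : Nat.card Bq = p ^ 2 := by
    have h1 : Bq.index = B.index := index_map_eq B (QuotientGroup.mk'_surjective Z) hker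
    have h2 := Bq.card_mul_index
    have h3 := B.card_mul_index
    have h4 := Z.card_mul_index
    rw [hZeq, hZB', ← hZeq, index_eq_card] at h4
    rw [h1, ← Nat.mul_right_inj hpp.pos.ne', h4, ← h3, hB, ← mul_assoc] at h2
    have := Nat.eq_of_mul_eq_mul_right (Nat.pos_of_ne_zero index_ne_zero_of_finite) h2
    rw [pow_succ' p 2] at this
    exact Nat.eq_of_mul_eq_mul_left hpp.pos this
  obtain ⟨u, huB, v, hvB, huv⟩ : ∃ u ∈ B, ∃ v ∈ B, u * v ≠ v * u := by
    by_contra! h
    exact hBna ⟨⟨fun x y => Subtype.ext (h x x.2 y y.2)⟩⟩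
  have hBgen : B ≤ closure {u, v} := by
    have hle : closure {u, v} ≤ B := (closure_le _).2 (by rintro w (rfl | rfl) <;> assumption)
    obtain ⟨i, hi⟩ := IsPGroup.iff_card.1 (hX.to_subgroup (closure {u, v}))
    refine (eq_of_le_of_card_ge hle ?_).symm.le
    rw [hB, hi]
    refine Nat.pow_le_pow_right hpp.pos ?_
    by_contra hlt
    refine huv ?_
    rcases (by omega : i = 0 ∨ i = 1 ∨ i = 2) with rfl | rfl | rfl
    · have hb : closure {u, v} = ⊥ := eq_bot_of_card_eq _ (by rw [hi, pow_zero])
      have hu : u ∈ (⊥ : Subgroup X) := hb ▸ subset_closure (by simp)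
      rw [mem_bot] at hu; simp [hu]
    · have : IsCyclic (closure {u, v}) := isCyclic_of_prime_card (p := p) (by rw [hi, pow_one])
      exact congrArg Subtype.val ((IsCyclic.commGroup (α := closure {u, v})).mul_comm
        ⟨u, subset_closure (by simp)⟩ ⟨v, subset_closure (by simp)⟩)
    · exact congrArg Subtype.val ((IsPGroup.commGroupOfCardEqPrimeSq hi).mul_comm
        (⟨u, subset_closure (by simp)⟩ : closure {u, v}) ⟨v, subset_closure (by simp)⟩)
  have hCu : ∀ x, x * u = u * x → x * v = v * x → x ∈ Z := fun x h1 h2 => by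
    rw [hZeq, ← hCB]
    refine mem_centralizer_iff.2 fun w hw => ?_
    have hle : closure {u, v} ≤ centralizer ({x} : Set X) := (closure_le _).2 (by
      rintro y (rfl | rfl)
      exacts [mem_centralizer_singleton_iff.2 h1.symm, mem_centralizer_singleton_iff.2 h2.symm])
    exact mem_centralizer_singleton_iff.1 (hle (hBgen hw))
  set D := (centralizer (Bq : Set (X ⧸ Z))).comap π
  have hDmem : ∀ x ∈ D, ∀ b ∈ B, ⁅x, b⁆ ∈ Z := fun x hx b hb => by
    have h := mem_centralizer_iff.1 (mem_comap.1 hx) (π b) ⟨b, hb, rfl⟩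
    rw [← QuotientGroup.eq_one_iff, ← QuotientGroup.mk'_apply, map_commutatorElement,
      commutatorElement_eq_one_iff_mul_comm]
    exact h.symm
  have hBD : B ≤ D := by
    intro x hx
    refine mem_comap.2 (mem_centralizer_iff.2 ?_)
    rintro _ ⟨b, hb, rfl⟩
    exact congrArg Subtype.val ((IsPGroup.commGroupOfCardEqPrimeSq hBqcard).mul_comm
      (⟨π b, b, hb, rfl⟩ : Bq) ⟨π x, x, hx, rfl⟩)
  have hZD : Z ≤ D := hZBle.trans hBD
  have hDcard : Nat.card D ≤ p ^ 3 := by
    let f : D ⧸ Z.subgroupOf D → Z × Z := fun q =>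
      (⟨⁅(q.out : X), u⁆, hDmem _ q.out.2 u huB⟩, ⟨⁅(q.out : X), v⁆, hDmem _ q.out.2 v hvB⟩)
    have hf : Function.Injective f := fun x y h => by
      rw [← Quotient.out_eq x, ← Quotient.out_eq y]
      refine QuotientGroup.eq.2 (mem_subgroupOf.2 ?_)
      have key : ∀ w : X, ⁅(x.out : X), w⁆ = ⁅(y.out : X), w⁆ →
          (x.out : X)⁻¹ * y.out * w = w * ((x.out : X)⁻¹ * y.out) := fun w h' => by
        have h2 : (x.out : X) * w * (x.out : X)⁻¹ = y.out * w * (y.out : X)⁻¹ := by
          have := congrArg (· * w) h'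
          simpa [commutatorElement_def, mul_assoc] using this
        calc (x.out : X)⁻¹ * y.out * w = (x.out : X)⁻¹ * (y.out * w * (y.out : X)⁻¹) * y.out := by group
          _ = (x.out : X)⁻¹ * (x.out * w * (x.out : X)⁻¹) * y.out := by rw [h2]
          _ = w * ((x.out : X)⁻¹ * y.out) := by group
      exact hCu _ (key u (congrArg (fun w : Z × Z => (w.1 : X)) h)) (key v (congrArg (fun w : Z × Z => (w.2 : X)) h))
    have h1 := Nat.card_le_card_of_injective f hf
    rw [← index_eq_card, Nat.card_prod] at h1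
    have h2 := (Z.subgroupOf D).card_mul_index
    rw [Nat.card_congr (subgroupOfEquivOfLe hZD).toEquiv] at h2
    have hZp : Nat.card Z = p := by rw [hZeq, hZB']
    rw [hZp] at h1 h2
    rw [← h2, pow_succ' p 2, pow_two]
    exact Nat.mul_le_mul_left _ h1
  have hsc : centralizer (Bq : Set (X ⧸ Z)) ≤ Bq := by
    rw [← map_comap_eq_self_of_surjective (QuotientGroup.mk'_surjective Z) (centralizer (Bq : Set (X ⧸ Z)))]
    exact map_mono (eq_of_le_of_card_ge hBD (hB.symm ▸ hDcard)).symm.le
  obtain ⟨m, hm⟩ : ∃ m, n = m + 1 := ⟨n - 1, by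
    have : 3 ≤ n := (Nat.pow_le_pow_iff_right hpp.one_lt).1 (by
      rw [← hn, ← hB]; exact Nat.le_of_dvd Nat.card_pos B.card_subgroup_dvd_card)
    omega⟩
  subst hm
  have hqcard : Nat.card (X ⧸ Z) = p ^ m := by
    have h4 := Z.card_mul_index
    rw [hZeq, hZB', ← hZeq, index_eq_card, hn, pow_succ'] at h4
    exact Nat.eq_of_mul_eq_mul_left hpp.pos h4
  have hcl := class_of_selfcent_sq m (X ⧸ Z) hqcard Bq hBqcard hsc
  have : Nontrivial X := Function.Injective.nontrivial B.subtype_injective
  have hm2 : 2 ≤ m := (Nat.pow_le_pow_iff_right hpp.one_lt).1 (by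
    rw [← hqcard, ← hBqcard]; exact Nat.le_of_dvd Nat.card_pos Bq.card_subgroup_dvd_card)
  rw [class_succ_of_quotient hX hcl]
  omega

end Cfsg.Agent.MaxClass
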