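import Cfsg.Agent.MaxClass.TwoStep

/-!
Small normal subgroups of a `p`-group of maximal class, and the semidirect steps `⟨x⟩ L r`.
-/

set_option autoImplicit false

namespace Cfsg.Agent.MaxClass.TwoStep

open Subgroup
open scoped commutatorElement
open Cfsg.Agent.MaxClass.Graded (L_anti L_comm L_comm_x MX)

universe u

variable {X : Type u} [Group X] [Finite X] {p n : ℕ} [hp : Fact p.Prime] (h : MCl p n X)
include h

theorem MCl.exists_outside (hp3 : 3 ≤ p) (h4 : 4 ≤ n) :
    ∃ s : X, s ∉ (⊤ : Subgroup X).lowerCentralSeries 1 ∧ ∀ i, 1 ≤ i → i ≤ n - 3 → s ∉ K X i := by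
  obtain ⟨s, h1, h2, -⟩ := h.exists_avoid hp3 (a := 1) (b := n - 3) (c := 1) le_rfl (by omega)
    (by omega) le_rfl le_rfl (by omega)
  refine ⟨s, fun hs => h1 (h.L1_le_K 1 hs), fun i hi1 hi => ?_⟩
  rcases (by omega : i ≤ n - 4 ∨ i = n - 3) with h3 | rfl
  · rw [middle hp3 n X h i hi1 h3]; exact h1
  · exact h2

/-- The centre has order at most `p`. -/
theorem MCl.not_central (hp3 : 3 ≤ p) (h4 : 4 ≤ n) {A : Subgroup X} (hA : p ^ 2 ≤ Nat.card A) :
    ∃ g : X, ∃ a ∈ A, g * a ≠ a * g := by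
  by_contra! hall
  obtain ⟨s, hs1, hs⟩ := h.exists_outside hp3 h4
  have hmx := h.mx h4 hs1 hs
  have hle : A ≤ centralizer ({s} : Set X) := fun a ha =>
    mem_centralizer_singleton_iff.2 (hall s a ha).symm
  have e : A = centralizer ({s} : Set X) := eq_of_le_of_card_ge hle (by rw [hmx.cent]; exact hA)
  have htop : centralizer ({s} : Set X) = ⊤ := eq_top_iff.2 fun g _ =>
    mem_centralizer_singleton_iff.2 (hall g s (e ▸ mem_centralizer_singleton_iff.2 rfl))
  have h1 := hmx.cent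
  rw [htop, card_top, h.cardX] at h1
  have := Nat.pow_right_injective hp.out.two_le h1
  omega

/-- A normal subgroup containing an element of an exact depth contains that term. -/
theorem MCl.lcs_le_of_mem {A : Subgroup X} [A.Normal] :
    ∀ k i, i + k = n - 2 → 1 ≤ i → ∀ a ∈ A, a ∈ (⊤ : Subgroup X).lowerCentralSeries i →
      a ∉ (⊤ : Subgroup X).lowerCentralSeries (i + 1) → (⊤ : Subgroup X).lowerCentralSeries i ≤ A := by
  intro k
  induction k with
  | zero =>
    intro i hik h1 a ha hai hai' v hv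
    obtain ⟨m, d, hd, rfl⟩ := h.decomp h1 hai hai' hv
    rw [h.eq_one (by omega) hd, mul_one]
    exact zpow_mem ha _
  | succ k ih =>
    intro i hik h1 a ha hai hai' v hv
    obtain ⟨g, hg⟩ : ∃ g, g ∉ K X i := by
      by_contra! hall
      exact h.K_ne_top h1 (by omega) (eq_top_iff.2 fun g _ => hall g)
    have hga : ⁅g, a⁆ ∉ (⊤ : Subgroup X).lowerCentralSeries (i + 2) := fun hc =>
      hg (h.mem_K_of_one h1 hai hai' hc)
    have hgA : ⁅g, a⁆ ∈ A := by
      rw [commutatorElement_def]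
      exact A.mul_mem (Subgroup.Normal.conj_mem inferInstance a ha g) (A.inv_mem ha)
    obtain ⟨m, d, hd, rfl⟩ := h.decomp h1 hai hai' hv
    exact A.mul_mem (zpow_mem ha _) (ih (i + 1) (by omega) (by omega) _ hgA (L_comm_x hai g) hga hd)

/-- A normal subgroup of order `p ^ 2`. -/
theorem MCl.normal_sq (hp3 : 3 ≤ p) (h6 : 6 ≤ n) {A : Subgroup X} [A.Normal]
    (hA : Nat.card A = p ^ 2) : A = (⊤ : Subgroup X).lowerCentralSeries (n - 3) := by
  have hin : ∀ a ∈ A, a ∈ (⊤ : Subgroup X).lowerCentralSeries 1 →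
      a ∈ (⊤ : Subgroup X).lowerCentralSeries (n - 3) := by
    intro a ha ha1
    suffices hall : ∀ i, 1 ≤ i → i ≤ n - 3 → a ∈ (⊤ : Subgroup X).lowerCentralSeries i from
      hall (n - 3) (by omega) le_rfl
    intro i hi
    induction i, hi using Nat.le_induction with
    | base => exact fun _ => ha1
    | succ i hi ih =>
      intro hin
      by_contra hne
      have hle := card_le_of_le (h.lcs_le_of_mem (A := A) (n - 2 - i) i (by omega) hi a ha (ih (by omega)) hne)
      rw [hA, h.cardL hi] at hle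
      have := (Nat.pow_le_pow_iff_right hp.out.one_lt).1 hle
      omega
  refine eq_of_le_of_card_ge (fun a ha => ?_)
    (by rw [hA, h.cardL (by omega), show n - 1 - (n - 3) = 2 by omega])
  by_contra hne
  have ha1 : a ∉ (⊤ : Subgroup X).lowerCentralSeries 1 := fun h1 => hne (hin a ha h1)
  have haK : a ∈ K X 1 := by
    obtain ⟨y, hy, hy'⟩ := h.ne_step (i := 1) le_rfl (by omega)
    refine h.mem_K_of_one le_rfl hy hy' (L_anti (by omega) (hin _ ?_ (comm_of_mem (i := 0)
      (Subgroup.mem_top a) hy (by omega))))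
    rw [commutatorElement_def, mul_assoc, mul_assoc, ← mul_assoc y]
    exact A.mul_mem ha (Subgroup.Normal.conj_mem inferInstance _ (A.inv_mem ha) y)
  obtain ⟨s, hs1, hs⟩ := h.exists_outside hp3 (by omega)
  refine h.eSeq_exact ha1 (fun hsW => hs 1 le_rfl (by omega)
    (sup_le (zpowers_le.2 haK) (h.L1_le_K 1) hsW)) hs 1 le_rfl (by omega) ?_
  show ⁅s, a⁆ ∈ _
  refine L_anti (by omega) (hin _ ?_ (L_comm_x (i := 0) (Subgroup.mem_top a) s))
  rw [commutatorElement_def]
  exact A.mul_mem (Subgroup.Normal.conj_mem inferInstance a ha s) (A.inv_mem ha)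

omit h in
/-- The subgroup `⟨x⟩ L r`. -/
def stepSub (x : X) (r : ℕ) : Subgroup X := zpowers x ⊔ (⊤ : Subgroup X).lowerCentralSeries r

omit h [Finite X] hp in
theorem mem_stepSub {x g : X} {r : ℕ} :
    g ∈ stepSub x r ↔ ∃ i : ℤ, ∃ l ∈ (⊤ : Subgroup X).lowerCentralSeries r, g = x ^ i * l := by
  rw [stepSub, mem_sup_of_normal_right]
  constructor
  · rintro ⟨a, ha, l, hl, rfl⟩
    obtain ⟨i, rfl⟩ := mem_zpowers_iff.1 ha
    exact ⟨i, l, hl, rfl⟩
  · rintro ⟨i, l, hl, rfl⟩
    exact ⟨_, zpow_mem (mem_zpowers x) i, l, hl, rfl⟩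

omit h [Finite X] hp in
theorem x_mem_stepSub (x : X) (r : ℕ) : x ∈ stepSub x r := mem_sup_left (mem_zpowers x)

omit h [Finite X] hp in
theorem lcs_le_stepSub (x : X) (r : ℕ) : (⊤ : Subgroup X).lowerCentralSeries r ≤ stepSub x r := le_sup_right

omit h [Finite X] hp in
theorem stepSub_mono (x : X) {r s : ℕ} (hrs : r ≤ s) : stepSub x s ≤ stepSub x r :=
  sup_le_sup_left (L_anti hrs) _

theorem MCl.zpow_mem_K {x : X} (hxp : x ^ p = 1) {i : ℕ} (hx : x ∉ K X i) {k : ℤ} (hk : x ^ k ∈ K X i) :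
    x ^ k = 1 := by
  rcases eq_or_ne (x ^ k) 1 with h1 | h1
  · exact h1
  exfalso
  refine hx ?_
  have h2 : ¬ (p : ℤ) ∣ k := fun ⟨c, hc⟩ => h1 (by rw [hc, zpow_mul, zpow_natCast, hxp, one_zpow])
  obtain ⟨a, b, hab⟩ := (Nat.prime_iff_prime_int.1 hp.out).coprime_iff_not_dvd.2 h2
  have : x ^ (a * p + b * k) ∈ K X i := by
    rw [zpow_add, mul_comm a, zpow_mul, zpow_natCast, hxp, one_zpow, one_mul, mul_comm b, zpow_mul]
    exact zpow_mem hk _
  rwa [hab, zpow_one] at this

theorem MCl.card_stepSub {x : X} (hxp : x ^ p = 1) (hx : x ∉ K X 1) {r : ℕ} (hr : 1 ≤ r) (hrn : r ≤ n - 1) :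
    Nat.card ↥(stepSub x r) = p ^ (n - r) := by
  set N := (⊤ : Subgroup X).lowerCentralSeries r
  have h1 := Cfsg.Agent.Core.card_map_mk_mul N (stepSub x r)
  rw [inf_eq_right.2 (lcs_le_stepSub x r), h.cardL hr] at h1
  have hmap : (stepSub x r).map (QuotientGroup.mk' N) = zpowers (QuotientGroup.mk' N x) := by
    rw [stepSub, Subgroup.map_sup, MonoidHom.map_zpowers, (map_eq_bot_iff N).2 (QuotientGroup.ker_mk' N).ge,
      sup_bot_eq]
  have hne : QuotientGroup.mk' N x ≠ 1 := fun hx1 =>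
    hx (h.L1_le_K 1 (L_anti hr ((QuotientGroup.eq_one_iff x).1 hx1)))
  rw [hmap, Nat.card_zpowers, orderOf_eq_prime (by rw [← map_pow, hxp, map_one]) hne, ← pow_succ'] at h1
  rw [← h1, show n - 1 - r + 1 = n - r by omega]

/-- The terms deeper than `r` are intrinsic in `⟨x⟩ L r`. -/
theorem MCl.mem_lcs_iff (hp3 : 3 ≤ p) {x : X} (hxp : x ^ p = 1) (hx1 : x ∉ K X 1)
    (hxn : x ∈ K X (n - 3)) {r j : ℕ} (hr : 1 ≤ r) (hrj : r + 1 ≤ j) (hj : j ≤ n - 3) {g : X}
    (hg : g ∈ stepSub x r) :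
    g ∈ (⊤ : Subgroup X).lowerCentralSeries j ↔
      if j = n - 3 then ∀ a ∈ stepSub x r, Commute a g
      else ∀ a ∈ stepSub x r, ⁅a, g⁆ ∈ (⊤ : Subgroup X).lowerCentralSeries (j + 1) := by
  constructor
  · intro hgj
    split_ifs with e
    · intro a ha
      obtain ⟨i, l, hl, rfl⟩ := mem_stepSub.1 ha
      subst e
      refine (Commute.zpow_left ?_ i).mul_left (h.commute_of_mem hl hgj (by omega))
      exact commutatorElement_eq_one_iff_mul_comm.1 (h.eq_one (by omega) (mem_K.1 hxn g hgj))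
    · exact fun a _ => L_comm_x hgj a
  · intro hc
    have hc' : ∀ a ∈ stepSub x r, ⁅a, g⁆ ∈ (⊤ : Subgroup X).lowerCentralSeries (j + 1) := by
      intro a ha
      split_ifs at hc with e
      · rw [commutatorElement_eq_one_iff_mul_comm.2 (hc a ha).eq]; exact one_mem _
      · exact hc a ha
    obtain ⟨i, l, hl, rfl⟩ := mem_stepSub.1 hg
    have hgK : x ^ i * l ∈ K X r := by
      obtain ⟨y, hy, hy'⟩ := h.ne_step hr (by omega)
      refine h.mem_K_of_one hr hy hy' ?_
      rw [← commutatorElement_inv]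
      exact inv_mem (L_anti (by omega) (hc' y (lcs_le_stepSub x r hy)))
    rw [middle hp3 n X h r hr (by omega)] at hgK
    have hl1 : l ∈ K X 1 := h.L1_le_K 1 (L_anti hr hl)
    have hi : x ^ i = 1 := h.zpow_mem_K hxp hx1
      (by simpa using mul_mem hgK (inv_mem hl1))
    rw [hi, one_mul] at hg hc' ⊢
    have hall : ∀ k, r ≤ k → k ≤ j → l ∈ (⊤ : Subgroup X).lowerCentralSeries k := by
      intro k hk
      induction k, hk using Nat.le_induction with
      | base => exact fun _ => hl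
      | succ k hk ih =>
        intro hkj
        by_contra hne
        refine hx1 ?_
        rw [← middle hp3 n X h k (by omega) (by omega)]
        exact h.mem_K_of_one (by omega) (ih (by omega)) hne
          (L_anti (by omega) (hc' x (x_mem_stepSub x r)))
    exact hall j (by omega) le_rfl

end Cfsg.Agent.MaxClass.TwoStep
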