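import Cfsg.Agent.MaxClass.Graded

/-!
Small self-centralising subgroups give maximal class and an element whose centralizer has order
`p ^ 2`.
-/

set_option autoImplicit false

namespace Cfsg.Agent.MaxClass.Graded

open Subgroup
open scoped commutatorElement

variable {X : Type*} [Group X] [Finite X] {p n : ℕ} [hp : Fact p.Prime]

theorem mx_of_class (hn : Nat.card X = p ^ n) (h3 : 3 ≤ n) (hcl : Group.nilpotencyClass X = n - 1) {x : X}
    (hx : Nat.card (centralizer ({x} : Set X)) = p ^ 2) : MX p n x := by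
  have hX : IsPGroup p X := IsPGroup.of_card hn
  have := hX.isNilpotent
  have hpp := hp.out
  have hbot : (⊤ : Subgroup X).lowerCentralSeries (n - 1) = ⊥ :=
    Subgroup.lowerCentralSeries_eq_bot_iff_nilpotencyClass_le.2 hcl.le
  have hne : ∀ i ≤ n - 2, (⊤ : Subgroup X).lowerCentralSeries i ≠ ⊥ := fun i hi hb => by
    have := Subgroup.lowerCentralSeries_eq_bot_iff_nilpotencyClass_le.1 hb
    omega
  have hlow : ∀ d, d ≤ n - 2 → p ^ (d + 1) ≤ Nat.card ↥((⊤ : Subgroup X).lowerCentralSeries (n - 2 - d)) := by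
    intro d
    induction d with
    | zero =>
      intro _
      obtain ⟨j, hj⟩ := IsPGroup.iff_card.1 (hX.to_subgroup ((⊤ : Subgroup X).lowerCentralSeries (n - 2)))
      rw [Nat.sub_zero, hj]
      refine Nat.pow_le_pow_right hpp.pos (Nat.succ_le_of_lt (Nat.pos_of_ne_zero fun h0 => ?_))
      rw [h0, pow_zero] at hj
      exact hne _ le_rfl (card_eq_one.1 hj)
    | succ d ih =>
      intro hd
      have h1 := lcs_step hX (n - 2 - (d + 1)) (hne _ (by omega))
      rw [show n - 2 - (d + 1) + 1 = n - 2 - d by omega] at h1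
      rw [pow_succ']
      exact le_trans (Nat.mul_le_mul_left p (ih (by omega))) h1
  have hhigh : ∀ i, 1 ≤ i → i ≤ n - 1 → Nat.card ↥((⊤ : Subgroup X).lowerCentralSeries i) ≤ p ^ (n - 1 - i) := by
    intro i hi
    induction i, hi using Nat.le_induction with
    | base =>
      intro _
      have h1 := sq_dvd_index_commutator hX (hne 1 (by omega))
      have h2 := (_root_.commutator X).card_mul_index
      rw [hn, show n = n - 1 - 1 + 2 by omega, pow_add] at h2
      have h4 : Nat.card (_root_.commutator X) * p ^ 2 ≤ p ^ (n - 1 - 1) * p ^ 2 := by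
        rw [← h2]
        exact Nat.mul_le_mul_left _ (Nat.le_of_dvd (Nat.pos_of_ne_zero index_ne_zero_of_finite) h1)
      exact Nat.le_of_mul_le_mul_right h4 (pow_pos hpp.pos 2)
    | succ i hi ih =>
      intro hi'
      have h1 := lcs_step hX i (hne i (by omega))
      have h2 := h1.trans (ih (by omega))
      rw [show n - 1 - i = n - 1 - (i + 1) + 1 by omega, pow_succ'] at h2
      exact Nat.le_of_mul_le_mul_left h2 hpp.pos
  have hcard : ∀ i, 1 ≤ i → Nat.card ↥((⊤ : Subgroup X).lowerCentralSeries i) = p ^ (n - 1 - i) := by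
    intro i hi
    rcases le_or_gt (n - 1) i with hi' | hi'
    · rw [show n - 1 - i = 0 by omega, pow_zero]
      exact card_eq_one.2 (le_bot_iff.1 ((Subgroup.lowerCentralSeries_antitone _ hi').trans hbot.le))
    · refine le_antisymm (hhigh i hi hi'.le) ?_
      have := hlow (n - 2 - i) (by omega)
      rwa [show n - 2 - (n - 2 - i) = i by omega, show n - 2 - i + 1 = n - 1 - i by omega] at this
  refine ⟨h3, hX, hn, hcard, fun hx1 => ?_, hx⟩
  set C := centralizer ({x} : Set X) with hC
  let f : X ⧸ C → (⊤ : Subgroup X).lowerCentralSeries 2 :=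
    fun q => ⟨⁅q.out, x⁆, L_comm_x hx1 q.out⟩
  have hf : Function.Injective f := by
    intro a b hab
    have h2 : a.out * x * a.out⁻¹ = b.out * x * b.out⁻¹ := by
      have h4 : ⁅a.out, x⁆ = ⁅b.out, x⁆ := congrArg Subtype.val hab
      simpa [commutatorElement_def] using h4
    rw [← Quotient.out_eq a, ← Quotient.out_eq b]
    refine QuotientGroup.eq.2 (mem_centralizer_singleton_iff.2 ?_)
    calc a.out⁻¹ * b.out * x = a.out⁻¹ * (b.out * x * b.out⁻¹) * b.out := by group
      _ = a.out⁻¹ * (a.out * x * a.out⁻¹) * b.out := by rw [h2]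
      _ = _ := by group
  have h1 := Nat.card_le_card_of_injective f hf
  rw [← index_eq_card, hcard 2 (by omega)] at h1
  have h2 := C.card_mul_index
  rw [hx, hn] at h2
  have h4 : p ^ n ≤ p ^ 2 * p ^ (n - 1 - 2) := h2 ▸ Nat.mul_le_mul_left _ h1
  rw [← pow_add] at h4
  have := (Nat.pow_le_pow_iff_right hpp.one_lt).1 h4
  omega

theorem exists_cent_sq (hn : Nat.card X = p ^ n) (h3 : 3 ≤ n) (A : Subgroup X) (hA : Nat.card A = p ^ 2)
    (hAC : centralizer (A : Set X) ≤ A) : ∃ x : X, Nat.card (centralizer ({x} : Set X)) = p ^ 2 := by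
  have hX : IsPGroup p X := IsPGroup.of_card hn
  obtain ⟨hZA, hpZ⟩ := card_center_of_selfcent hX A hA (by norm_num) hAC
  have hab : ∀ u ∈ A, ∀ v ∈ A, u * v = v * u := fun u hu v hv =>
    congrArg Subtype.val ((IsPGroup.commGroupOfCardEqPrimeSq hA).mul_comm (⟨u, hu⟩ : A) ⟨v, hv⟩)
  obtain ⟨x, hxA, hxZ⟩ : ∃ x ∈ A, x ∉ center X := by
    by_contra hall
    push Not at hall
    have htop : ⊤ ≤ A := fun g _ => hAC (mem_centralizer_iff.2 fun a ha =>
      (mem_center_iff.1 (hall a ha) g).symm)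
    rw [top_le_iff.1 htop, card_top, hn] at hA
    have := Nat.pow_right_injective hp.out.two_le hA
    omega
  refine ⟨x, le_antisymm ?_ (hA ▸ card_le_of_le fun a ha => mem_centralizer_singleton_iff.2 (hab a ha x hxA))⟩
  rw [← hA]
  refine card_le_of_le fun y hy => hAC (mem_centralizer_iff.2 fun a ha => ?_)
  have hgen : A ≤ zpowers x ⊔ center X := by
    obtain ⟨j, hj⟩ := IsPGroup.iff_card.1 (hX.to_subgroup (zpowers x ⊔ center X))
    refine (eq_of_le_of_card_ge (sup_le (zpowers_le.2 hxA) hZA) ?_).ge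
    rw [hA, hj]
    refine Nat.pow_le_pow_right hp.out.pos ?_
    by_contra hj2
    refine hxZ ?_
    have e := eq_of_le_of_card_ge (le_sup_right : center X ≤ zpowers x ⊔ center X) (by
      rw [hj]; exact le_trans (Nat.pow_le_pow_right hp.out.pos (show j ≤ 1 by omega))
        (by rw [pow_one]; exact Nat.le_of_dvd Nat.card_pos hpZ))
    exact e.symm ▸ mem_sup_left (mem_zpowers x)
  obtain ⟨b, hb, c, hc, rfl⟩ := mem_sup_of_normal_right.1 (hgen ha)
  obtain ⟨k, rfl⟩ := mem_zpowers_iff.1 hb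
  exact ((show Commute x y from (mem_centralizer_singleton_iff.1 hy).symm).zpow_left k |>.mul_left
    (show Commute c y from (mem_center_iff.1 hc y).symm)).eq

theorem exists_cent_cube (hn : Nat.card X = p ^ n) (B : Subgroup X) (hB : Nat.card B = p ^ 3)
    (hBna : ¬ IsMulCommutative B) (hC : centralizer (B : Set X) ≤ B) :
    ∃ x : X, Nat.card (centralizer ({x} : Set X)) = p ^ 2 := by
  have hpp := hp.out
  have hX : IsPGroup p X := IsPGroup.of_card hn
  have hBp : IsPGroup p B := hX.to_subgroup B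
  obtain ⟨hZB, hpZ⟩ := card_center_of_selfcent hX B hB (by norm_num) hC
  set Z := center X with hZ
  obtain ⟨i, hi⟩ := IsPGroup.iff_card.1 (hX.to_subgroup Z)
  have hi1 : i = 1 := by
    have h1 := sq_le_index_center hBp hBna
    have h2 := (center B).card_mul_index
    rw [hB] at h2
    have hle : Nat.card Z ≤ Nat.card (center B) := by
      rw [← card_subtype B (center B)]
      refine card_le_of_le fun z hz => ⟨⟨z, hZB hz⟩, mem_center_iff.2 fun b => Subtype.ext ?_, rfl⟩
      exact mem_center_iff.1 hz b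
    have h5 : p ^ i * p ^ 2 ≤ p ^ 3 := by rw [← hi, ← h2]; exact Nat.mul_le_mul hle h1
    rw [← pow_add] at h5
    have := (Nat.pow_le_pow_iff_right hpp.one_lt).1 h5
    have h0 : i ≠ 0 := fun h0 => by
      rw [hi, h0, pow_zero] at hpZ; exact hpp.one_lt.ne' (Nat.dvd_one.1 hpZ)
    omega
  subst hi1
  rw [pow_one] at hi
  -- a noncommuting pair generates
  have hgen : ∀ u ∈ B, ∀ v ∈ B, u * v ≠ v * u → B = closure {u, v} := by
    intro u hu v hv huv
    have hle : closure {u, v} ≤ B := (closure_le _).2 (by rintro w (rfl | rfl) <;> assumption)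
    obtain ⟨j, hj⟩ := IsPGroup.iff_card.1 (hX.to_subgroup (closure {u, v}))
    refine (eq_of_le_of_card_ge hle ?_).symm
    rw [hB, hj]
    refine Nat.pow_le_pow_right hpp.pos ?_
    by_contra hlt
    refine huv ?_
    have hcom : IsMulCommutative (closure ({u, v} : Set X)) := by
      rcases (by omega : j = 0 ∨ j = 1 ∨ j = 2) with rfl | rfl | rfl
      · have : Subsingleton (closure ({u, v} : Set X)) :=
          (Nat.card_eq_one_iff_unique.1 (by rw [hj, pow_zero])).1
        exact ⟨⟨fun _ _ => Subsingleton.elim _ _⟩⟩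
      · have : IsCyclic (closure ({u, v} : Set X)) := isCyclic_of_prime_card (p := p) (by rw [hj, pow_one])
        exact ⟨⟨(IsCyclic.commGroup (α := closure ({u, v} : Set X))).mul_comm⟩⟩
      · exact IsPGroup.isMulCommutative_of_card_eq_prime_sq hj
    exact congrArg Subtype.val (hcom.is_comm.comm ⟨u, subset_closure (by simp)⟩ ⟨v, subset_closure (by simp)⟩)
  have hbrZ : ∀ u ∈ B, ∀ v ∈ B, ⁅u, v⁆ ∈ Z := by
    intro u hu v hv
    have hq : Nat.card (B ⧸ Z.subgroupOf B) = p ^ 2 := by
      have h2 := (Z.subgroupOf B).card_mul_index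
      rw [Nat.card_congr (subgroupOfEquivOfLe hZB).toEquiv, hi, hB, index_eq_card, pow_succ' p 2] at h2
      exact Nat.eq_of_mul_eq_mul_left hpp.pos h2
    have : (Z.subgroupOf B).Normal := ⟨fun a ha g => by
      rw [mem_subgroupOf] at ha ⊢
      rw [coe_mul, coe_mul, coe_inv, mem_center_iff.1 ha g, mul_inv_cancel_right]
      exact ha⟩
    have h3 : ((⁅(⟨u, hu⟩ : B), ⟨v, hv⟩⁆ : B) : B ⧸ Z.subgroupOf B) = 1 := by
      rw [← QuotientGroup.mk'_apply, map_commutatorElement, commutatorElement_eq_one_iff_mul_comm]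
      exact (IsPGroup.isMulCommutative_of_card_eq_prime_sq hq).is_comm.comm _ _
    exact (mem_subgroupOf.1 ((QuotientGroup.eq_one_iff _).1 h3))
  -- elements inducing inner automorphisms of `B`
  have hinner : ∀ u ∈ B, ∀ v ∈ B, u * v ≠ v * u → ∀ y, ⁅y, u⁆ ∈ Z → ⁅y, v⁆ ∈ Z → y ∈ B := by
    intro u hu v hv huv y hyu hyv
    have hc1 : ⁅u, v⁆ ≠ 1 := fun h => huv (commutatorElement_eq_one_iff_mul_comm.1 h)
    have hlog : ∀ z ∈ Z, ∃ k : ℤ, ⁅u, v⁆ ^ k = z := fun z hz => by
      obtain ⟨k, hk⟩ := mem_zpowers_iff.1 (mem_zpowers_of_prime_card hi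
        (g := (⟨_, hbrZ u hu v hv⟩ : Z)) (g' := ⟨z, hz⟩) (fun h => hc1 (congrArg Subtype.val h)))
      exact ⟨k, congrArg Subtype.val hk⟩
    obtain ⟨k, hk⟩ := hlog _ hyu
    obtain ⟨l, hl⟩ := hlog _ hyv
    set y' := u ^ (-l) * (v ^ k * y) with hy'
    have hcen : ∀ (g : X), ∀ z ∈ Z, g * z * g⁻¹ = z := fun g z hz => by
      rw [mem_center_iff.1 hz g, mul_inv_cancel_right]
    have hmul : ∀ a b c : X, ⁅b, c⁆ ∈ Z → ⁅a * b, c⁆ = ⁅b, c⁆ * ⁅a, c⁆ := fun a b c hb => by
      rw [commutatorElement_mul_left_eq_conj_mul, hcen a _ hb]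
    have hpw : ∀ a b : X, ⁅a, b⁆ ∈ Z → ∀ j : ℤ, ⁅a ^ j, b⁆ = ⁅a, b⁆ ^ j := by
      intro a b hab j
      induction j using Int.induction_on with
      | zero => simp
      | succ j ih =>
        rw [zpow_add_one, hmul _ _ _ hab, ih, zpow_add_one]
        exact ((Commute.refl ⁅a, b⁆).zpow_right _).eq
      | pred j ih =>
        have h1 := hmul (a ^ (-(j : ℤ) - 1)) a b hab
        rw [← zpow_add_one, sub_add_cancel, ih] at h1
        rw [eq_inv_mul_of_mul_eq h1.symm, ← zpow_neg_one, ← zpow_add]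
        congr 1; ring
    have hvu : ⁅v, u⁆ = ⁅u, v⁆⁻¹ := (commutatorElement_inv u v).symm
    have h1 : ⁅y', u⁆ = 1 := by
      have e1 : ⁅v ^ k * y, u⁆ = 1 := by
        rw [hmul _ _ _ hyu, hpw v u (hbrZ v hv u hu), ← hk, hvu, inv_zpow, mul_inv_cancel]
      rw [hy', hmul _ _ _ (by rw [e1]; exact one_mem _), e1, one_mul, hpw u u (hbrZ u hu u hu),
        commutatorElement_self, one_zpow]
    have h2 : ⁅y', v⁆ = 1 := by
      have e1 : ⁅v ^ k * y, v⁆ = ⁅u, v⁆ ^ l := by
        rw [hmul _ _ _ hyv, hpw v v (hbrZ v hv v hv), commutatorElement_self, one_zpow, mul_one, hl]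
      rw [hy', hmul _ _ _ (by rw [e1]; exact zpow_mem (hbrZ u hu v hv) l), e1,
        hpw u v (hbrZ u hu v hv), ← zpow_add, add_neg_cancel, zpow_zero]
    have hy'B : y' ∈ B := hC (mem_centralizer_iff.2 fun w hw => by
      have hle : closure ({u, v} : Set X) ≤ centralizer ({y'} : Set X) := (closure_le _).2 (by
        rintro z (rfl | rfl)
        exacts [mem_centralizer_singleton_iff.2 (commutatorElement_eq_one_iff_mul_comm.1 h1).symm,
          mem_centralizer_singleton_iff.2 (commutatorElement_eq_one_iff_mul_comm.1 h2).symm])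
      rw [hgen u hu v hv huv] at hw
      exact mem_centralizer_singleton_iff.1 (hle hw))
    have h5 := mul_mem (inv_mem (zpow_mem hv k)) (mul_mem (inv_mem (zpow_mem hu (-l))) hy'B)
    rwa [hy', inv_mul_cancel_left, inv_mul_cancel_left] at h5
  -- an element central modulo the centre
  obtain ⟨u, huB, v, hvB, huv⟩ : ∃ u ∈ B, ∃ v ∈ B, u * v ≠ v * u := by
    by_contra! h
    exact hBna ⟨⟨fun a b => Subtype.ext (h a a.2 b b.2)⟩⟩
  have hntq : Nontrivial (X ⧸ Z) := by
    refine ⟨⟨(u : X ⧸ Z), 1, fun h => huv ?_⟩⟩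
    exact (mem_center_iff.1 ((QuotientGroup.eq_one_iff u).1 h) v).symm
  have := (hX.to_quotient Z).center_nontrivial
  obtain ⟨⟨q, hq⟩, hq1⟩ := exists_ne (1 : center (X ⧸ Z))
  obtain ⟨e, rfl⟩ := QuotientGroup.mk'_surjective Z q
  have he : ∀ g, ⁅g, e⁆ ∈ Z := fun g => by
    rw [← QuotientGroup.eq_one_iff, ← QuotientGroup.mk'_apply, map_commutatorElement,
      commutatorElement_eq_one_iff_mul_comm]
    exact mem_center_iff.1 hq _
  have he' : ∀ g, ⁅e, g⁆ ∈ Z := fun g => by rw [← commutatorElement_inv]; exact inv_mem (he g)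
  have heZ : e ∉ Z := fun h => hq1 (Subtype.ext ((QuotientGroup.eq_one_iff e).2 h))
  have heB : e ∈ B := hinner u huB v hvB huv e (he' u) (he' v)
  obtain ⟨x, hxB, hxe⟩ : ∃ x ∈ B, x * e ≠ e * x := by
    by_contra! hall
    -- `e` would centralize `B`
    have heC : e ∈ centralizer (B : Set X) := mem_centralizer_iff.2 hall
    have hle : Z ⊔ zpowers e ≤ centralizer (B : Set X) :=
      sup_le (center_le_centralizer _) (zpowers_le.2 heC)
    have hcb : Nat.card (centralizer (B : Set X)) ≤ p := by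
      have h1 := sq_le_index_center hBp hBna
      have h2 := (center B).card_mul_index
      rw [hB, pow_succ' p 2] at h2
      have h4 : Nat.card (centralizer (B : Set X)) ≤ Nat.card (center B) := by
        rw [← card_subtype B (center B)]
        refine card_le_of_le fun z hz => ⟨⟨z, hC hz⟩, mem_center_iff.2 fun b => Subtype.ext ?_, rfl⟩
        exact mem_centralizer_iff.1 hz b b.2
      exact le_trans h4 (Nat.le_of_mul_le_mul_right (h2 ▸ Nat.mul_le_mul_left _ h1) (pow_pos hpp.pos 2))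
    have e5 := eq_of_le_of_card_ge (le_sup_left : Z ≤ Z ⊔ zpowers e)
      (by rw [hi]; exact (card_le_of_le hle).trans hcb)
    exact heZ (e5.symm ▸ mem_sup_right (mem_zpowers e))
  refine ⟨x, ?_⟩
  have hCB : centralizer ({x} : Set X) ≤ B := fun y hy => hinner x hxB e heB hxe y
    (by rw [commutatorElement_eq_one_iff_mul_comm.2 (mem_centralizer_singleton_iff.1 hy)]; exact one_mem _)
    (he y)
  obtain ⟨j, hj⟩ := IsPGroup.iff_card.1 (hX.to_subgroup (centralizer ({x} : Set X)))
  have hj3 : j < 3 := by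
    by_contra hge
    have heq := eq_of_le_of_card_ge hCB (by rw [hB, hj]; exact Nat.pow_le_pow_right hpp.pos (by omega))
    exact hxe (mem_centralizer_singleton_iff.1 (heq.symm ▸ heB : e ∈ centralizer ({x} : Set X))).symm
  have hj2 : 2 ≤ j := by
    by_contra hle
    have hZle : Z ≤ centralizer ({x} : Set X) := center_le_centralizer _
    have heq := eq_of_le_of_card_ge hZle (by
      rw [hj, hi]; exact le_trans (Nat.pow_le_pow_right hpp.pos (show j ≤ 1 by omega)) (pow_one p).le)
    exact hxe ((mem_center_iff.1 (heq.symm ▸ mem_centralizer_singleton_iff.2 rfl : x ∈ Z) e).symm)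
  rw [hj, show j = 2 by omega]

end Cfsg.Agent.MaxClass.Graded
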