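import Cfsg.Agent.MaxClass.Class
import Cfsg.Prelude.Def_PLocal
import Cfsg.Prelude.Def_Transfer

/-!
A p-group with a self-centralising cyclic normal subgroup.
-/

set_option autoImplicit false

namespace Cfsg.Agent.MaxClass

open Subgroup

variable {G : Type*} [Group G] [Finite G] {p : ℕ} {n : ℕ} {a : G}

theorem pzpow_eq_iff (ha : orderOf a = p ^ n) {i j : ℤ} : a ^ i = a ^ j ↔ (p : ℤ) ^ n ∣ j - i := by
  rw [zpow_eq_zpow_iff_modEq, ha, Int.modEq_iff_dvd]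
  push_cast; rfl

omit [Finite G] in
theorem pow_mul_zpow_eq {b : G} {r : ℤ} (hr : b * a * b⁻¹ = a ^ r) (k : ℕ) :
    ∀ l : ℤ, b ^ k * a ^ l = a ^ (r ^ k * l) * b ^ k := by
  induction k with
  | zero => intro l; simp
  | succ k ih =>
    intro l
    have hb : b * a ^ l = a ^ (r * l) * b := by rw [← conj_zpow_of_eq hr l, inv_mul_cancel_right]
    rw [pow_succ b, mul_assoc, hb, ← mul_assoc, ih, mul_assoc, pow_succ r, mul_assoc (r ^ k)]

/-- Powers of `a ^ j * b`. -/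
theorem mul_pow_eq {b : G} {r : ℤ} (hr : b * a * b⁻¹ = a ^ r) (j : ℤ) (k : ℕ) :
    (a ^ j * b) ^ k = a ^ (j * ∑ i ∈ Finset.range k, r ^ i) * b ^ k := by
  induction k with
  | zero => simp
  | succ k ih =>
    rw [pow_succ, ih, mul_assoc, ← mul_assoc (b ^ k), pow_mul_zpow_eq hr, Finset.sum_range_succ, mul_add,
      zpow_add, pow_succ b, mul_comm (r ^ k) j]
    group

/-- The sum of powers of an exponent congruent to one. -/
theorem sum_pow_eq [hp : Fact p.Prime] (hn : 2 ≤ n) (hpn : p ≠ 2 ∨ 3 ≤ n) {r : ℤ}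
    (hr : (p : ℤ) ^ (n - 1) ∣ r - 1) :
    ∃ w : ℤ, IsCoprime (p : ℤ) w ∧ (p : ℤ) ^ n ∣ (∑ i ∈ Finset.range p, r ^ i) - p * w := by
  obtain ⟨s, hs⟩ := hr
  obtain ⟨j, rfl⟩ : ∃ j, n = j + 2 := ⟨n - 2, by omega⟩
  rw [show j + 2 - 1 = j + 1 from rfl] at hs
  obtain rfl : r = 1 + (p : ℤ) ^ (j + 1) * s := by linarith
  have hterm : ∀ k : ℕ, ∃ c, (1 + (p : ℤ) ^ (j + 1) * s) ^ k =
      1 + k * ((p : ℤ) ^ (j + 1) * s) + c * (p : ℤ) ^ (j + 2) := by
    intro k
    induction k with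
    | zero => exact ⟨0, by simp⟩
    | succ k ih =>
      obtain ⟨c, hc⟩ := ih
      exact ⟨c * (1 + (p : ℤ) ^ (j + 1) * s) + k * (p : ℤ) ^ j * s ^ 2, by
        rw [pow_succ (1 + (p : ℤ) ^ (j + 1) * s), hc]; push_cast; ring⟩
  have hsum : ∀ k : ℕ, ∃ c t : ℤ, 2 * t = k * (k - 1) ∧
      ∑ i ∈ Finset.range k, (1 + (p : ℤ) ^ (j + 1) * s) ^ i =
        k + t * ((p : ℤ) ^ (j + 1) * s) + c * (p : ℤ) ^ (j + 2) := by
    intro k
    induction k with
    | zero => exact ⟨0, 0, by simp, by simp⟩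
    | succ k ih =>
      obtain ⟨c, t, ht, hc⟩ := ih
      obtain ⟨c', hc'⟩ := hterm k
      exact ⟨c + c', t + k, by push_cast; linear_combination ht, by
        rw [Finset.sum_range_succ, hc, hc']; push_cast; ring⟩
  obtain ⟨c, t, ht, hc⟩ := hsum p
  rcases eq_or_ne p 2 with rfl | hodd
  · obtain ⟨i, rfl⟩ : ∃ i, j = i + 1 := ⟨j - 1, by
      rcases hpn with h | h
      · exact absurd rfl h
      · omega⟩
    obtain rfl : t = 1 := by norm_num at ht; linarith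
    refine ⟨1 + 2 ^ (i + 1) * s, ⟨-(2 ^ i * s), 1, by push_cast; ring⟩, c, ?_⟩
    rw [hc]; push_cast; ring
  · have hpodd : Odd (p : ℤ) := by exact_mod_cast hp.out.odd_of_ne_two hodd
    obtain ⟨q, hq⟩ := hpodd
    have ht' : t = p * q := by
      rw [hq] at ht ⊢; linarith
    refine ⟨1, isCoprime_one_right, c + q * s, ?_⟩
    rw [hc, ht']; ring

/-- The alternatives for a p-group with a self-centralising cyclic normal subgroup. -/
theorem cyclic_normal_cases [hp : Fact p.Prime] (hG : IsPGroup p G) (hna : ¬ IsMulCommutative G)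
    (U : Subgroup G) [U.Normal] (hU : IsCyclic U) (hUn : Nat.card U = p ^ n)
    (hC : centralizer (U : Set G) = U) :
    (p = 2 ∧ Nat.card G = 2 ^ (n + 1) ∧ MC G) ∨
      (U.relIndex (centralizer (Cfsg.powerClosure p 1 U : Set G)) = p ∧
        Cfsg.IsElementaryAbelian p (Cfsg.omegaOne p (centralizer (Cfsg.powerClosure p 1 U : Set G))) ∧
        Nat.card ↥(Cfsg.omegaOne p (centralizer (Cfsg.powerClosure p 1 U : Set G))) = p ^ 2 ∧
        (Cfsg.omegaOne p (centralizer (Cfsg.powerClosure p 1 U : Set G))).Characteristic) := by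
  have hpp : p.Prime := hp.out
  obtain ⟨g₀, hg₀⟩ := hU
  set a : G := (g₀ : G) with ha'
  have hmemU : ∀ x, x ∈ U ↔ ∃ i : ℤ, x = a ^ i := by
    intro x
    refine ⟨fun hx => ?_, ?_⟩
    · obtain ⟨i, hi⟩ := mem_zpowers_iff.1 (hg₀ ⟨x, hx⟩)
      exact ⟨i, (congrArg Subtype.val hi).symm⟩
    · rintro ⟨i, rfl⟩; exact zpow_mem g₀.2 i
  have hUz : U = zpowers a := by
    ext x; rw [hmemU, mem_zpowers_iff]; simp only [eq_comm]
  have ha : orderOf a = p ^ n := by rw [← hUn, hUz, Nat.card_zpowers]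
  have hexp : ∀ g : G, ∃ r : ℤ, g * a * g⁻¹ = a ^ r := fun g =>
    (hmemU _).1 (‹U.Normal›.conj_mem a g₀.2 g)
  have hcomm_mem : ∀ g : G, g * a * g⁻¹ = a → g ∈ U := fun g hg => by
    rw [← hC]; refine mem_centralizer_iff.2 fun x hx => ?_
    obtain ⟨i, rfl⟩ := (hmemU x).1 hx
    exact (((show Commute g a from mul_inv_eq_iff_eq_mul.1 hg)).zpow_right i).symm.eq
  obtain ⟨g₁, hg₁⟩ : ∃ g, g ∉ U := by
    by_contra! h
    refine hna ⟨⟨fun x y => ?_⟩⟩
    obtain ⟨i, rfl⟩ := (hmemU x).1 (h x)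
    obtain ⟨l, rfl⟩ := (hmemU y).1 (h y)
    exact ((Commute.refl a).zpow_zpow i l).eq
  have hpow_conj : ∀ (g : G) (r : ℤ), g * a * g⁻¹ = a ^ r → ∀ k : ℕ, g ^ k * a * (g ^ k)⁻¹ = a ^ (r ^ k) := by
    intro g r hr k
    induction k with
    | zero => simp
    | succ k ih =>
      rw [pow_succ g, show g ^ k * g * a * (g ^ k * g)⁻¹ = g ^ k * (g * a * g⁻¹) * (g ^ k)⁻¹ by group, hr,
        conj_zpow_of_eq ih, pow_succ]
  have hord : ∀ g ∉ U, ∃ h ∉ U, h ^ p ∈ U ∧ ∃ k : ℕ, g ^ k = h ∧ (g ^ p ∉ U → p ∣ k) := by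
    intro g hg
    obtain ⟨j, hj⟩ := IsPGroup.iff_orderOf.1 hG g
    classical
    have hex : ∃ i, g ^ p ^ i ∈ U := ⟨j, by rw [← hj, pow_orderOf_eq_one]; exact one_mem U⟩
    obtain ⟨i, hi⟩ : ∃ i, Nat.find hex = i + 1 := ⟨Nat.find hex - 1, by
      have : Nat.find hex ≠ 0 := fun h0 => hg (by simpa [h0] using Nat.find_spec hex)
      omega⟩
    refine ⟨g ^ p ^ i, Nat.find_min hex (by omega), ?_, p ^ i, rfl, fun hgp => dvd_pow_self p fun h0 => hgp ?_⟩
    · rw [← pow_mul, ← pow_succ, ← hi]; exact Nat.find_spec hex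
    · have := Nat.find_spec hex; rwa [hi, h0, zero_add, pow_one] at this
  have hn2 : 2 ≤ n := by
    by_contra hlt
    obtain ⟨r, hr⟩ := hexp g₁
    obtain ⟨h, hh, hhp, k, hk, -⟩ := hord g₁ hg₁
    obtain ⟨s, hs⟩ := hexp h
    refine hh (hcomm_mem h ?_)
    obtain ⟨i, hi⟩ := (hmemU _).1 hhp
    have h1 : a ^ (s ^ p) = a ^ (1 : ℤ) := by
      rw [← hpow_conj h s hs p, hi]; group
    rw [pzpow_eq_iff ha] at h1
    rw [hs]
    conv_rhs => rw [← zpow_one a]
    rw [pzpow_eq_iff ha]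
    rcases Nat.le_one_iff_eq_zero_or_eq_one.1 (by omega : n ≤ 1) with rfl | rfl
    · simp
    · rw [pow_one] at h1 ⊢
      have h2 : ((s : ZMod p) ^ p) = 1 := by
        have h3 := (ZMod.intCast_zmod_eq_zero_iff_dvd (1 - s ^ p) p).2 h1
        push_cast at h3; exact (sub_eq_zero.1 h3).symm
      rw [ZMod.pow_card] at h2
      rw [← ZMod.intCast_zmod_eq_zero_iff_dvd]
      push_cast; rw [h2, sub_self]
  obtain ⟨j₀, hj₀⟩ : ∃ j, n = j + 2 := ⟨n - 2, by omega⟩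
  set P1 : Set G := (Cfsg.powerClosure p 1 U : Set G) with hP1
  set M := centralizer P1 with hMdef
  have hmemM : ∀ (g : G) (r : ℤ), g * a * g⁻¹ = a ^ r → (g ∈ M ↔ (p : ℤ) ^ (n - 1) ∣ r - 1) := by
    intro g r hr
    have hgp : g * a ^ (p : ℤ) * g⁻¹ = a ^ (r * p) := conj_zpow_of_eq hr _
    have hiff : a ^ (r * (p : ℤ)) = a ^ (p : ℤ) ↔ (p : ℤ) ^ (n - 1) ∣ r - 1 := by
      rw [pzpow_eq_iff ha, show (p : ℤ) - r * p = -((r - 1) * p) by ring, dvd_neg,
        show (p : ℤ) ^ n = (p : ℤ) ^ (n - 1) * p by rw [← pow_succ]; congr 1; omega,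
        mul_dvd_mul_iff_right (by exact_mod_cast hpp.ne_zero)]
    rw [← hiff, ← hgp]
    constructor
    · intro hg
      have hap : a ^ (p : ℤ) ∈ P1 := subset_closure ⟨a, g₀.2, by rw [pow_one, zpow_natCast]⟩
      rw [← mem_centralizer_iff.1 hg _ hap, mul_inv_cancel_right]
    · intro hg
      have hle : Cfsg.powerClosure p 1 U ≤ centralizer ({g} : Set G) := by
        refine (closure_le _).2 ?_
        rintro y ⟨x, hx, rfl⟩
        obtain ⟨i, rfl⟩ := (hmemU x).1 hx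
        rw [SetLike.mem_coe, mem_centralizer_singleton_iff, pow_one, ← zpow_natCast, ← zpow_mul, mul_comm i,
          zpow_mul]
        exact ((show Commute g (a ^ (p : ℤ)) from mul_inv_eq_iff_eq_mul.1 hg).zpow_right i).symm.eq
      exact mem_centralizer_iff.2 fun y hy => mem_centralizer_singleton_iff.1 (hle hy)
  by_cases hspecial : p = 2 ∧ (n = 2 ∨ M ≤ U)
  · left
    obtain ⟨rfl, hcase⟩ := hspecial
    have hgood : ∀ g ∉ U, ∀ r : ℤ, g * a * g⁻¹ = a ^ r → g ^ 2 ∈ U →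
        ((2 : ℤ) ^ n ∣ r + 1 ∨ (3 ≤ n ∧ (2 : ℤ) ^ n ∣ r - (-1 + 2 ^ (n - 1)))) := by
      intro g hg r hr hg2
      obtain ⟨i, hi⟩ := (hmemU _).1 hg2
      have h1 : a ^ (r ^ 2) = a ^ (1 : ℤ) := by rw [← hpow_conj g r hr 2, hi]; group
      rw [pzpow_eq_iff ha, Nat.cast_ofNat, ← dvd_neg, neg_sub] at h1
      have hne : ¬ (2 : ℤ) ^ n ∣ r - 1 := fun h => hg (hcomm_mem g (by
        rw [hr]; conv_rhs => rw [← zpow_one a]
        rw [pzpow_eq_iff ha, Nat.cast_ofNat, ← dvd_neg, neg_sub]; exact h))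
      rcases sqrt_one_cases hn2 h1 with h | h | h | h
      · exact absurd h hne
      · exact Or.inl h
      · rcases hcase with rfl | hMU
        · exact Or.inl (by norm_num at h ⊢; omega)
        · refine absurd (hMU ((hmemM g r hr).2 ?_)) hg
          push_cast
          obtain ⟨t, ht⟩ := h
          exact ⟨2 * t + 1, by
            rw [show (2 : ℤ) ^ n = 2 ^ (n - 1) * 2 by rw [← pow_succ]; congr 1; omega] at ht
            linear_combination ht⟩
      · rcases Nat.lt_or_ge n 3 with hlt | hge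
        · obtain rfl : n = 2 := by omega
          exact absurd (by norm_num at h ⊢; exact h) hne
        · exact Or.inr ⟨hge, h⟩
    have hsq : ∀ g : G, g ^ 2 ∈ U := by
      intro g
      by_contra hg2
      have hgU : g ∉ U := fun h => hg2 (pow_mem h 2)
      obtain ⟨r, hr⟩ := hexp g
      obtain ⟨h, hh, hhp, k, hk, hdvd⟩ := hord g hgU
      obtain ⟨k', rfl⟩ := hdvd hg2
      subst hk
      have hr' := hpow_conj g r hr (2 * k')
      have h4 : (4 : ℤ) ∣ r ^ (2 * k') + 1 := by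
        have hd : (4 : ℤ) ∣ 2 ^ n := by rw [hj₀, pow_add]; exact dvd_mul_left _ _
        rcases hgood _ hh _ hr' hhp with h | ⟨h3, h⟩
        · exact hd.trans h
        · have h8 : (4 : ℤ) ∣ 2 ^ (n - 1) := by
            rw [show n - 1 = (n - 3) + 2 by omega, pow_add]; exact dvd_mul_left _ _
          have := dvd_add (hd.trans h) h8
          rwa [show r ^ (2 * k') - (-1 + 2 ^ (n - 1)) + 2 ^ (n - 1) = r ^ (2 * k') + 1 by ring] at this
      rw [mul_comm, pow_mul] at h4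
      rcases Int.even_or_odd (r ^ k') with ⟨u, hu⟩ | ⟨u, hu⟩ <;> rw [hu] at h4
      · rw [show (u + u) ^ 2 + 1 = 4 * (u ^ 2) + 1 by ring] at h4; omega
      · rw [show (2 * u + 1) ^ 2 + 1 = 4 * (u ^ 2 + u) + 2 by ring] at h4; omega
    have hmod4 : ∀ g ∉ U, ∀ r : ℤ, g * a * g⁻¹ = a ^ r → (4 : ℤ) ∣ r + 1 := by
      intro g hg r hr
      have hd : (4 : ℤ) ∣ 2 ^ n := by rw [hj₀, pow_add]; exact dvd_mul_left _ _
      rcases hgood g hg r hr (hsq g) with h | ⟨h3, h⟩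
      · exact hd.trans h
      · have h8 : (4 : ℤ) ∣ 2 ^ (n - 1) := by
          rw [show n - 1 = (n - 3) + 2 by omega, pow_add]; exact dvd_mul_left _ _
        have := dvd_add (hd.trans h) h8
        rwa [show r - (-1 + 2 ^ (n - 1)) + 2 ^ (n - 1) = r + 1 by ring] at this
    have hprod : ∀ g ∉ U, ∀ h ∉ U, g * h ∈ U := by
      intro g hg h hh
      by_contra hgh
      obtain ⟨r, hr⟩ := hexp g
      obtain ⟨s, hs⟩ := hexp h
      have hrs : g * h * a * (g * h)⁻¹ = a ^ (r * s) := by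
        rw [show g * h * a * (g * h)⁻¹ = g * (h * a * h⁻¹) * g⁻¹ by group, hs, conj_zpow_of_eq hr]
      obtain ⟨x, hx⟩ := hmod4 g hg r hr
      obtain ⟨y, hy⟩ := hmod4 h hh s hs
      have := hmod4 _ hgh _ hrs
      rw [show r = 4 * x - 1 by linarith, show s = 4 * y - 1 by linarith,
        show (4 * x - 1) * (4 * y - 1) + 1 = 4 * (4 * x * y - x - y) + 2 by ring] at this
      omega
    have hi : U.index = 2 := by
      refine index_eq_two_iff.2 ⟨g₁, fun b => ?_⟩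
      by_cases hb : b ∈ U
      · exact Or.inr ⟨hb, fun h => hg₁ ((mul_mem_cancel_left hb).1 h)⟩
      · exact Or.inl ⟨hprod b hb g₁ hg₁, hb⟩
    have hcard : Nat.card G = 2 ^ (n + 1) := by
      rw [← U.card_mul_index, hUn, hi, pow_succ]
    obtain ⟨r, hr⟩ := hexp g₁
    refine ⟨rfl, hcard, mc_of_exponent hcard ha hn2 (by rw [← hUz, hi]) (by rw [← hUz]; exact hg₁) hr
      (hgood g₁ hg₁ r hr (hsq g₁))⟩
  · right
    have hpn : p ≠ 2 ∨ 3 ≤ n := by
      by_contra h; push Not at h; exact hspecial ⟨h.1, Or.inl (by omega)⟩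
    obtain ⟨h₁, hh₁, hh₁U⟩ : ∃ h ∈ M, h ∉ U := by
      rcases eq_or_ne p 2 with rfl | hodd
      · by_contra! h; exact hspecial ⟨rfl, Or.inr fun x hx => h x hx⟩
      obtain ⟨h, hh, hhp, k, hk, -⟩ := hord g₁ hg₁
      obtain ⟨r, hr⟩ := hexp h
      refine ⟨h, (hmemM h r hr).2 ?_, hh⟩
      obtain ⟨i, hi⟩ := (hmemU _).1 hhp
      have h1 : a ^ (r ^ p) = a ^ (1 : ℤ) := by rw [← hpow_conj h r hr p, hi]; group
      rw [pzpow_eq_iff ha, ← dvd_neg, neg_sub] at h1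
      have hp1 : (p : ℤ) ∣ r - 1 := by
        have h2 : ((r : ZMod p) ^ p) = 1 := by
          have h3 := (ZMod.intCast_zmod_eq_zero_iff_dvd (r ^ p - 1) p).2 ((dvd_pow_self (p : ℤ) (by omega)).trans h1)
          push_cast at h3; exact sub_eq_zero.1 h3
        rw [ZMod.pow_card] at h2
        rw [← ZMod.intCast_zmod_eq_zero_iff_dvd]
        push_cast; rw [h2, sub_self]
      obtain ⟨w, hw, c, hc⟩ := sum_pow_eq (p := p) (n := 2) le_rfl (Or.inl hodd) (r := r) (by simpa using hp1)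
      rw [← geom_sum_mul r p, show ∑ i ∈ Finset.range p, r ^ i = p * (w + p * c) by linear_combination hc,
        show (p : ℤ) ^ n = p * p ^ (n - 1) by rw [← pow_succ']; congr 1; omega, mul_assoc,
        mul_dvd_mul_iff_left (by exact_mod_cast hpp.ne_zero)] at h1
      exact (IsCoprime.pow_left (hw.add_mul_left_right c)).dvd_of_dvd_mul_left h1
    have hpi : Prime (p : ℤ) := Nat.prime_iff_prime_int.1 hpp
    have hpne : (p : ℤ) ≠ 0 := hpi.ne_zero
    obtain ⟨r, hr⟩ := hexp h₁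
    obtain ⟨s, hs⟩ := (hmemM h₁ r hr).1 hh₁
    obtain rfl : r = 1 + (p : ℤ) ^ (n - 1) * s := by linarith
    have hpn' : (p : ℤ) ^ n = (p : ℤ) ^ (n - 1) * p := by rw [← pow_succ]; congr 1; omega
    have hsp : IsCoprime (p : ℤ) s := (hpi.coprime_iff_not_dvd).2 fun hd => hh₁U (hcomm_mem h₁ (by
      rw [hr]; conv_rhs => rw [← zpow_one a]
      rw [pzpow_eq_iff ha, hpn']
      obtain ⟨t, rfl⟩ := hd
      exact ⟨-t, by ring⟩))
    have hMdec : ∀ x ∈ M, ∃ k : ℕ, (h₁ ^ k)⁻¹ * x ∈ U := by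
      intro x hx
      obtain ⟨rx, hrx⟩ := hexp x
      obtain ⟨t, ht⟩ := (hmemM x rx hrx).1 hx
      obtain ⟨u, v, huv⟩ := hsp
      have hk : ∀ k : ℕ, ∃ c, (1 + (p : ℤ) ^ (n - 1) * s) ^ k = 1 + k * ((p : ℤ) ^ (n - 1) * s) + c * (p : ℤ) ^ n := by
        intro k
        induction k with
        | zero => exact ⟨0, by simp⟩
        | succ k ih =>
          obtain ⟨c, hc⟩ := ih
          refine ⟨c * (1 + (p : ℤ) ^ (n - 1) * s) + k * (p : ℤ) ^ (n - 2) * s ^ 2, ?_⟩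
          rw [pow_succ (1 + (p : ℤ) ^ (n - 1) * s), hc]
          have e : (p : ℤ) ^ (n - 1) * (p : ℤ) ^ (n - 1) = (p : ℤ) ^ n * (p : ℤ) ^ (n - 2) := by
            rw [← pow_add, ← pow_add]; congr 1; omega
          push_cast
          linear_combination ((k : ℤ) * s ^ 2) * e
      refine ⟨((v * t) % p).toNat, hcomm_mem _ ?_⟩
      set k := ((v * t) % p).toNat with hkdef
      have hkz : (k : ℤ) = v * t - p * ((v * t) / p) := by
        rw [hkdef, Int.toNat_of_nonneg (Int.emod_nonneg _ hpne), Int.emod_def]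
      obtain ⟨c, hc⟩ := hk k
      have h1 : h₁ ^ k * a * (h₁ ^ k)⁻¹ = x * a * x⁻¹ := by
        rw [hpow_conj h₁ _ hr k, hrx, pzpow_eq_iff ha, hc, show rx = 1 + (p : ℤ) ^ (n - 1) * t by linarith, hkz, hpn']
        exact ⟨-c + s * ((v * t) / p) + t * u, by linear_combination (-((p : ℤ) ^ (n - 1) * t)) * huv⟩
      rw [show (h₁ ^ k)⁻¹ * x * a * ((h₁ ^ k)⁻¹ * x)⁻¹ = (h₁ ^ k)⁻¹ * (x * a * x⁻¹) * h₁ ^ k by group, ← h1]
      group
    have hUM : U ≤ M := fun x hx => mem_centralizer_iff.2 fun y hy => by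
      have hle : Cfsg.powerClosure p 1 U ≤ U := (closure_le _).2 (by
        rintro y ⟨v, hv, rfl⟩; exact pow_mem hv _)
      exact mem_centralizer_iff.1 (hC.symm ▸ hx : x ∈ centralizer (U : Set G)) y (hle hy)
    have hwpow : ∀ x : G, x ∈ M → ∀ r : ℤ, x * a * x⁻¹ = a ^ r → ∃ w : ℤ, IsCoprime (p : ℤ) w ∧
        ∀ j : ℤ, (a ^ j * x) ^ p = a ^ (j * p * w) * x ^ p := by
      intro x hx rx hrx
      obtain ⟨w, hw, hd⟩ := sum_pow_eq hn2 hpn ((hmemM x rx hrx).1 hx)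
      refine ⟨w, hw, fun j => ?_⟩
      rw [mul_pow_eq hrx j p]
      congr 1
      rw [pzpow_eq_iff ha, show j * p * w - j * ∑ i ∈ Finset.range p, rx ^ i =
        -(j * (∑ i ∈ Finset.range p, rx ^ i - p * w)) by ring, dvd_neg]
      exact dvd_mul_of_dvd_right hd j
    obtain ⟨h₀, hh₀M, hh₀U, hh₀p⟩ : ∃ h₀ ∈ M, h₀ ∉ U ∧ h₀ ^ p = 1 := by
      obtain ⟨w, hw, hf⟩ := hwpow h₁ hh₁ _ hr
      have hp1U : h₁ ^ p ∈ U := by
        refine hcomm_mem _ ?_
        rw [hpow_conj h₁ _ hr p]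
        conv_rhs => rw [← zpow_one a]
        obtain ⟨w', -, hd⟩ := sum_pow_eq hn2 hpn ((hmemM h₁ _ hr).1 hh₁)
        obtain ⟨c, hc⟩ := hd
        rw [pzpow_eq_iff ha]
        refine ⟨-(c * p ^ (n - 1) * s + w' * s), ?_⟩
        have hg := geom_sum_mul (1 + (p : ℤ) ^ (n - 1) * s) p
        linear_combination hg - ((p : ℤ) ^ (n - 1) * s) * hc + (w' * s) * hpn'
      obtain ⟨c, hc⟩ := (hmemU _).1 hp1U
      have hfix : (p : ℤ) ∣ c := by
        have e : a ^ ((1 + (p : ℤ) ^ (n - 1) * s) * c) = a ^ c := by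
          rw [← conj_zpow_of_eq hr, ← hc]; group
        rw [pzpow_eq_iff ha, hpn', show c - (1 + (p : ℤ) ^ (n - 1) * s) * c = (p : ℤ) ^ (n - 1) * (-(s * c)) by ring,
          mul_dvd_mul_iff_left (pow_ne_zero _ hpne), dvd_neg] at e
        exact hsp.dvd_of_dvd_mul_left e
      obtain ⟨c', rfl⟩ := hfix
      obtain ⟨u, v, huv⟩ : IsCoprime w ((p : ℤ) ^ (n - 1)) := IsCoprime.pow_right hw.symm
      refine ⟨a ^ (-(u * c')) * h₁, mul_mem (hUM (zpow_mem g₀.2 _)) hh₁, fun h => hh₁U ?_, ?_⟩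
      · have := mul_mem (inv_mem (zpow_mem (g₀.2 : a ∈ U) (-(u * c')))) h
        rwa [inv_mul_cancel_left] at this
      · rw [hf, hc, ← zpow_add, ← zpow_zero a, pzpow_eq_iff ha, hpn']
        exact ⟨-(v * c'), by linear_combination ((p : ℤ) * c') * huv⟩
    have hnotdvd : ∀ k : ℤ, h₀ ^ k ∈ U → (p : ℤ) ∣ k := by
      intro k hk
      by_contra hd
      obtain ⟨u, v, huv⟩ := (hpi.coprime_iff_not_dvd).2 hd
      refine hh₀U ?_
      have : h₀ = (h₀ ^ k) ^ v := by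
        rw [← zpow_mul]
        conv_lhs => rw [← zpow_one h₀, ← huv, mul_comm u, zpow_add, zpow_mul, zpow_natCast, hh₀p, one_zpow, one_mul,
          mul_comm]
      exact this ▸ zpow_mem hk v
    have hMdec' : ∀ x ∈ M, ∃ (j : ℤ) (k : ℕ), x = a ^ j * h₀ ^ k := by
      intro x hx
      obtain ⟨k, hk⟩ := hMdec x hx
      obtain ⟨k', hk'⟩ := hMdec h₀ hh₀M
      set π := QuotientGroup.mk' U with hπdef
      have hq : ∀ v w : G, v⁻¹ * w ∈ U → π v = π w := fun v w h => QuotientGroup.eq.2 h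
      have hpk' : ¬ p ∣ k' := fun hd => hh₀U (by
        obtain ⟨d, rfl⟩ := hd
        obtain ⟨w, -, hf⟩ := hwpow h₁ hh₁ _ hr
        have hp1U : h₁ ^ p ∈ U := by
          have h9 := hq _ _ hk'
          by_contra hne
          obtain ⟨h, hh, -, k'', hk'', hdv⟩ := hord h₁ hh₁U
          obtain ⟨q, rfl⟩ := hdv hne
          exact hh (hk'' ▸ hcomm_mem _ (by
            rw [pow_mul]
            rw [hpow_conj _ _ (hpow_conj h₁ _ hr p) q]
            conv_rhs => rw [← zpow_one a]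
            obtain ⟨w', -, c, hc⟩ := sum_pow_eq hn2 hpn ((hmemM h₁ _ hr).1 hh₁)
            have hg := geom_sum_mul (1 + (p : ℤ) ^ (n - 1) * s) p
            obtain ⟨e, he⟩ : (p : ℤ) ^ n ∣ (1 + (p : ℤ) ^ (n - 1) * s) ^ p - 1 :=
              ⟨c * p ^ (n - 1) * s + w' * s, by
                linear_combination -hg + ((p : ℤ) ^ (n - 1) * s) * hc - (w' * s) * hpn'⟩
            rw [pzpow_eq_iff ha, ← dvd_neg, neg_sub]
            exact (Dvd.intro e he.symm).trans (sub_one_dvd_pow_sub_one _ q)))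
        have := mul_mem (pow_mem hp1U d) hk'
        rwa [← pow_mul, mul_inv_cancel_left] at this)
      obtain ⟨u, v, huv⟩ := (hpi.coprime_iff_not_dvd).2
        (fun hd => hpk' (Int.natCast_dvd_natCast.1 hd) : ¬ (p : ℤ) ∣ (k' : ℤ))
      set i := ((v * k) % p).toNat with hidef
      have hiz : (i : ℤ) = v * k - p * ((v * k) / p) := by
        rw [hidef, Int.toNat_of_nonneg (Int.emod_nonneg _ hpne), Int.emod_def]
      have hp1 : π h₁ ^ (p : ℤ) = 1 := by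
        have e1 : π h₀ ^ p = 1 := by rw [← map_pow, hh₀p, map_one]
        rw [← hq _ _ hk', ← map_pow, ← pow_mul, map_pow] at e1
        have e2 : orderOf (π h₁) ∣ k' * p := orderOf_dvd_iff_pow_eq_one.2 e1
        obtain ⟨e, he⟩ := IsPGroup.iff_orderOf.1 (hG.to_quotient U) (π h₁)
        rw [zpow_natCast, ← orderOf_dvd_iff_pow_eq_one, he]
        rw [he] at e2
        exact (Nat.Coprime.pow_left e ((hpp.coprime_iff_not_dvd).2 hpk')).dvd_of_dvd_mul_left e2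
      have hxi : π x = π (h₀ ^ i) := by
        rw [map_pow, ← hq _ _ hk', ← hq _ _ hk, ← map_pow, ← pow_mul, map_pow, map_pow, ← zpow_natCast,
          ← zpow_natCast (π h₁) (k' * i)]
        rw [show ((k : ℤ)) = ((k' * i : ℕ) : ℤ) + (p : ℤ) * ((k' : ℤ) * ((v * k) / p) + u * k) by
          push_cast; rw [hiz]; linear_combination (-(k : ℤ)) * huv, zpow_add, zpow_mul (π h₁) (p : ℤ), hp1,
          one_zpow, mul_one]
      have hmem : x * (h₀ ^ i)⁻¹ ∈ U := by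
        rw [← QuotientGroup.eq_one_iff, ← QuotientGroup.mk'_apply, ← hπdef, map_mul, map_inv, hxi, mul_inv_cancel]
      obtain ⟨j, hj⟩ := (hmemU _).1 hmem
      exact ⟨j, i, by rw [← hj, inv_mul_cancel_right]⟩
    set z := a ^ ((p : ℤ) ^ (n - 1)) with hz
    have hzp : z ^ (p : ℤ) = 1 := by rw [hz, ← zpow_mul, ← hpn', ← zpow_zero a, pzpow_eq_iff ha, zero_sub, dvd_neg]
    have hhp : h₀ ^ (p : ℤ) = 1 := by rw [zpow_natCast, hh₀p]
    have hzh : Commute h₀ z := by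
      obtain ⟨r₀, hr₀⟩ := hexp h₀
      obtain ⟨t, ht⟩ := (hmemM h₀ r₀ hr₀).1 hh₀M
      refine mul_inv_eq_iff_eq_mul.1 ?_
      rw [hz, conj_zpow_of_eq hr₀, pzpow_eq_iff ha]
      refine ⟨-((p : ℤ) ^ (n - 2) * t), ?_⟩
      have e : (p : ℤ) ^ (n - 1) * (p : ℤ) ^ (n - 1) = (p : ℤ) ^ n * (p : ℤ) ^ (n - 2) := by
        rw [← pow_add, ← pow_add]; congr 1; omega
      linear_combination (-t) * e - ((p : ℤ) ^ (n - 1)) * ht
    let E : Subgroup G :=
      { carrier := {x | ∃ i k : ℤ, x = z ^ i * h₀ ^ k}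
        one_mem' := ⟨0, 0, by simp⟩
        mul_mem' := by
          rintro _ _ ⟨i, k, rfl⟩ ⟨i', k', rfl⟩
          exact ⟨i + i', k + k', by
            rw [zpow_add, zpow_add, mul_assoc, ← mul_assoc (h₀ ^ k), (hzh.zpow_zpow k i').eq]; group⟩
        inv_mem' := by
          rintro _ ⟨i, k, rfl⟩
          exact ⟨-i, -k, by rw [mul_inv_rev, ← zpow_neg, ← zpow_neg, (hzh.zpow_zpow (-k) (-i)).eq]⟩ }
    have hset : ∀ x, x ∈ E ↔ (x ∈ M ∧ x ^ p = 1) := by
      intro x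
      constructor
      · rintro ⟨i, k, rfl⟩
        refine ⟨mul_mem (zpow_mem (hUM (zpow_mem g₀.2 _)) i) (zpow_mem hh₀M k), ?_⟩
        rw [← zpow_natCast, (hzh.symm.zpow_zpow i k).mul_zpow, ← zpow_mul, mul_comm i, zpow_mul, hzp, one_zpow,
          ← zpow_mul, mul_comm k, zpow_mul, hhp, one_zpow, one_mul]
      · rintro ⟨hx, hxp⟩
        obtain ⟨j, k, rfl⟩ := hMdec' x hx
        obtain ⟨rk, hrk⟩ := hexp (h₀ ^ k)
        obtain ⟨w, hw, hf⟩ := hwpow (h₀ ^ k) (pow_mem hh₀M k) rk hrk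
        rw [hf, ← pow_mul h₀, mul_comm k, pow_mul, hh₀p, one_pow, mul_one, ← zpow_zero a, pzpow_eq_iff ha, hpn',
          zero_sub, dvd_neg, mul_comm j, mul_assoc, mul_comm ((p : ℤ) ^ (n - 1)),
          mul_dvd_mul_iff_left hpne] at hxp
        obtain ⟨i, rfl⟩ := ((IsCoprime.pow_left hw).dvd_of_dvd_mul_right hxp)
        exact ⟨i, k, by rw [hz, ← zpow_mul, zpow_natCast]⟩
    have hΩ : Cfsg.omegaOne p M = E := le_antisymm
      ((closure_le _).2 fun x hx => (hset x).2 hx) fun x hx => subset_closure ((hset x).1 hx)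
    refine ⟨?_, ?_, ?_, ?_⟩
    · have hcompl : IsComplement' (U.subgroupOf M) ((zpowers h₀).subgroupOf M) := by
        refine isComplement'_of_disjoint_and_mul_eq_univ ?_ ?_
        · rw [disjoint_def]
          rintro ⟨x, hx⟩ hxU hxh
          rw [mem_subgroupOf] at hxU hxh
          obtain ⟨k, rfl⟩ := mem_zpowers_iff.1 hxh
          obtain ⟨q, rfl⟩ := hnotdvd k hxU
          exact Subtype.ext (by show h₀ ^ ((p : ℤ) * q) = 1; rw [zpow_mul, hhp, one_zpow])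
        · refine Set.eq_univ_iff_forall.2 fun ⟨x, hx⟩ => ?_
          obtain ⟨j, k, rfl⟩ := hMdec' x hx
          exact Set.mem_mul.2 ⟨⟨a ^ j, hUM (zpow_mem g₀.2 j)⟩, mem_subgroupOf.2 (zpow_mem g₀.2 j : a ^ j ∈ U),
            ⟨h₀ ^ k, pow_mem hh₀M k⟩, mem_subgroupOf.2 (npow_mem_zpowers h₀ k), rfl⟩
      show (U.subgroupOf M).index = p
      rw [hcompl.symm.index_eq_card, Nat.card_congr (subgroupOfEquivOfLe (zpowers_le.2 hh₀M)).toEquiv, Nat.card_zpowers]
      exact orderOf_eq_prime hh₀p fun e => hh₀U (e ▸ one_mem U)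
    · rw [hΩ]
      refine ⟨⟨⟨?_⟩⟩, fun x hx => ((hset x).1 hx).2⟩
      rintro ⟨_, i, k, rfl⟩ ⟨_, i', k', rfl⟩
      refine Subtype.ext ?_
      show z ^ i * h₀ ^ k * (z ^ i' * h₀ ^ k') = z ^ i' * h₀ ^ k' * (z ^ i * h₀ ^ k)
      exact (((Commute.refl z).zpow_zpow i i').mul_right (hzh.symm.zpow_zpow i k')).mul_left
        ((hzh.zpow_zpow k i').mul_right ((Commute.refl h₀).zpow_zpow k k'))
    · rw [hΩ]
      let f : Fin p × Fin p → E := fun ik => ⟨z ^ (ik.1 : ℤ) * h₀ ^ (ik.2 : ℤ), _, _, rfl⟩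
      have hinj : Function.Injective f := by
        rintro ⟨⟨i, hi⟩, ⟨k, hk⟩⟩ ⟨⟨i', hi'⟩, ⟨k', hk'⟩⟩ h
        have h' : z ^ (i : ℤ) * h₀ ^ (k : ℤ) = z ^ (i' : ℤ) * h₀ ^ (k' : ℤ) := congrArg Subtype.val h
        have h2 : h₀ ^ ((k : ℤ) - k') = z ^ ((i' : ℤ) - i) := by
          calc h₀ ^ ((k : ℤ) - k') = (z ^ (i : ℤ))⁻¹ * (z ^ (i : ℤ) * h₀ ^ (k : ℤ)) * (h₀ ^ (k' : ℤ))⁻¹ := by
                rw [zpow_sub]; group
            _ = z ^ ((i' : ℤ) - i) := by rw [h', zpow_sub]; group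
        have hkk : k = k' := by
          have := Int.eq_zero_of_abs_lt_dvd (hnotdvd _ (h2 ▸ zpow_mem (zpow_mem g₀.2 _) _))
            (by rw [abs_lt]; omega)
          omega
        subst hkk
        rw [sub_self, zpow_zero, hz, ← zpow_mul, ← zpow_zero a, pzpow_eq_iff ha, hpn', sub_zero,
          mul_dvd_mul_iff_left (pow_ne_zero _ hpne)] at h2
        have h3 := Int.eq_zero_of_abs_lt_dvd h2 (by rw [abs_lt]; omega)
        obtain rfl : i = i' := by omega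
        rfl
      have hsurj : Function.Surjective f := by
        rintro ⟨_, i, k, rfl⟩
        have hred : ∀ (g : G), g ^ (p : ℤ) = 1 → ∀ l : ℤ, g ^ (l % p) = g ^ l := fun g hg l => by
          conv_rhs => rw [← Int.emod_add_mul_ediv l p, zpow_add, zpow_mul, hg, one_zpow, mul_one]
        have hb : ∀ l : ℤ, (l % p).toNat < p := fun l => by
          have := Int.emod_lt_of_pos l (by exact_mod_cast hpp.pos : (0 : ℤ) < p)
          have := Int.emod_nonneg l hpne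
          omega
        refine ⟨⟨⟨(i % p).toNat, hb i⟩, ⟨(k % p).toNat, hb k⟩⟩, Subtype.ext ?_⟩
        show z ^ (((i % p).toNat : ℕ) : ℤ) * h₀ ^ (((k % p).toNat : ℕ) : ℤ) = _
        rw [Int.toNat_of_nonneg (Int.emod_nonneg _ hpne), Int.toNat_of_nonneg (Int.emod_nonneg _ hpne),
          hred z hzp, hred h₀ hhp]
      rw [← Nat.card_congr (Equiv.ofBijective f ⟨hinj, hsurj⟩), Nat.card_prod, Nat.card_fin, pow_two]
    · rw [hΩ]
      have hnormal : ∀ x ∈ E, ∀ c : G, c * x * c⁻¹ ∈ E := by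
        intro x hx c
        obtain ⟨hxM, hxp⟩ := (hset x).1 hx
        refine (hset _).2 ⟨?_, by rw [conj_pow, hxp, mul_one, mul_inv_cancel]⟩
        obtain ⟨rx, hrx⟩ := hexp x
        obtain ⟨t, htc⟩ := hexp c⁻¹
        obtain ⟨rc, hrc⟩ := hexp c
        refine (hmemM _ rx ?_).2 ((hmemM x rx hrx).1 hxM)
        have e : c * a ^ t * c⁻¹ = a := by rw [← htc]; group
        calc c * x * c⁻¹ * a * (c * x * c⁻¹)⁻¹ = c * (x * (c⁻¹ * a * c⁻¹⁻¹) * x⁻¹) * c⁻¹ := by group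
          _ = c * (a ^ t) ^ rx * c⁻¹ := by rw [htc, conj_zpow_of_eq hrx, mul_comm, zpow_mul]
          _ = a ^ rx := by rw [← conj_zpow, e]
      refine characteristic_iff_map_le.2 fun φ => ?_
      rintro _ ⟨x, hx, rfl⟩
      show φ x ∈ E
      obtain ⟨rf, hrf⟩ := hexp (φ x)
      refine (hset _).2 ⟨(hmemM _ rf hrf).2 ?_, by rw [← map_pow, ((hset x).1 hx).2, map_one]⟩
      have hmem : φ x * a * (φ x)⁻¹ * a⁻¹ ∈ E.map φ.toMonoidHom := by
        refine ⟨x * (φ.symm a * x⁻¹ * (φ.symm a)⁻¹), mul_mem hx (hnormal _ (inv_mem hx) _), ?_⟩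
        simp [mul_assoc]
      obtain ⟨y, hy, hye⟩ := hmem
      have h1 : (φ x * a * (φ x)⁻¹ * a⁻¹) ^ p = 1 := by
        rw [← hye]; show φ y ^ p = 1
        rw [← map_pow, ((hset y).1 hy).2, map_one]
      rw [hrf, ← zpow_sub_one, ← zpow_natCast, ← zpow_mul, ← zpow_zero a, pzpow_eq_iff ha, zero_sub, dvd_neg, hpn',
        mul_dvd_mul_iff_right hpne] at h1
      exact h1

end Cfsg.Agent.MaxClass
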