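import Cfsg.Agent.MaxClass.PowMax
import Cfsg.Agent.Core.Hall

/-!
Two-step centralizers in `p`-groups of maximal class, `p` odd (Blackburn): all of them, apart from
possibly the last one, coincide with the first; the last one does so as well when the order has odd
exponent; some element lies outside all of them.
-/

set_option autoImplicit false

namespace Cfsg.Agent.MaxClass.TwoStep

open Subgroup
open scoped commutatorElement
open Cfsg.Agent.MaxClass.Graded (L_anti L_comm L_comm_x lcs_L pow_congr MX)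

universe u

variable {X : Type u} [Group X]

/-- The terms of the lower central series. -/
local notation "L" => fun i : ℕ => Subgroup.lowerCentralSeries (⊤ : Subgroup _) i

/-- A group of order `p ^ n` and class `n - 1`. -/
structure MCl (p n : ℕ) (X : Type u) [Group X] : Prop where
  three : 3 ≤ n
  cardX : Nat.card X = p ^ n
  cl : Group.nilpotencyClass X = n - 1

/-- The `i`-th two-step centralizer. -/
def K (X : Type u) [Group X] (i : ℕ) : Subgroup X :=
  (centralizer ((((⊤ : Subgroup X).lowerCentralSeries i).map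
    (QuotientGroup.mk' ((⊤ : Subgroup X).lowerCentralSeries (i + 2))) : Subgroup _) : Set _)).comap
    (QuotientGroup.mk' ((⊤ : Subgroup X).lowerCentralSeries (i + 2)))

theorem mem_K {i : ℕ} {g : X} : g ∈ K X i ↔ ∀ a ∈ (⊤ : Subgroup X).lowerCentralSeries i,
    ⁅g, a⁆ ∈ (⊤ : Subgroup X).lowerCentralSeries (i + 2) := by
  rw [K, mem_comap, mem_centralizer_iff]
  constructor
  · intro h a ha
    exact PowMax.mem_of_commute_mk (h _ (mem_map_of_mem _ ha)).symm
  · rintro h _ ⟨a, ha, rfl⟩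
    exact (PowMax.commute_mk (h a ha)).symm.eq

/-- The commutator identity behind the recursions. -/
theorem expand {s a b : X} (h1 : Commute ⁅s, b⁆ ⁅a, b⁆) (h2 : Commute ⁅s, a⁆ (⁅a, ⁅s, b⁆⁆ * ⁅a, b⁆))
    (h3 : ⁅⁅s, a⁆, ⁅s, b⁆⁆ = 1) (h4 : Commute ⁅s, b⁆ ⁅⁅s, a⁆, b⁆) :
    ⁅s, ⁅a, b⁆⁆ * ⁅a, b⁆ = ⁅a, ⁅s, b⁆⁆ * ⁅a, b⁆ * ⁅⁅s, a⁆, b⁆ := by
  have e1 : ⁅s, ⁅a, b⁆⁆ * ⁅a, b⁆ = ⁅⁅s, a⁆ * a, ⁅s, b⁆ * b⁆ := by
    simp only [commutatorElement_def]; group
  have e2 : ⁅a, ⁅s, b⁆ * b⁆ = ⁅a, ⁅s, b⁆⁆ * ⁅a, b⁆ := by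
    rw [commutatorElement_mul_right_eq_mul_conj, mul_assoc _ ⁅s, b⁆ ⁅a, b⁆, h1.eq, ← mul_assoc,
      mul_inv_cancel_right]
  have e3 : ⁅⁅s, a⁆, ⁅s, b⁆ * b⁆ = ⁅⁅s, a⁆, b⁆ := by
    rw [commutatorElement_mul_right_eq_mul_conj, h3, one_mul, h4.eq, mul_inv_cancel_right]
  rw [e1, commutatorElement_mul_left_eq_conj_mul, e2, e3, h2.eq, mul_inv_cancel_right]

theorem comm_of_mem {i j m : ℕ} {a b : X} (ha : a ∈ (⊤ : Subgroup X).lowerCentralSeries i)
    (hb : b ∈ (⊤ : Subgroup X).lowerCentralSeries j) (h : m ≤ i + j + 1) :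
    ⁅a, b⁆ ∈ (⊤ : Subgroup X).lowerCentralSeries m :=
  L_anti h (L_comm ha hb)

/-- Iterated commutators with `s`. -/
def eSeq (s u : X) : ℕ → X
  | 0 => u
  | i + 1 => ⁅s, eSeq s u i⁆

theorem eSeq_mem (s u : X) : ∀ i, eSeq s u i ∈ (⊤ : Subgroup X).lowerCentralSeries i
  | 0 => Subgroup.mem_top _
  | i + 1 => L_comm_x (eSeq_mem s u i) s

variable [Finite X] {p n : ℕ} [hp : Fact p.Prime]

theorem mcl_of_ne_bot (hn : Nat.card X = p ^ n) (h3 : 3 ≤ n)
    (h : (⊤ : Subgroup X).lowerCentralSeries (n - 2) ≠ ⊥) : MCl p n X := by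
  have hX : IsPGroup p X := IsPGroup.of_card hn
  have := hX.isNilpotent
  refine ⟨h3, hn, le_antisymm ?_ ?_⟩
  · rcases Nat.eq_zero_or_pos (Group.nilpotencyClass X) with h0 | h0
    · omega
    by_contra hlt
    -- each step of the series has index at least `p`, the first at least `p ^ 2`
    have hne : ∀ i < Group.nilpotencyClass X, (⊤ : Subgroup X).lowerCentralSeries i ≠ ⊥ := fun i hi hb => by
      have := Subgroup.lowerCentralSeries_eq_bot_iff_nilpotencyClass_le.1 hb
      omega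
    have hdec : ∀ d, d + 1 < Group.nilpotencyClass X →
        p ^ d * Nat.card ↥((⊤ : Subgroup X).lowerCentralSeries (d + 1)) ≤
          Nat.card ↥((⊤ : Subgroup X).lowerCentralSeries 1) := by
      intro d
      induction d with
      | zero => intro _; simp
      | succ d ih =>
        intro hd
        refine le_trans ?_ (ih (by omega))
        rw [pow_succ, mul_assoc]
        exact Nat.mul_le_mul_left _ (lcs_step hX (d + 1) (hne _ (by omega)))
    have hc1 := hdec (n - 2) (by omega)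
    have hc2 : 1 < Nat.card ↥((⊤ : Subgroup X).lowerCentralSeries (n - 2 + 1)) :=
      (one_lt_card_iff_ne_bot _).2 (hne _ (by omega))
    have hc3 : p ^ 2 * Nat.card ↥((⊤ : Subgroup X).lowerCentralSeries 1) ≤ p ^ n := by
      have h1 := sq_dvd_index_commutator hX (hne 1 (by omega))
      have h2 := (_root_.commutator X).card_mul_index
      rw [hn] at h2
      rw [← h2, mul_comm]
      exact Nat.mul_le_mul_left _ (Nat.le_of_dvd (Nat.pos_of_ne_zero index_ne_zero_of_finite) h1)
    have h5 : p ^ 2 * (p ^ (n - 2) * 1) < p ^ n := by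
      refine lt_of_lt_of_le ?_ ((Nat.mul_le_mul_left _ hc1).trans hc3)
      exact Nat.mul_lt_mul_of_pos_left
        (Nat.mul_lt_mul_of_pos_left hc2 (pow_pos hp.out.pos _)) (pow_pos hp.out.pos _)
    rw [mul_one, ← pow_add, Nat.pow_lt_pow_iff_right hp.out.one_lt] at h5
    omega
  · by_contra hlt
    exact h (Subgroup.lowerCentralSeries_eq_bot_iff_nilpotencyClass_le.2 (by omega))

variable (h : MCl p n X)
include h

theorem MCl.pgrp : IsPGroup p X := IsPGroup.of_card h.cardX

theorem MCl.cardL {i : ℕ} (hi : 1 ≤ i) :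
    Nat.card ↥((⊤ : Subgroup X).lowerCentralSeries i) = p ^ (n - 1 - i) :=
  PowMax.lcs_card h.cardX h.three h.cl i hi

theorem MCl.eq_one {i : ℕ} (hi : n - 1 ≤ i) {g : X}
    (hg : g ∈ (⊤ : Subgroup X).lowerCentralSeries i) : g = 1 := by
  have := h.three
  have hb : (⊤ : Subgroup X).lowerCentralSeries i = ⊥ :=
    card_eq_one.1 (by rw [h.cardL (by omega), show n - 1 - i = 0 by omega, pow_zero])
  rwa [hb, mem_bot] at hg

theorem MCl.commute_of_mem {i j : ℕ} {a b : X} (ha : a ∈ (⊤ : Subgroup X).lowerCentralSeries i)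
    (hb : b ∈ (⊤ : Subgroup X).lowerCentralSeries j) (hij : n - 1 ≤ i + j + 1) : Commute a b :=
  commutatorElement_eq_one_iff_mul_comm.1 (h.eq_one hij (L_comm ha hb))

theorem MCl.ne_step {i : ℕ} (h1 : 1 ≤ i) (hi : i ≤ n - 2) :
    ∃ a ∈ (⊤ : Subgroup X).lowerCentralSeries i, a ∉ (⊤ : Subgroup X).lowerCentralSeries (i + 1) := by
  refine SetLike.exists_of_lt (lt_of_le_of_ne (L_anti (Nat.le_succ i)) fun e => ?_)
  have h2 := h.cardL (i := i + 1) (by omega)
  rw [e, h.cardL h1] at h2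
  have := Nat.pow_right_injective hp.out.two_le h2
  have := h.three
  omega

theorem MCl.decomp {i : ℕ} (h1 : 1 ≤ i) {a v : X} (ha : a ∈ (⊤ : Subgroup X).lowerCentralSeries i)
    (ha' : a ∉ (⊤ : Subgroup X).lowerCentralSeries (i + 1))
    (hv : v ∈ (⊤ : Subgroup X).lowerCentralSeries i) :
    ∃ k : ℤ, ∃ d ∈ (⊤ : Subgroup X).lowerCentralSeries (i + 1), v = a ^ k * d := by
  obtain ⟨b, hb, d, hd, rfl⟩ := mem_sup_of_normal_right.1 (PowMax.layer_le h.cardX h.three h.cl h1 ha ha' hv)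
  obtain ⟨k, rfl⟩ := mem_zpowers_iff.1 hb
  exact ⟨k, d, hd, rfl⟩

/-- Membership in a two-step centralizer is tested on one element. -/
theorem MCl.mem_K_of_one {i : ℕ} (h1 : 1 ≤ i) {a g : X} (ha : a ∈ (⊤ : Subgroup X).lowerCentralSeries i)
    (ha' : a ∉ (⊤ : Subgroup X).lowerCentralSeries (i + 1))
    (hg : ⁅g, a⁆ ∈ (⊤ : Subgroup X).lowerCentralSeries (i + 2)) : g ∈ K X i := by
  refine mem_K.2 fun v hv => ?_
  obtain ⟨k, d, hd, rfl⟩ := h.decomp h1 ha ha' hv
  refine PowMax.mem_of_commute_mk ?_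
  rw [QuotientGroup.mk_mul, QuotientGroup.mk_zpow]
  exact ((PowMax.commute_mk hg).zpow_right k).mul_right (PowMax.commute_mk (L_comm_x hd g))

theorem MCl.L1_le_K (i : ℕ) : (⊤ : Subgroup X).lowerCentralSeries 1 ≤ K X i := fun g hg =>
  mem_K.2 fun _ ha => comm_of_mem hg ha (by omega)

theorem MCl.K_ne_top {i : ℕ} (h1 : 1 ≤ i) (hi : i ≤ n - 3) : K X i ≠ ⊤ := by
  intro e
  have hle : (⊤ : Subgroup X).lowerCentralSeries (i + 1) ≤ (⊤ : Subgroup X).lowerCentralSeries (i + 2) := by
    show ⁅(⊤ : Subgroup X).lowerCentralSeries i, (⊤ : Subgroup X)⁆ ≤ _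
    rw [commutator_le]
    intro a ha g _
    rw [← commutatorElement_inv]
    exact inv_mem (mem_K.1 (e.symm ▸ Subgroup.mem_top g) a ha)
  have h2 := card_le_of_le hle
  rw [h.cardL (by omega), h.cardL (by omega)] at h2
  have := (Nat.pow_le_pow_iff_right hp.out.one_lt).1 h2
  have := h.three
  omega

theorem MCl.exists_mem_K {i : ℕ} (h1 : 1 ≤ i) (hi : i ≤ n - 3) :
    ∃ g ∈ K X i, g ∉ (⊤ : Subgroup X).lowerCentralSeries 1 := by
  have := h.three
  obtain ⟨a, ha, ha'⟩ := h.ne_step h1 (by omega)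
  set N1 := (⊤ : Subgroup X).lowerCentralSeries 1
  set N := (⊤ : Subgroup X).lowerCentralSeries (i + 2)
  set Z := ((⊤ : Subgroup X).lowerCentralSeries (i + 1)).map (QuotientGroup.mk' N)
  have hcq : Nat.card (X ⧸ N1) = p ^ 2 := by
    have h2 := N1.card_mul_index
    rw [h.cardL le_rfl, h.cardX, show p ^ n = p ^ (n - 1 - 1) * p ^ 2 by
      rw [← pow_add]; congr 1; omega] at h2
    rw [← index_eq_card]
    exact Nat.eq_of_mul_eq_mul_left (pow_pos hp.out.pos _) h2
  have hcZ : Nat.card Z = p := by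
    have h2 := Cfsg.Agent.Core.card_map_mk_mul N ((⊤ : Subgroup X).lowerCentralSeries (i + 1))
    rw [inf_eq_right.2 (L_anti (Nat.le_succ _)), h.cardL (by omega),
      h.cardL (by omega), show n - 1 - (i + 1) = n - 1 - (i + 2) + 1 by omega, pow_succ'] at h2
    exact Nat.eq_of_mul_eq_mul_right (pow_pos hp.out.pos _) h2
  let f : X ⧸ N1 → Z := fun q => ⟨QuotientGroup.mk' N ⁅q.out, a⁆, mem_map_of_mem _ (L_comm_x ha q.out)⟩
  obtain ⟨q, r, hqr, hne⟩ : ∃ q r, f q = f r ∧ q ≠ r := by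
    by_contra! hinj
    have h2 := Nat.card_le_card_of_injective f fun q r e => hinj q r e
    rw [hcq, hcZ] at h2
    have := hp.out.one_lt
    nlinarith
  refine ⟨r.out⁻¹ * q.out, h.mem_K_of_one h1 ha ha' ?_, fun hmem => hne ?_⟩
  · have e : QuotientGroup.mk' N ⁅q.out, a⁆ = QuotientGroup.mk' N ⁅r.out, a⁆ := congrArg Subtype.val hqr
    rw [← QuotientGroup.eq_one_iff, ← QuotientGroup.mk'_apply,
      show ⁅r.out⁻¹ * q.out, a⁆ = r.out⁻¹ * (⁅q.out, a⁆ * (⁅r.out, a⁆)⁻¹) * r.out by
        simp only [commutatorElement_def]; group,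
      map_mul, map_mul, map_mul, e, map_inv, map_inv, mul_inv_cancel, mul_one, inv_mul_cancel]
  · rw [← Quotient.out_eq r, ← Quotient.out_eq q]
    exact (QuotientGroup.eq.2 hmem).symm

/-- A maximal subgroup above `L₁` is generated by any element outside `L₁`. -/
theorem MCl.le_of_mem {A B : Subgroup X} (hA : A ≠ ⊤) (hAL : (⊤ : Subgroup X).lowerCentralSeries 1 ≤ A)
    (hBL : (⊤ : Subgroup X).lowerCentralSeries 1 ≤ B) {g : X}
    (hg : g ∉ (⊤ : Subgroup X).lowerCentralSeries 1) (hgA : g ∈ A) (hgB : g ∈ B) : A ≤ B := by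
  set W := zpowers g ⊔ (⊤ : Subgroup X).lowerCentralSeries 1
  have hWA : W ≤ A := sup_le (zpowers_le.2 hgA) hAL
  have hWB : W ≤ B := sup_le (zpowers_le.2 hgB) hBL
  refine (eq_of_le_of_card_ge hWA ?_).ge.trans hWB
  obtain ⟨j, hj⟩ := IsPGroup.iff_card.1 (h.pgrp.to_subgroup W)
  obtain ⟨k, hk⟩ := IsPGroup.iff_card.1 (h.pgrp.to_subgroup A)
  have hlt : p ^ (n - 1 - 1) < p ^ j := by
    rw [← h.cardL le_rfl, ← hj]
    by_contra hge
    exact hg ((eq_of_le_of_card_ge (le_sup_right : _ ≤ W) (not_lt.1 hge)).symm ▸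
      mem_sup_left (mem_zpowers g) : g ∈ _)
  have hlt2 : p ^ k < p ^ n := by
    rw [← hk, ← h.cardX]
    by_contra hge
    exact hA (eq_top_of_card_eq A (le_antisymm (card_le_card_group A) (not_lt.1 hge)))
  have := (Nat.pow_lt_pow_iff_right hp.out.one_lt).1 hlt
  have := (Nat.pow_lt_pow_iff_right hp.out.one_lt).1 hlt2
  rw [hj, hk]
  exact Nat.pow_le_pow_right hp.out.pos (by omega)

theorem MCl.K_eq {a b : ℕ} (ha1 : 1 ≤ a) (ha : a ≤ n - 3) (hb1 : 1 ≤ b) (hb : b ≤ n - 3) {g : X}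
    (hg : g ∉ (⊤ : Subgroup X).lowerCentralSeries 1) (hga : g ∈ K X a) (hgb : g ∈ K X b) : K X a = K X b :=
  le_antisymm (h.le_of_mem (h.K_ne_top ha1 ha) (h.L1_le_K a) (h.L1_le_K b) hg hga hgb)
    (h.le_of_mem (h.K_ne_top hb1 hb) (h.L1_le_K b) (h.L1_le_K a) hg hgb hga)

/-- Three two-step centralizers do not cover the group. -/
theorem MCl.exists_avoid (hp3 : 3 ≤ p) {a b c : ℕ} (ha1 : 1 ≤ a) (ha : a ≤ n - 3) (hb1 : 1 ≤ b)
    (hb : b ≤ n - 3) (hc1 : 1 ≤ c) (hc : c ≤ n - 3) :
    ∃ s, s ∉ K X a ∧ s ∉ K X b ∧ s ∉ K X c := by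
  obtain ⟨g, hga, hg⟩ := h.exists_mem_K ha1 ha
  obtain ⟨w, hw⟩ : ∃ w, w ∉ K X a := by
    by_contra! hall
    exact h.K_ne_top ha1 ha (eq_top_iff.2 fun x _ => hall x)
  have hgd : ∀ i : ℕ, i = 1 ∨ i = 2 → g ^ i ∉ (⊤ : Subgroup X).lowerCentralSeries 1 := by
    intro i hi hmem
    refine hg ?_
    have hco : i.Coprime (orderOf g) := by
      obtain ⟨k, hk⟩ := IsPGroup.iff_orderOf.1 h.pgrp g
      rw [hk]
      refine Nat.Coprime.pow_right _ (((Nat.Prime.coprime_iff_not_dvd hp.out).2 fun hd => ?_).symm)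
      have := Nat.le_of_dvd (by omega) hd
      omega
    obtain ⟨m, hm⟩ := exists_pow_eq_self_of_coprime hco
    exact hm ▸ pow_mem hmem m
  have hone : ∀ d, 1 ≤ d → d ≤ n - 3 → ∀ i j : ℕ, i < j → j ≤ 2 →
      g ^ i * w ∈ K X d → g ^ j * w ∈ K X d → False := by
    intro d hd1 hd i j hij hj hi' hj'
    have h1 := mul_mem hj' (inv_mem hi')
    rw [show g ^ j * w * (g ^ i * w)⁻¹ = g ^ j * (g ^ i)⁻¹ by group, ← div_eq_mul_inv] at h1
    have h2 : g ^ (j - i) ∈ K X d := by rw [pow_sub _ hij.le, ← div_eq_mul_inv]; exact h1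
    have hKd := h.K_eq hd1 hd ha1 ha (hgd (j - i) (by omega)) h2 (pow_mem hga _)
    rw [hKd] at hi'
    have h3 := mul_mem (inv_mem (pow_mem hga i)) hi'
    rw [inv_mul_cancel_left] at h3
    exact hw h3
  by_contra hno
  push Not at hno
  have hA : ∀ i : ℕ, g ^ i * w ∈ K X b ∨ g ^ i * w ∈ K X c := fun i => by
    have hna : g ^ i * w ∉ K X a := fun h1 => hw (by
      have h3 := mul_mem (inv_mem (pow_mem hga i)) h1
      rwa [inv_mul_cancel_left] at h3)
    by_cases hbi : g ^ i * w ∈ K X b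
    · exact Or.inl hbi
    · exact Or.inr (hno _ hna hbi)
  rcases hA 0 with h0 | h0 <;> rcases hA 1 with h1 | h1 <;> rcases hA 2 with h2 | h2
  · exact hone b hb1 hb 0 1 (by omega) (by omega) h0 h1
  · exact hone b hb1 hb 0 1 (by omega) (by omega) h0 h1
  · exact hone b hb1 hb 0 2 (by omega) le_rfl h0 h2
  · exact hone c hc1 hc 1 2 (by omega) le_rfl h1 h2
  · exact hone b hb1 hb 1 2 (by omega) le_rfl h1 h2
  · exact hone c hc1 hc 0 2 (by omega) le_rfl h0 h2
  · exact hone c hc1 hc 0 1 (by omega) (by omega) h0 h1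
  · exact hone c hc1 hc 0 1 (by omega) (by omega) h0 h1

theorem MCl.eSeq_exact_le {s u : X} {m : ℕ} (hm : m ≤ n - 2) (hu : u ∉ (⊤ : Subgroup X).lowerCentralSeries 1)
    (hsu : s ∉ zpowers u ⊔ (⊤ : Subgroup X).lowerCentralSeries 1)
    (hs : ∀ i, 1 ≤ i → i < m → s ∉ K X i) :
    ∀ i, 1 ≤ i → i ≤ m → eSeq s u i ∉ (⊤ : Subgroup X).lowerCentralSeries (i + 1) := by
  have := h.three
  intro i hi
  induction i, hi using Nat.le_induction with
  | base =>
    intro _ hmem
    set N := (⊤ : Subgroup X).lowerCentralSeries 2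
    set C := (Subgroup.center (X ⧸ N)).comap (QuotientGroup.mk' N)
    have hL : (⊤ : Subgroup X).lowerCentralSeries 1 ≤ C := fun z hz =>
      mem_comap.2 (mem_center_iff.2 fun q => by
        obtain ⟨g, rfl⟩ := QuotientGroup.mk'_surjective N q
        exact (PowMax.commute_mk (L_comm_x hz g)).eq)
    set W := zpowers u ⊔ (⊤ : Subgroup X).lowerCentralSeries 1
    have hWtop : zpowers s ⊔ W = ⊤ := by
      obtain ⟨j, hj⟩ := IsPGroup.iff_card.1 (h.pgrp.to_subgroup W)
      obtain ⟨k, hk⟩ := IsPGroup.iff_card.1 (h.pgrp.to_subgroup (zpowers s ⊔ W))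
      refine eq_top_of_card_eq _ (le_antisymm (card_le_card_group _) ?_)
      have h1 : p ^ (n - 1 - 1) < p ^ j := by
        rw [← h.cardL le_rfl, ← hj]
        by_contra hge
        exact hu ((eq_of_le_of_card_ge (le_sup_right : _ ≤ W) (not_lt.1 hge)).symm ▸
          mem_sup_left (mem_zpowers u) : u ∈ _)
      have h2 : p ^ j < p ^ k := by
        rw [← hk, ← hj]
        by_contra hge
        exact hsu ((eq_of_le_of_card_ge (le_sup_right : W ≤ zpowers s ⊔ W) (not_lt.1 hge)).symm ▸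
          mem_sup_left (mem_zpowers s) : s ∈ _)
      have := (Nat.pow_lt_pow_iff_right hp.out.one_lt).1 h1
      have := (Nat.pow_lt_pow_iff_right hp.out.one_lt).1 h2
      rw [h.cardX, hk]
      exact Nat.pow_le_pow_right hp.out.pos (by omega)
    have hgen : ∀ z : X, (∀ t ∈ ({s, u} : Set X), Commute (t : X ⧸ N) (z : X ⧸ N)) → z ∈ C := by
      intro z hz
      refine mem_comap.2 (mem_center_iff.2 fun q => ?_)
      obtain ⟨g, rfl⟩ := QuotientGroup.mk'_surjective N q
      have hle : (⊤ : Subgroup X) ≤ (centralizer {QuotientGroup.mk' N z}).comap (QuotientGroup.mk' N) := by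
        refine hWtop.ge.trans ?_
        refine sup_le (zpowers_le.2 (mem_comap.2 (mem_centralizer_singleton_iff.2 (hz s (by simp)).eq)))
          (sup_le (zpowers_le.2 (mem_comap.2 (mem_centralizer_singleton_iff.2 (hz u (by simp)).eq)))
          fun l hl => mem_comap.2 (mem_centralizer_singleton_iff.2 ?_))
        exact (mem_center_iff.1 (mem_comap.1 (hL hl)) _).symm
      exact mem_centralizer_singleton_iff.1 (mem_comap.1 (hle (Subgroup.mem_top g)))
    have hc : Commute (s : X ⧸ N) (u : X ⧸ N) := PowMax.commute_mk hmem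
    have hCtop : (⊤ : Subgroup X) ≤ C := by
      rw [← hWtop]
      refine sup_le (zpowers_le.2 (hgen s ?_)) (sup_le (zpowers_le.2 (hgen u ?_)) hL)
      · rintro t (rfl | rfl)
        exacts [Commute.refl _, hc.symm]
      · rintro t (rfl | rfl)
        exacts [hc, Commute.refl _]
    have hle : (⊤ : Subgroup X).lowerCentralSeries 1 ≤ N := by
      show ⁅(⊤ : Subgroup X), (⊤ : Subgroup X)⁆ ≤ _
      rw [commutator_le]
      intro a ha b _
      exact PowMax.mem_of_commute_mk (mem_center_iff.1 (mem_comap.1 (hCtop ha)) _).symm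
    have h2 := card_le_of_le hle
    rw [h.cardL le_rfl, h.cardL (by omega)] at h2
    have := (Nat.pow_le_pow_iff_right hp.out.one_lt).1 h2
    omega
  | succ i hi ih =>
    intro hin hmem
    exact hs i hi (by omega) (h.mem_K_of_one hi (eSeq_mem s u i) (ih (by omega)) hmem)

/-- Outside all two-step centralizers, commutation is exact. -/
theorem MCl.eSeq_exact {s u : X} (hu : u ∉ (⊤ : Subgroup X).lowerCentralSeries 1)
    (hsu : s ∉ zpowers u ⊔ (⊤ : Subgroup X).lowerCentralSeries 1)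
    (hs : ∀ i, 1 ≤ i → i ≤ n - 3 → s ∉ K X i) :
    ∀ i, 1 ≤ i → i ≤ n - 2 → eSeq s u i ∉ (⊤ : Subgroup X).lowerCentralSeries (i + 1) :=
  h.eSeq_exact_le le_rfl hu hsu fun i h1 h2 => hs i h1 (by omega)

/-- The quotient by the last term. -/
theorem MCl.quotient (h4 : 4 ≤ n) :
    MCl p (n - 1) (X ⧸ (⊤ : Subgroup X).lowerCentralSeries (n - 2)) := by
  set N := (⊤ : Subgroup X).lowerCentralSeries (n - 2) with hN
  have hcard : Nat.card (X ⧸ N) = p ^ (n - 1) := by
    have h2 := N.card_mul_index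
    rw [hN, h.cardL (by omega), h.cardX, ← hN, show n - 1 - (n - 2) = 1 by omega, pow_one,
      show p ^ n = p * p ^ (n - 1) by rw [← pow_succ']; congr 1; omega] at h2
    rw [← index_eq_card]
    exact Nat.eq_of_mul_eq_mul_left hp.out.pos h2
  refine mcl_of_ne_bot hcard (by omega) fun hb => ?_
  have hm : ((⊤ : Subgroup X).lowerCentralSeries (n - 1 - 2)).map (QuotientGroup.mk' N) = ⊥ := by
    rw [Subgroup.map_lowerCentralSeries, ← MonoidHom.range_eq_map, MonoidHom.range_eq_top.2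
      (QuotientGroup.mk'_surjective N), hb]
  rw [Subgroup.map_eq_bot_iff, QuotientGroup.ker_mk'] at hm
  have h2 := card_le_of_le hm
  rw [hN, h.cardL (by omega), h.cardL (by omega)] at h2
  have := (Nat.pow_le_pow_iff_right hp.out.one_lt).1 h2
  omega

theorem MCl.mem_K_quotient {i : ℕ} (hi : i + 2 ≤ n - 2) (g : X) :
    (g : X ⧸ (⊤ : Subgroup X).lowerCentralSeries (n - 2)) ∈ K _ i ↔ g ∈ K X i := by
  set N := (⊤ : Subgroup X).lowerCentralSeries (n - 2)
  have hmap : ∀ j, ((⊤ : Subgroup X).lowerCentralSeries j).map (QuotientGroup.mk' N) =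
      (⊤ : Subgroup (X ⧸ N)).lowerCentralSeries j := fun j => by
    rw [Subgroup.map_lowerCentralSeries, ← MonoidHom.range_eq_map, MonoidHom.range_eq_top.2
      (QuotientGroup.mk'_surjective N)]
  rw [mem_K, mem_K]
  constructor
  · intro h1 a ha
    have h2 := h1 (QuotientGroup.mk' N a) (hmap i ▸ mem_map_of_mem _ ha)
    rw [← hmap, ← QuotientGroup.mk'_apply, ← map_commutatorElement, ← mem_comap,
      comap_map_eq, QuotientGroup.ker_mk', sup_eq_left.2 (L_anti hi)] at h2
    exact h2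
  · intro h1 q hq
    rw [← hmap] at hq
    obtain ⟨a, ha, rfl⟩ := hq
    rw [← hmap, ← QuotientGroup.mk'_apply, ← map_commutatorElement]
    exact mem_map_of_mem _ (h1 a ha)

/-- Commutators of the iterated commutators gain two degrees below a common range. -/
theorem MCl.deg {s u : X} {N : ℕ} (hN : N ≤ n - 3) (hu : ∀ i, 1 ≤ i → i ≤ N → u ∈ K X i) :
    ∀ k i, i + k ≤ N →
      ⁅eSeq s u k, eSeq s u i⁆ ∈ (⊤ : Subgroup X).lowerCentralSeries (i + k + 2) := by
  intro k
  induction k with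
  | zero =>
    intro i hi
    rcases Nat.eq_zero_or_pos i with rfl | h1
    · rw [commutatorElement_self]; exact one_mem _
    · exact mem_K.1 (hu i h1 (by omega)) _ (eSeq_mem s u i)
  | succ k ih =>
    intro i hi
    have ha := eSeq_mem s u k
    have hb := eSeq_mem s u i
    set N' := (⊤ : Subgroup X).lowerCentralSeries (i + (k + 1) + 2)
    set π := QuotientGroup.mk' N'
    have h0 : ∀ z, z ∈ N' → π z = 1 := fun z hz => (QuotientGroup.eq_one_iff z).2 hz
    have hc : ⁅eSeq s u k, eSeq s u i⁆ ∈ (⊤ : Subgroup X).lowerCentralSeries (i + k + 2) := ih i (by omega)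
    have hb' : ⁅eSeq s u k, eSeq s u (i + 1)⁆ ∈ N' := L_anti (by omega) (ih (i + 1) (by omega))
    have hsc : ⁅s, ⁅eSeq s u k, eSeq s u i⁆⁆ ∈ N' := L_anti (by omega) (L_comm_x hc s)
    have hcen : ∀ (g : X) {z : X}, z ∈ (⊤ : Subgroup X).lowerCentralSeries (i + k + 2) →
        Commute (π g) (π z) := fun g z hz =>
      PowMax.commute_mk (L_anti (by omega) (L_comm_x hz g))
    have hbd : ⁅eSeq s u (k + 1), eSeq s u i⁆ ∈ (⊤ : Subgroup X).lowerCentralSeries (i + k + 2) :=
      comm_of_mem (eSeq_mem s u (k + 1)) hb (by omega)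
    have e := expand (s := π s) (a := π (eSeq s u k)) (b := π (eSeq s u i))
      (by simp only [← map_commutatorElement]; exact hcen _ hc)
      (by simp only [← map_commutatorElement]; rw [← map_mul]
          exact hcen _ (mul_mem (L_anti (by omega) hb') hc))
      (by simp only [← map_commutatorElement]
          exact h0 _ (comm_of_mem (L_comm_x ha s) (L_comm_x hb s) (by omega)))
      (by simp only [← map_commutatorElement]; exact hcen _ hbd)
    simp only [← map_commutatorElement] at e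
    rw [h0 _ hsc, h0 _ (show ⁅eSeq s u k, ⁅s, eSeq s u i⁆⁆ ∈ N' from hb'), one_mul,
      left_eq_mul] at e
    exact (QuotientGroup.eq_one_iff _).1 e

omit h in
/-- The pairs in the layer below the last. -/
theorem gamma_step {s u : X} (h : MCl p n X) {i k : ℕ} (hik : i + k = n - 5) (h6 : 5 ≤ n)
    (hc : ⁅eSeq s u i, eSeq s u k⁆ ∈ (⊤ : Subgroup X).lowerCentralSeries (n - 3)) :
    ⁅eSeq s u i, eSeq s u (k + 1)⁆ * ⁅eSeq s u (i + 1), eSeq s u k⁆ ∈
      (⊤ : Subgroup X).lowerCentralSeries (n - 2) := by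
  set N' := (⊤ : Subgroup X).lowerCentralSeries (n - 2)
  set π := QuotientGroup.mk' N'
  have h0 : ∀ z, z ∈ N' → π z = 1 := fun z hz => (QuotientGroup.eq_one_iff z).2 hz
  have hcen : ∀ (g : X) {z : X}, z ∈ (⊤ : Subgroup X).lowerCentralSeries (n - 3) →
      Commute (π g) (π z) := fun g z hz => PowMax.commute_mk (L_anti (by omega) (L_comm_x hz g))
  have hb1 : ⁅eSeq s u i, eSeq s u (k + 1)⁆ ∈ (⊤ : Subgroup X).lowerCentralSeries (n - 3) :=
    comm_of_mem (eSeq_mem s u i) (eSeq_mem s u (k + 1)) (by omega)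
  have hb2 : ⁅eSeq s u (i + 1), eSeq s u k⁆ ∈ (⊤ : Subgroup X).lowerCentralSeries (n - 3) :=
    comm_of_mem (eSeq_mem s u (i + 1)) (eSeq_mem s u k) (by omega)
  have e := expand (s := π s) (a := π (eSeq s u i)) (b := π (eSeq s u k))
    (by simp only [← map_commutatorElement]; exact hcen _ hc)
    (by simp only [← map_commutatorElement]; rw [← map_mul]; exact hcen _ (mul_mem hb1 hc))
    (by simp only [← map_commutatorElement]
        exact h0 _ (comm_of_mem (L_comm_x (eSeq_mem s u i) s) (L_comm_x (eSeq_mem s u k) s) (by omega)))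
    (by simp only [← map_commutatorElement]; exact hcen _ hb2)
  simp only [← map_commutatorElement] at e
  rw [h0 _ (L_anti (by omega) (L_comm_x hc s)), one_mul, mul_assoc] at e
  erw [(hcen (⁅eSeq s u i, eSeq s u k⁆) hb2).eq] at e
  rw [← mul_assoc, right_eq_mul] at e
  rw [← QuotientGroup.eq_one_iff, QuotientGroup.mk_mul]
  exact e

/-- The pairs in the last layer. -/
theorem MCl.last_step {s u : X} {i k : ℕ} (hik : i + k = n - 4) (h5 : 5 ≤ n)
    (hc : ⁅eSeq s u i, eSeq s u k⁆ ∈ (⊤ : Subgroup X).lowerCentralSeries (n - 3)) :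
    ⁅s, ⁅eSeq s u i, eSeq s u k⁆⁆ =
      ⁅eSeq s u i, eSeq s u (k + 1)⁆ * ⁅eSeq s u (i + 1), eSeq s u k⁆ := by
  have h1 : ∀ {j : ℕ}, 1 ≤ j → ∀ {g z : X}, g ∈ (⊤ : Subgroup X).lowerCentralSeries j →
      z ∈ (⊤ : Subgroup X).lowerCentralSeries (n - 3) → Commute g z := fun hj _ _ hg hz =>
    h.commute_of_mem hg hz (by omega)
  have hb1 : ⁅eSeq s u i, eSeq s u (k + 1)⁆ ∈ (⊤ : Subgroup X).lowerCentralSeries (n - 2) :=
    comm_of_mem (eSeq_mem s u i) (eSeq_mem s u (k + 1)) (by omega)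
  have hb2 : ⁅eSeq s u (i + 1), eSeq s u k⁆ ∈ (⊤ : Subgroup X).lowerCentralSeries (n - 2) :=
    comm_of_mem (eSeq_mem s u (i + 1)) (eSeq_mem s u k) (by omega)
  have ha' := L_comm_x (eSeq_mem s u i) s
  have hb' := L_comm_x (eSeq_mem s u k) s
  have e := expand (s := s) (a := eSeq s u i) (b := eSeq s u k)
    (h1 (by omega) hb' hc) (h1 (by omega) ha' (mul_mem (L_anti (by omega) hb1) hc))
    (h.eq_one le_rfl (comm_of_mem ha' hb' (by omega)))
    (h1 (by omega) hb' (L_anti (by omega) hb2))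
  have hz : Commute ⁅eSeq s u i, eSeq s u k⁆ ⁅eSeq s u (i + 1), eSeq s u k⁆ :=
    h.commute_of_mem hc hb2 (by omega)
  rw [mul_assoc (⁅eSeq s u i, ⁅s, eSeq s u k⁆⁆)] at e
  erw [hz.eq] at e
  rw [← mul_assoc] at e
  exact mul_right_cancel e

/-- In an element outside all two-step centralizers, all `MX` facts hold. -/
theorem MCl.mx (h4 : 4 ≤ n) {s : X} (hs1 : s ∉ (⊤ : Subgroup X).lowerCentralSeries 1)
    (hs : ∀ i, 1 ≤ i → i ≤ n - 3 → s ∉ K X i) : MX p n s := by
  have h3 := h.three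
  have hpp := hp.out
  refine ⟨h3, h.pgrp, h.cardX, fun i hi => h.cardL hi, hs1, ?_⟩
  set N1 := (⊤ : Subgroup X).lowerCentralSeries 1
  set C := centralizer ({s} : Set X)
  have hdown : ∀ i, 1 ≤ i → i ≤ n - 2 → C ⊓ N1 ≤ (⊤ : Subgroup X).lowerCentralSeries i := by
    intro i hi
    induction i, hi using Nat.le_induction with
    | base => exact fun _ => inf_le_right
    | succ i hi ih =>
      intro hin z hz
      have hz' := ih (by omega) hz
      by_contra hne
      refine hs i hi (by omega) (h.mem_K_of_one hi hz' hne ?_)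
      rw [commutatorElement_eq_one_iff_mul_comm.2 (mem_centralizer_singleton_iff.1 hz.1).symm]
      exact one_mem _
  have hle := hdown (n - 2) (by omega) le_rfl
  have hcl : Nat.card ↥(C ⊓ N1) ≤ p := by
    refine (card_le_of_le hle).trans ?_
    rw [h.cardL (by omega), show n - 1 - (n - 2) = 1 by omega, pow_one]
  obtain ⟨a, ha⟩ := IsPGroup.iff_card.1 (h.pgrp.to_subgroup C)
  have hca : Nat.card C ≤ p ^ 2 := by
    -- otherwise `C` covers the group modulo `L₁`
    by_contra hgt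
    set M := C.map (QuotientGroup.mk' N1)
    have h2 := Cfsg.Agent.Core.card_map_mk_mul N1 C
    have hq : Nat.card (X ⧸ N1) = p ^ 2 := by
      have h4 := N1.card_mul_index
      rw [h.cardL le_rfl, h.cardX, show p ^ n = p ^ (n - 1 - 1) * p ^ 2 by
        rw [← pow_add]; congr 1; omega] at h4
      rw [← index_eq_card]
      exact Nat.eq_of_mul_eq_mul_left (pow_pos hpp.pos _) h4
    have hMtop : M = ⊤ := by
      obtain ⟨b, -, hb⟩ := (Nat.dvd_prime_pow hpp).1 (hq ▸ card_subgroup_dvd_card M)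
      refine eq_top_of_card_eq M ?_
      rw [hq, hb]
      congr 1
      by_contra hb2
      have hb' : b ≤ 1 := by
        have := hq ▸ card_le_card_group M
        rw [hb] at this
        have := (Nat.pow_le_pow_iff_right hpp.one_lt).1 this
        omega
      refine hgt ?_
      rw [← h2, hb, pow_two]
      exact Nat.mul_le_mul ((Nat.pow_le_pow_right hpp.pos hb').trans (pow_one p).le) hcl
    obtain ⟨g, hgK, hg⟩ := h.exists_mem_K le_rfl (show 1 ≤ n - 3 by omega)
    obtain ⟨l, hl, hlg⟩ : ∃ c ∈ C, c⁻¹ * g ∈ N1 := by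
      obtain ⟨c, hc, hcg⟩ := mem_map.1 (hMtop.symm ▸ Subgroup.mem_top (g : X ⧸ N1) : (g : X ⧸ N1) ∈ M)
      exact ⟨c, hc, QuotientGroup.eq.1 hcg⟩
    -- `s` and `g` commute modulo `L₂`
    refine h.eSeq_exact (s := s) (u := g) hg (fun hsW => ?_) hs 1 le_rfl (by omega) ?_
    · exact hs 1 le_rfl (by omega) (sup_le (zpowers_le.2 hgK) (h.L1_le_K 1) hsW)
    · show ⁅s, g⁆ ∈ _
      have : g = l * (l⁻¹ * g) := (mul_inv_cancel_left _ _).symm
      rw [this, commutatorElement_mul_right_eq_mul_conj,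
        commutatorElement_eq_one_iff_mul_comm.2 (mem_centralizer_singleton_iff.1 hl).symm, one_mul]
      exact Subgroup.Normal.conj_mem inferInstance _ (L_comm_x hlg s) l
  have h1 : p ^ 2 ≤ Nat.card C := by
    obtain ⟨z, hz, hz'⟩ := h.ne_step (i := n - 2) (by omega) le_rfl
    set D := zpowers s ⊔ (⊤ : Subgroup X).lowerCentralSeries (n - 2)
    have hD : D ≤ C := sup_le (zpowers_le.2 (mem_centralizer_singleton_iff.2 rfl)) fun z hz =>
      mem_centralizer_singleton_iff.2
        (h.commute_of_mem (i := 0) (Subgroup.mem_top s) hz (by omega)).symm.eq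
    obtain ⟨b, hb⟩ := IsPGroup.iff_card.1 (h.pgrp.to_subgroup D)
    have hlt : p ^ 1 < p ^ b := by
      rw [← hb]
      by_contra hge
      have e := eq_of_le_of_card_ge (le_sup_right : (⊤ : Subgroup X).lowerCentralSeries (n - 2) ≤ D)
        (by rw [h.cardL (by omega), show n - 1 - (n - 2) = 1 by omega]; exact not_lt.1 hge)
      exact hs1 (L_anti (by omega) (e.symm ▸ mem_sup_left (mem_zpowers s) : s ∈ _))
    refine le_trans ?_ (card_le_of_le hD)
    rw [hb]
    exact Nat.pow_le_pow_right hpp.pos ((Nat.pow_lt_pow_iff_right hpp.one_lt).1 hlt)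
  exact le_antisymm hca h1

/-- The set-up for the recursions. -/
theorem MCl.setup (hp3 : 3 ≤ p) {a b : ℕ} (ha1 : 1 ≤ a) (ha : a ≤ n - 3) (hb1 : 1 ≤ b) (hb : b ≤ n - 3)
    (hcov : ∀ i, 1 ≤ i → i ≤ n - 3 → K X i = K X 1 ∨ K X i = K X a ∨ K X i = K X b) :
    ∃ s u, u ∈ K X 1 ∧ u ∉ (⊤ : Subgroup X).lowerCentralSeries 1 ∧
      s ∉ (⊤ : Subgroup X).lowerCentralSeries 1 ∧ (∀ i, 1 ≤ i → i ≤ n - 3 → s ∉ K X i) ∧
      ∀ i, 1 ≤ i → i ≤ n - 2 → eSeq s u i ∉ (⊤ : Subgroup X).lowerCentralSeries (i + 1) := by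
  have := h.three
  obtain ⟨u, huK, hu⟩ := h.exists_mem_K (i := 1) le_rfl (by omega)
  obtain ⟨s, hs1, hsa, hsb⟩ := h.exists_avoid hp3 (a := 1) le_rfl (by omega) ha1 ha hb1 hb
  have hs : ∀ i, 1 ≤ i → i ≤ n - 3 → s ∉ K X i := fun i h1 hi => by
    rcases hcov i h1 hi with e | e | e <;> rw [e] <;> assumption
  exact ⟨s, u, huK, hu, fun hmem => hs1 (h.L1_le_K 1 hmem), hs,
    h.eSeq_exact hu (fun hmem => hs1 (sup_le (zpowers_le.2 huK) (h.L1_le_K 1) hmem)) hs⟩

/-- The induction step. -/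
theorem MCl.top_mid (hp3 : 3 ≤ p) (h6 : 6 ≤ n) (hK : ∀ i, 1 ≤ i → i ≤ n - 5 → K X i = K X 1) :
    K X (n - 4) = K X 1 := by
  have hpp := hp.out
  by_contra hne
  obtain ⟨s, u, huK, hu, hs1, hs, hex⟩ := h.setup hp3 (a := n - 4) (b := n - 3) (by omega) (by omega)
    (by omega) le_rfl fun i h1 hi => by
      rcases (by omega : i ≤ n - 5 ∨ i = n - 4 ∨ i = n - 3) with h2 | rfl | rfl
      exacts [Or.inl (hK i h1 h2), Or.inr (Or.inl rfl), Or.inr (Or.inr rfl)]
  have huK' : u ∉ K X (n - 4) := fun hm =>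
    hne (h.K_eq (by omega) (by omega) le_rfl (by omega) hu hm huK)
  have hu5 : ∀ i, 1 ≤ i → i ≤ n - 5 → u ∈ K X i := fun i h1 h2 => (hK i h1 h2).symm ▸ huK
  set e := eSeq s u with he
  set c : ℕ → X := fun i => ⁅e i, e (n - 4 - i)⁆ with hc
  have hcmem : ∀ i, i ≤ n - 4 → c i ∈ (⊤ : Subgroup X).lowerCentralSeries (n - 3) := fun i hi =>
    comm_of_mem (eSeq_mem s u i) (eSeq_mem s u (n - 4 - i)) (by omega)
  have hstep : ∀ i, i ≤ n - 5 → c i * c (i + 1) ∈ (⊤ : Subgroup X).lowerCentralSeries (n - 2) := by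
    intro i hi
    have h1 := gamma_step (s := s) (u := u) h (i := i) (k := n - 5 - i) (by omega) (by omega)
      (L_anti (by omega) (h.deg (N := n - 5) (by omega) hu5 i (n - 5 - i) (by omega)))
    rw [show n - 5 - i + 1 = n - 4 - i by omega] at h1
    simp only [hc, show n - 4 - (i + 1) = n - 5 - i by omega]
    exact h1
  have hc0 : c 0 ∉ (⊤ : Subgroup X).lowerCentralSeries (n - 2) := fun hm => huK'
    (h.mem_K_of_one (a := e (n - 4)) (by omega) (eSeq_mem s u _) (hex _ (by omega) (by omega))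
      (L_anti (by omega) hm))
  by_cases hu3 : u ∈ K X (n - 3)
  swap
  · -- the second pair would centralise `u`
    have h01 := hstep 0 (Nat.zero_le _)
    have hc1 : c 1 ∉ (⊤ : Subgroup X).lowerCentralSeries (n - 2) := fun hm => hc0 (by
      have := mul_mem h01 (inv_mem hm)
      rwa [mul_inv_cancel_right] at this)
    refine hu3 (h.mem_K_of_one (by omega) (hcmem 1 (by omega))
      (by rwa [show n - 3 + 1 = n - 2 by omega]) ?_)
    have hf : ⁅u, e 1⁆ ∈ (⊤ : Subgroup X).lowerCentralSeries 3 :=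
      mem_K.1 (hK 1 le_rfl (by omega) ▸ huK) _ (eSeq_mem s u 1)
    have hg : ⁅u, e (n - 5)⁆ ∈ (⊤ : Subgroup X).lowerCentralSeries (n - 3) :=
      L_anti (by omega) (mem_K.1 (hu5 (n - 5) (by omega) le_rfl) _ (eSeq_mem s u (n - 5)))
    have hc1' : c 1 = ⁅e 1, e (n - 5)⁆ := by simp only [hc, show n - 4 - 1 = n - 5 by omega]
    have hge : Commute ⁅u, e (n - 5)⁆ (e 1) := h.commute_of_mem hg (eSeq_mem s u 1) (by omega)
    have hgc : Commute ⁅u, e (n - 5)⁆ ⁅e 1, e (n - 5)⁆ :=
      h.commute_of_mem hg (comm_of_mem (m := n - 3) (eSeq_mem s u 1) (eSeq_mem s u (n - 5)) (by omega))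
        (by omega)
    have h1 : ⁅e 1, ⁅u, e (n - 5)⁆ * e (n - 5)⁆ = ⁅e 1, e (n - 5)⁆ := by
      rw [commutatorElement_mul_right_eq_mul_conj, commutatorElement_eq_one_iff_mul_comm.2 hge.symm,
        one_mul, hgc.eq, mul_inv_cancel_right]
    have h2 : ⁅⁅u, e 1⁆, ⁅u, e (n - 5)⁆ * e (n - 5)⁆ = 1 :=
      commutatorElement_eq_one_iff_mul_comm.2 ((h.commute_of_mem hf hg (by omega)).mul_right
        (h.commute_of_mem hf (eSeq_mem s u (n - 5)) (by omega)))
    have h3 : u * c 1 * u⁻¹ = c 1 := by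
      rw [hc1', show u * ⁅e 1, e (n - 5)⁆ * u⁻¹ = ⁅⁅u, e 1⁆ * e 1, ⁅u, e (n - 5)⁆ * e (n - 5)⁆ by
        simp only [commutatorElement_def]; group, commutatorElement_mul_left_eq_conj_mul, h1, h2,
        mul_one]
      rw [(h.commute_of_mem hf (comm_of_mem (m := n - 3) (eSeq_mem s u 1) (eSeq_mem s u (n - 5)) (by omega))
        (by omega)).eq, mul_inv_cancel_right]
    rw [commutatorElement_def, h3, mul_inv_cancel]
    exact one_mem _
  · -- the order has odd exponent and the pairs alternate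
    have hflip : ∀ i, i ≤ n - 4 → c (n - 4 - i) = (c i)⁻¹ := fun i hi => by
      simp only [hc, show n - 4 - (n - 4 - i) = i by omega]
      exact (commutatorElement_inv _ _).symm
    have hodd : Odd n := by
      by_contra hev
      rw [Nat.not_odd_iff_even] at hev
      obtain ⟨m, hm⟩ := hev
      refine hc0 ?_
      have hdown : ∀ d, d ≤ m - 2 → c (m - 2 - d) ∈ (⊤ : Subgroup X).lowerCentralSeries (n - 2) := by
        intro d
        induction d with
        | zero =>
          intro _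
          rw [Nat.sub_zero]
          simp only [hc, show n - 4 - (m - 2) = m - 2 by omega, commutatorElement_self]
          exact one_mem _
        | succ d ih =>
          intro hd
          have h1 := hstep (m - 2 - (d + 1)) (by omega)
          rw [show m - 2 - (d + 1) + 1 = m - 2 - d by omega] at h1
          have h2 := mul_mem h1 (inv_mem (ih (by omega)))
          rwa [mul_inv_cancel_right] at h2
      have := hdown (m - 2) le_rfl
      rwa [Nat.sub_self] at this
    set F : ℕ → X := fun i => ⁅e i, e (n - 3 - i)⁆ with hFd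
    have hFstep : ∀ i, i ≤ n - 4 → ⁅s, c i⁆ = F i * F (i + 1) := by
      intro i hi
      have h1 := h.last_step (s := s) (u := u) (i := i) (k := n - 4 - i) (by omega) (by omega) (hcmem i hi)
      rw [show n - 4 - i + 1 = n - 3 - i by omega] at h1
      simp only [hFd, hc, show n - 3 - (i + 1) = n - 4 - i by omega]
      exact h1
    have hF0 : F 0 = 1 := by
      simp only [hFd, Nat.sub_zero]
      exact h.eq_one (i := n - 3 + 2) (by omega) (mem_K.1 hu3 _ (eSeq_mem s u (n - 3)))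
    have hFN : F (n - 3) = 1 := by
      have e1 : F (n - 3) = (F 0)⁻¹ := by
        simp only [hFd, Nat.sub_self, Nat.sub_zero]
        exact (commutatorElement_inv _ _).symm
      rw [e1, hF0, inv_one]
    set d := ⁅s, c 0⁆ with hd
    have hdz : ∀ (i : ℕ) (g : X), i ≤ n - 4 → Commute g ⁅s, c i⁆ := fun i g hi =>
      h.commute_of_mem (i := 0) (Subgroup.mem_top g) (L_comm_x (hcmem i hi) s) (by omega)
    have hD : ∀ i, i ≤ n - 4 → ⁅s, c i⁆ = d ^ ((-1 : ℤ) ^ i) := by
      intro i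
      induction i with
      | zero => intro _; rw [pow_zero, zpow_one]
      | succ i ih =>
        intro hi
        have h1 : ⁅s, c i * c (i + 1)⁆ = 1 :=
          h.eq_one (i := n - 2 + 1) (by omega) (L_comm_x (hstep i (by omega)) s)
        rw [commutatorElement_mul_right_eq_mul_conj, (hdz i (c i) (by omega)).symm.eq,
          mul_assoc (c i), (hdz (i + 1) _ (by omega)).eq] at h1
        have h2 : ⁅s, c (i + 1)⁆ = ⁅s, c i⁆⁻¹ := by
          rw [show c i * (⁅s, c (i + 1)⁆ * ⁅s, c i⁆) * (c i)⁻¹ =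
            c i * (⁅s, c (i + 1)⁆ * ⁅s, c i⁆) * (c i)⁻¹ from rfl] at h1
          have h3 := congrArg (fun z => (c i)⁻¹ * z * c i) h1
          simp only [mul_one, inv_mul_cancel] at h3
          refine eq_inv_of_mul_eq_one_left ?_
          rw [← h3]; group
        rw [h2, ih (by omega), ← zpow_neg, pow_succ]
        congr 1
        ring
    have hF : ∀ i : ℕ, i ≤ n - 3 → F i = d ^ (-((-1 : ℤ) ^ i * i)) := by
      intro i
      induction i with
      | zero => intro _; simp [hF0]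
      | succ i ih =>
        intro hi
        have h1 := hFstep i (by omega)
        rw [hD i (by omega), ih (by omega)] at h1
        rw [eq_comm, ← eq_inv_mul_iff_mul_eq, ← zpow_neg, ← zpow_add] at h1
        rw [h1]
        congr 1
        push_cast
        ring
    have hdn : d ^ (n - 3) = 1 := by
      have h1 := hF (n - 3) le_rfl
      rw [hFN] at h1
      have h2 : ((-1 : ℤ) ^ (n - 3)) = 1 := by
        obtain ⟨m, hm⟩ := hodd
        rw [show n - 3 = 2 * (m - 1) by omega, pow_mul]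
        simp
      rw [h2, one_mul, zpow_neg, eq_comm, inv_eq_one, zpow_natCast] at h1
      exact h1
    by_cases hdiv : p ∣ n - 3
    swap
    · -- then `s` would lie in the last centralizer
      refine hs (n - 3) (by omega) le_rfl (h.mem_K_of_one (by omega) (hcmem 0 (by omega))
        (by rw [show n - 3 + 1 = n - 2 by omega]; exact hc0) ?_)
      have hd1 : d = 1 := by
        obtain ⟨k, hk⟩ := IsPGroup.iff_orderOf.1 h.pgrp d
        have h1 := orderOf_dvd_of_pow_eq_one hdn
        rw [hk] at h1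
        rcases Nat.eq_zero_or_pos k with rfl | hk0
        · exact orderOf_eq_one_iff.1 (by rw [hk, pow_zero])
        · exact absurd ((dvd_pow_self p (by omega)).trans h1) hdiv
      rw [← hd, hd1]
      exact one_mem _
    · -- `L_(n-4)` consists of `p`-th powers
      have hn2 : p + 5 ≤ n := by
        obtain ⟨t, ht⟩ := hdiv
        obtain ⟨m, hm⟩ := hodd
        have : t ≠ 0 := by rintro rfl; omega
        have : t ≠ 1 := by
          rintro rfl
          have := (hpp.eq_two_or_odd).resolve_left (by omega)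
          omega
        have : p * 2 ≤ p * t := Nat.mul_le_mul_left _ (by omega)
        omega
      set r := n - 3 - p with hr
      have hmx := h.mx (by omega) hs1 hs
      have hv := eSeq_mem s u r
      have hvp : e r ^ p ∈ (⊤ : Subgroup X).lowerCentralSeries (n - 4) :=
        L_anti (by omega) (hmx.pow_mem r (by omega) _ hv).1
      have hvp' : e r ^ p ∉ (⊤ : Subgroup X).lowerCentralSeries (n - 4 + 1) := by
        have h1 := hmx.pow_exact hp3 r (by omega) (by omega) _ hv (hex r (by omega) (by omega))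
        rwa [show r + p = n - 4 + 1 by omega] at h1
      refine huK' (h.mem_K_of_one (by omega) hvp hvp' ?_)
      rw [show n - 4 + 2 = n - 2 by omega]
      set N := (⊤ : Subgroup X).lowerCentralSeries (n - 2)
      have hf : ⁅u, e r⁆ ∈ (⊤ : Subgroup X).lowerCentralSeries (r + 2) :=
        mem_K.1 (hu5 r (by omega) (by omega)) _ hv
      have hfp : ⁅u, e r⁆ ^ p ∈ N :=
        L_anti (by omega) ((hmx.pow_mem (r + 2) (by omega) _ hf).2 (by omega))
      have hlin : 2 * (p - 1) ≤ (r + 1) * (p - 1) := Nat.mul_le_mul_right _ (by omega)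
      have hbig : n - 2 ≤ r + (r + 1) * (p - 1) := by
        rcases Nat.lt_or_ge (r + 1) 3 with hr3 | hr3
        · omega
        · have : 3 * (p - 1) ≤ (r + 1) * (p - 1) := Nat.mul_le_mul_right _ hr3
          omega
      have h3 := pow_congr (p := p) ((⊤ : Subgroup X).lowerCentralSeries r) N
        ((lcs_L r (p - 1)).trans (L_anti hbig))
        (fun z hz => L_anti (by omega) ((hmx.pow_mem (r + r + 1) (by omega) z
          (Cfsg.Agent.Regular.PolySeq.lcs_commutator_le r r hz)).2 (by omega)))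
        (L_anti (show r ≤ r + 2 by omega) hf) hv
      rw [← QuotientGroup.eq_one_iff, QuotientGroup.mk_mul, QuotientGroup.mk_inv,
        QuotientGroup.mk_mul, (QuotientGroup.eq_one_iff _).2 hfp, one_mul, inv_mul_eq_one] at h3
      rw [← QuotientGroup.eq_one_iff, show ⁅u, e r ^ p⁆ = (⁅u, e r⁆ * e r) ^ p * (e r ^ p)⁻¹ by
        rw [show ⁅u, e r⁆ * e r = u * e r * u⁻¹ by rw [commutatorElement_def]; group, conj_pow,
          commutatorElement_def], QuotientGroup.mk_mul, QuotientGroup.mk_inv, ← h3, mul_inv_cancel]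

omit h in
/-- **Blackburn.** All two-step centralizers but possibly the last coincide. -/
theorem middle (hp3 : 3 ≤ p) : ∀ (n : ℕ) (X : Type u) [Group X] [Finite X], MCl p n X →
    ∀ i, 1 ≤ i → i ≤ n - 4 → K X i = K X 1 := by
  intro n
  induction n using Nat.strong_induction_on with
  | _ n ih =>
    intro X _ _ h i h1 hi
    rcases eq_or_ne i 1 with rfl | hne
    · rfl
    have h6 : 6 ≤ n := by omega
    have hq := ih (n - 1) (by omega) _ (h.quotient (by omega))
    have hK : ∀ j, 1 ≤ j → j ≤ n - 5 → K X j = K X 1 := fun j hj1 hj => by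
      ext g
      rw [← h.mem_K_quotient (by omega) g, ← h.mem_K_quotient (i := 1) (by omega) g,
        hq j hj1 (by omega)]
    rcases (by omega : i ≤ n - 5 ∨ i = n - 4) with h2 | rfl
    · exact hK i h1 h2
    · exact h.top_mid hp3 h6 hK

/-- In odd exponent the last two-step centralizer agrees as well. -/
theorem MCl.last_eq (hp3 : 3 ≤ p) (h5 : 5 ≤ n) (hodd : Odd n) : K X (n - 3) = K X 1 := by
  by_contra hne
  have hmid := middle hp3 n X h
  obtain ⟨s, u, huK, hu, hs1, hs, hex⟩ := h.setup hp3 (a := n - 3) (b := n - 3) (by omega) le_rfl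
    (by omega) le_rfl fun i h1 hi => by
      rcases (by omega : i ≤ n - 4 ∨ i = n - 3) with h2 | rfl
      exacts [Or.inl (hmid i h1 h2), Or.inr (Or.inl rfl)]
  refine hne (h.K_eq (by omega) le_rfl le_rfl (by omega) hu ?_ huK)
  set e := eSeq s u with he
  set F : ℕ → X := fun i => ⁅e i, e (n - 3 - i)⁆ with hFd
  have hdeg := h.deg (s := s) (u := u) (N := n - 4) (by omega) fun i h1 h2 => (hmid i h1 h2).symm ▸ huK
  have hstep : ∀ i, i ≤ n - 4 → F i * F (i + 1) = 1 := by
    intro i hi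
    have hc : ⁅e i, e (n - 4 - i)⁆ ∈ (⊤ : Subgroup X).lowerCentralSeries (n - 2) :=
      L_anti (by omega) (hdeg i (n - 4 - i) (by omega))
    have h1 := h.last_step (s := s) (u := u) (i := i) (k := n - 4 - i) (by omega) h5
      (L_anti (by omega) hc)
    rw [show n - 4 - i + 1 = n - 3 - i by omega, h.eq_one (i := n - 2 + 1) (by omega) (L_comm_x hc s)] at h1
    simp only [hFd, show n - 3 - (i + 1) = n - 4 - i by omega]
    exact h1.symm
  obtain ⟨m, hm⟩ := hodd
  have hmid' : ∀ d, d ≤ m - 1 → F (m - 1 - d) = 1 := by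
    intro d
    induction d with
    | zero =>
      intro _
      rw [Nat.sub_zero]
      simp only [hFd, show n - 3 - (m - 1) = m - 1 by omega, commutatorElement_self]
    | succ d ih =>
      intro hd
      have h1 := hstep (m - 1 - (d + 1)) (by omega)
      rw [show m - 1 - (d + 1) + 1 = m - 1 - d by omega, ih (by omega), mul_one] at h1
      exact h1
  have hF0 := hmid' (m - 1) le_rfl
  rw [Nat.sub_self] at hF0
  refine h.mem_K_of_one (by omega) (eSeq_mem s u (n - 3)) (hex _ (by omega) (by omega)) ?_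
  show F 0 ∈ _
  rw [hF0]
  exact one_mem _

/-- Some element has a centralizer of order `p ^ 2`. -/
theorem MCl.exists_mx (hp3 : 3 ≤ p) (h4 : 4 ≤ n) : ∃ s : X, MX p n s := by
  obtain ⟨s, u, -, -, hs1, hs, -⟩ := h.setup hp3 (a := n - 3) (b := n - 3) (by omega) le_rfl
    (by omega) le_rfl fun i h1 hi => by
      rcases (by omega : i ≤ n - 4 ∨ i = n - 3) with h2 | rfl
      exacts [Or.inl (middle hp3 n X h i h1 h2), Or.inr (Or.inl rfl)]
  exact ⟨s, h.mx h4 hs1 hs⟩

end Cfsg.Agent.MaxClass.TwoStep
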