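import Cfsg.Agent.MaxClass.TwoStep
import Cfsg.Agent.LocalStructure.ThreeSubgroup

/-!
A group of maximal class and order `p ^ (p + 1)`, `p` odd, whose two-step centralizers below the
last agree, does not have exponent `p`.

The sequence `t ↦ s^t (g^(-λ) s)^(-t)` is periodic and polynomial; as a function of the scaling
parameter `λ` its top difference would be at once linear and quadratic.
-/

set_option autoImplicit false
set_option maxHeartbeats 800000

namespace Cfsg.Agent.MaxClass.ExponentP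

open Subgroup
open scoped commutatorElement
open Cfsg.Agent.MaxClass.Graded (L_anti L_comm L_comm_x)
open Cfsg.Agent.Regular

universe u

variable {Y : Type u} [Group Y]

/-- The set-up of the argument. -/
structure Setup (p : ℕ) (A : Subgroup Y) (s u : Y) : Prop where
  prime : p.Prime
  three : 3 ≤ p
  exp : ∀ y : Y, y ^ p = 1
  top : (⊤ : Subgroup Y).lowerCentralSeries p = ⊥
  normal : A.Normal
  uA : u ∈ A
  L1A : (⊤ : Subgroup Y).lowerCentralSeries 1 ≤ A
  AA : ⁅A, A⁆ ≤ (⊤ : Subgroup Y).lowerCentralSeries 2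
  AX : (⊤ : Subgroup Y).lowerCentralSeries 1 ≤ ⁅A, (⊤ : Subgroup Y)⁆
  mid : ∀ b, 1 ≤ b → b + 2 ≤ p - 1 → ⁅A, (⊤ : Subgroup Y).lowerCentralSeries b⁆ ≤
    (⊤ : Subgroup Y).lowerCentralSeries (b + 2)
  deg : TwoStep.eSeq s u (p - 1) ≠ 1

/-- The filtration. -/
def lev (A : Subgroup Y) : ℕ → Subgroup Y
  | 0 => ⊤
  | 1 => A
  | i + 2 => (⊤ : Subgroup Y).lowerCentralSeries (i + 1)

variable {p : ℕ} {A : Subgroup Y} {s u : Y} (h : Setup p A s u)

theorem lev_of_two_le {i : ℕ} (hi : 2 ≤ i) :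
    lev A i = (⊤ : Subgroup Y).lowerCentralSeries (i - 1) := by
  obtain ⟨j, rfl⟩ : ∃ j, i = j + 2 := ⟨i - 2, by omega⟩
  rfl

include h

theorem Setup.lev_anti : Antitone (lev A) := by
  refine antitone_nat_of_succ_le fun i => ?_
  rcases i with _ | _ | i
  · exact le_top
  · exact h.L1A
  · exact L_anti (Nat.le_succ _)

theorem Setup.lev_bot {i : ℕ} (hi : p < i) : lev A i = ⊥ := by
  rw [lev_of_two_le (by have := h.three; omega)]
  exact le_bot_iff.1 ((L_anti (show p ≤ i - 1 by omega)).trans h.top.le)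

theorem Setup.lev_top_comm : ∀ i, ⁅(⊤ : Subgroup Y), lev A (i + 1)⁆ ≤ lev A (i + 2) := by
  intro i
  rcases i with _ | i
  · exact commutator_mono le_rfl (le_top : A ≤ ⊤)
  · rw [commutator_comm]
    exact le_rfl

theorem Setup.lev_comm (i j : ℕ) : ⁅lev A i, lev A j⁆ ≤ lev A (i + j) := by
  rcases i with _ | i
  · rw [Nat.zero_add]
    rcases j with _ | j
    · exact le_top
    · exact (h.lev_top_comm j).trans (h.lev_anti (Nat.le_succ _))
  rcases j with _ | j
  · rw [commutator_comm]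
    exact (h.lev_top_comm i).trans (h.lev_anti (Nat.le_succ _))
  rcases i with _ | i
  · rw [show 0 + 1 + (j + 1) = j + 2 by omega]
    exact (commutator_mono le_top le_rfl).trans (h.lev_top_comm j)
  rcases j with _ | j
  · rw [show i + 1 + 1 + (0 + 1) = i + 1 + 2 by omega, commutator_comm]
    exact (commutator_mono le_top le_rfl).trans (h.lev_top_comm (i + 1))
  show ⁅(⊤ : Subgroup Y).lowerCentralSeries (i + 1), (⊤ : Subgroup Y).lowerCentralSeries (j + 1)⁆ ≤ _
  rw [lev_of_two_le (by omega), commutator_le]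
  intro a ha b hb
  exact L_anti (by omega) (L_comm ha hb)

theorem Setup.normal_lev : ∀ i, (lev A i).Normal := by
  intro i
  rcases i with _ | _ | i
  · exact (inferInstance : (⊤ : Subgroup Y).Normal)
  · exact h.normal
  · exact (inferInstance : ((⊤ : Subgroup Y).lowerCentralSeries (i + 1)).Normal)

theorem Setup.mid_gen : ∀ a b, 1 ≤ b → a + b + 2 ≤ p - 1 →
    ⁅lev A (a + 1), (⊤ : Subgroup Y).lowerCentralSeries b⁆ ≤
      (⊤ : Subgroup Y).lowerCentralSeries (a + b + 2) := by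
  intro a
  induction a with
  | zero =>
    intro b hb hab
    rw [show 0 + b + 2 = b + 2 by omega]
    exact h.mid b hb (by omega)
  | succ a ih =>
    intro b hb hab
    set N := (⊤ : Subgroup Y).lowerCentralSeries (a + 1 + b + 2)
    have hn : ∀ H : Subgroup Y, H ≤ normalizer (N : Set Y) := fun H => by
      rw [normalizer_eq_top (H := N)]; exact le_top
    have hgen : lev A (a + 1 + 1) ≤ ⁅lev A (a + 1), (⊤ : Subgroup Y)⁆ := by
      rcases a with _ | a
      · exact h.AX
      · exact le_rfl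
    refine (commutator_mono hgen le_rfl).trans
      (LocalStructure.commutator_commutator_le_of_rotate (hn _) (hn _) (hn _) ?_ ?_)
    · rw [commutator_comm (⊤ : Subgroup Y), commutator_comm _ (lev A (a + 1))]
      exact (ih (b + 1) (by omega) (by omega)).trans (L_anti (by omega))
    · rw [commutator_comm ((⊤ : Subgroup Y).lowerCentralSeries b)]
      refine (commutator_mono (ih b hb (by omega)) le_rfl).trans ?_
      exact L_anti (j := a + b + 2 + 1) (by omega)

theorem Setup.gain {i j : ℕ} (hi : 1 ≤ i) (hj : 1 ≤ j) (hij : i + j < p) :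
    ⁅lev A i, lev A j⁆ ≤ lev A (i + j + 1) := by
  rw [lev_of_two_le (show 2 ≤ i + j + 1 by omega)]
  obtain ⟨a, rfl⟩ : ∃ a, i = a + 1 := ⟨i - 1, by omega⟩
  obtain ⟨b, rfl⟩ : ∃ b, j = b + 1 := ⟨j - 1, by omega⟩
  rcases Nat.eq_zero_or_pos b with rfl | hb
  · rcases Nat.eq_zero_or_pos a with rfl | ha
    · exact h.AA
    · rw [commutator_comm, show lev A (a + 1) = (⊤ : Subgroup Y).lowerCentralSeries a from by
        rw [lev_of_two_le (by omega)]; rfl]
      exact (h.mid_gen 0 a ha (by omega)).trans (L_anti (by omega))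
  · rw [show lev A (b + 1) = (⊤ : Subgroup Y).lowerCentralSeries b from by
      rw [lev_of_two_le (by omega)]; rfl]
    exact (h.mid_gen a b hb (by omega)).trans (L_anti (by omega))

theorem Setup.central {z : Y} (hz : z ∈ lev A p) (g : Y) : Commute g z := by
  obtain ⟨q, rfl⟩ : ∃ q, p = q + 1 := ⟨p - 1, by have := h.three; omega⟩
  have hm := h.lev_top_comm q (commutator_mem_commutator (mem_top g) hz)
  rw [h.lev_bot (by omega), mem_bot] at hm
  exact commutatorElement_eq_one_iff_commute.1 hm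

/-- Sequences at level `i` whose values are linear in the parameter modulo the next level. -/
def lead (i : ℕ) : Subgroup (ℕ → Y) :=
  haveI := h.normal_lev (i + 1)
  { carrier := {φ | (∀ l, φ l ∈ lev A i) ∧ (1 ≤ i → ∃ v ∈ lev A i, ∀ l : ℕ,
      (φ l : Y ⧸ lev A (i + 1)) = (v : Y ⧸ lev A (i + 1)) ^ l)}
    mul_mem' := by
      rintro φ ψ ⟨hφ, hφv⟩ ⟨hψ, hψv⟩
      refine ⟨fun l => mul_mem (hφ l) (hψ l), fun hi => ?_⟩
      obtain ⟨v, hv, hv'⟩ := hφv hi
      obtain ⟨w, hw, hw'⟩ := hψv hi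
      refine ⟨v * w, mul_mem hv hw, fun l => ?_⟩
      have hc : Commute (v : Y ⧸ lev A (i + 1)) (w : Y ⧸ lev A (i + 1)) :=
        PowMax.commute_mk (h.lev_anti (show i + 1 ≤ i + i by omega)
          (h.lev_comm i i (commutator_mem_commutator hv hw)))
      rw [Pi.mul_apply, QuotientGroup.mk_mul, QuotientGroup.mk_mul, hv', hw', hc.mul_pow]
    one_mem' := ⟨fun _ => one_mem _, fun _ => ⟨1, one_mem _, fun l => by simp⟩⟩
    inv_mem' := by
      rintro φ ⟨hφ, hφv⟩
      refine ⟨fun l => inv_mem (hφ l), fun hi => ?_⟩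
      obtain ⟨v, hv, hv'⟩ := hφv hi
      refine ⟨v⁻¹, inv_mem hv, fun l => ?_⟩
      rw [Pi.inv_apply, QuotientGroup.mk_inv, QuotientGroup.mk_inv, hv', inv_pow] }

theorem Setup.mem_lead_deep {i : ℕ} {φ : ℕ → Y} (hφ : ∀ l, φ l ∈ lev A (i + 1)) : φ ∈ lead h i := by
  haveI := h.normal_lev (i + 1)
  refine ⟨fun l => h.lev_anti (Nat.le_succ i) (hφ l), fun _ => ⟨1, one_mem _, fun l => ?_⟩⟩
  rw [(QuotientGroup.eq_one_iff _).2 (hφ l), QuotientGroup.mk_one, one_pow]

/-- All sequences with values in the top level. -/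
def topSeq : Subgroup (ℕ → Y) :=
  { carrier := {φ | ∀ l, φ l ∈ lev A p}
    mul_mem' := fun {φ ψ} hφ hψ l => mul_mem (hφ l) (hψ l)
    one_mem' := fun l => one_mem _
    inv_mem' := fun {φ} hφ l => inv_mem (hφ l) }

/-- The quadratic sequences with values in the top level. -/
def quadSeq : Subgroup (ℕ → Y) :=
  { carrier := {φ | ∃ z ∈ lev A p, ∀ l : ℕ, φ l = z ^ (l * l)}
    mul_mem' := fun {φ ψ} ⟨z, hz, hz'⟩ ⟨w, hw, hw'⟩ => ⟨z * w, mul_mem hz hw, fun l => by
      rw [Pi.mul_apply, hz', hw', ((h.central hw z)).mul_pow]⟩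
    one_mem' := ⟨1, one_mem _, fun l => by simp⟩
    inv_mem' := fun {φ} ⟨z, hz, hz'⟩ => ⟨z⁻¹, inv_mem hz, fun l => by
      rw [Pi.inv_apply, hz', inv_pow]⟩ }

theorem Setup.quad_le : quadSeq h ≤ topSeq (p := p) (A := A) := fun φ ⟨z, hz, hz'⟩ l => by
  rw [hz']; exact pow_mem hz _

/-- The filtration of sequences. -/
def seqLev (i : ℕ) : Subgroup (ℕ → Y) :=
  if i = 0 then ⊤ else if i < p then lead h i else if i = p then topSeq (p := p) (A := A) else ⊥

/-- The finer filtration of sequences. -/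
def seqLev' (i : ℕ) : Subgroup (ℕ → Y) :=
  if i = 0 then ⊤ else if i < p then lead h i else if i = p then quadSeq h else ⊥

theorem Setup.seqLev_val {i : ℕ} {φ : ℕ → Y} (hφ : φ ∈ seqLev h i) (l : ℕ) : φ l ∈ lev A i := by
  rcases Nat.eq_zero_or_pos i with rfl | hi
  · exact mem_top _
  rcases lt_trichotomy i p with hlt | rfl | hgt
  · rw [seqLev, if_neg (by omega), if_pos hlt] at hφ
    exact hφ.1 l
  · rw [seqLev, if_neg (by omega), if_neg (lt_irrefl _), if_pos rfl] at hφ
    exact hφ l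
  · rw [seqLev, if_neg (by omega), if_neg (by omega), if_neg (by omega), mem_bot] at hφ
    rw [hφ]; exact one_mem _

theorem Setup.seqLev'_le (i : ℕ) : seqLev' h i ≤ seqLev h i := by
  rw [seqLev, seqLev']
  split_ifs with h1 h2 h3
  · exact le_rfl
  · exact le_rfl
  · exact h.quad_le
  · exact le_rfl

theorem Setup.seqLev_deep {i : ℕ} (hi : i < p) {φ : ℕ → Y} (hφ : ∀ l, φ l ∈ lev A (i + 1)) :
    φ ∈ seqLev h i ∧ φ ∈ seqLev' h i := by
  rw [seqLev, seqLev']
  split_ifs
  · exact ⟨mem_top _, mem_top _⟩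
  · exact ⟨h.mem_lead_deep hφ, h.mem_lead_deep hφ⟩

theorem Setup.seq_anti : Antitone (seqLev h) ∧ Antitone (seqLev' h) := by
  have key : ∀ i, seqLev h (i + 1) ≤ seqLev h i ∧ seqLev' h (i + 1) ≤ seqLev' h i := by
    intro i
    rcases Nat.lt_or_ge i p with hlt | hge
    · exact ⟨fun φ hφ => (h.seqLev_deep hlt fun l => h.seqLev_val hφ l).1,
        fun φ hφ => (h.seqLev_deep hlt fun l => h.seqLev_val (h.seqLev'_le _ hφ) l).2⟩
    · simp only [seqLev, seqLev', if_neg (show ¬ i + 1 = 0 by omega), if_neg (show ¬ i + 1 < p by omega),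
        if_neg (show ¬ i + 1 = p by omega)]
      exact ⟨bot_le, bot_le⟩
  exact ⟨antitone_nat_of_succ_le fun i => (key i).1, antitone_nat_of_succ_le fun i => (key i).2⟩

theorem Setup.comm_deep {i j : ℕ} (hij : p < i + j) {φ ψ : ℕ → Y} (hφ : φ ∈ seqLev h i)
    (hψ : ψ ∈ seqLev h j) : ⁅φ, ψ⁆ = 1 := by
  funext l
  have h2 := h.lev_comm i j (commutator_mem_commutator (h.seqLev_val hφ l) (h.seqLev_val hψ l))
  rw [h.lev_bot hij, mem_bot] at h2
  exact h2

/-- The commutator into the top level is multiplicative. -/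
theorem Setup.top_hom {i j : ℕ} (hij : i + j = p) {a b y : Y} (ha : a ∈ lev A i) (hb : b ∈ lev A i)
    (hy : y ∈ lev A j) : ⁅a * b, y⁆ = ⁅a, y⁆ * ⁅b, y⁆ := by
  have hby : ⁅b, y⁆ ∈ lev A p := hij ▸ h.lev_comm i j (commutator_mem_commutator hb hy)
  have hay : ⁅a, y⁆ ∈ lev A p := hij ▸ h.lev_comm i j (commutator_mem_commutator ha hy)
  rw [commutatorElement_mul_left_eq_conj_mul, (h.central hby a).eq, mul_inv_cancel_right]
  exact (h.central hay ⁅b, y⁆).eq

theorem Setup.top_pow {i j : ℕ} (hij : i + j = p) {a y : Y} (ha : a ∈ lev A i) (hy : y ∈ lev A j)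
    (k : ℕ) : ⁅a ^ k, y⁆ = ⁅a, y⁆ ^ k := by
  induction k with
  | zero => simp
  | succ k ih => rw [pow_succ, h.top_hom hij (pow_mem ha k) ha hy, ih, pow_succ]

theorem Setup.pair_quad {i j : ℕ} (hi : 1 ≤ i) (hj : 1 ≤ j) (hij : i + j = p) {φ ψ : ℕ → Y}
    (hφ : φ ∈ lead h i) (hψ : ψ ∈ lead h j) : ⁅φ, ψ⁆ ∈ quadSeq h := by
  haveI := h.normal_lev (i + 1)
  haveI := h.normal_lev (j + 1)
  obtain ⟨v, hv, hv'⟩ := hφ.2 hi
  obtain ⟨w, hw, hw'⟩ := hψ.2 hj
  refine ⟨⁅v, w⁆, hij ▸ h.lev_comm i j (commutator_mem_commutator hv hw), fun l => ?_⟩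
  have hd : (v ^ l)⁻¹ * φ l ∈ lev A (i + 1) :=
    QuotientGroup.eq.1 (by rw [QuotientGroup.mk_pow, hv'])
  have he : (w ^ l)⁻¹ * ψ l ∈ lev A (j + 1) :=
    QuotientGroup.eq.1 (by rw [QuotientGroup.mk_pow, hw'])
  have hkill : ∀ {a b : ℕ} {x y : Y}, p < a + b → x ∈ lev A a → y ∈ lev A b → ⁅x, y⁆ = 1 := by
    intro a b x y hab hx hy
    have h2 := h.lev_comm a b (commutator_mem_commutator hx hy)
    rwa [h.lev_bot hab, mem_bot] at h2
  have hvl : v ^ l ∈ lev A i := pow_mem hv l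
  have hwl : w ^ l ∈ lev A j := pow_mem hw l
  show ⁅φ l, ψ l⁆ = _
  conv_lhs =>
    rw [show φ l = v ^ l * ((v ^ l)⁻¹ * φ l) by group, show ψ l = w ^ l * ((w ^ l)⁻¹ * ψ l) by group]
  rw [h.top_hom hij hvl (h.lev_anti (Nat.le_succ i) hd) (mul_mem hwl (h.lev_anti (Nat.le_succ j) he)),
    hkill (show p < (i + 1) + j by omega) hd (mul_mem hwl (h.lev_anti (Nat.le_succ j) he)), mul_one,
    h.top_pow hij hv (mul_mem hwl (h.lev_anti (Nat.le_succ j) he))]
  have e : ⁅v, w ^ l * ((w ^ l)⁻¹ * ψ l)⁆ = ⁅v, w⁆ ^ l := by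
    rw [← commutatorElement_inv, h.top_hom (show j + i = p by omega) hwl (h.lev_anti (Nat.le_succ j) he) hv,
      hkill (show p < (j + 1) + i by omega) he hv, mul_one, h.top_pow (show j + i = p by omega) hw hv,
      ← inv_pow, commutatorElement_inv]
  rw [e, ← pow_mul]

theorem Setup.seq_comm (i j : ℕ) :
    ⁅seqLev h i, seqLev h j⁆ ≤ seqLev h (i + j) ∧ ⁅seqLev' h i, seqLev' h j⁆ ≤ seqLev' h (i + j) := by
  have zero : ∀ j, ∀ φ ψ : ℕ → Y, ψ ∈ seqLev h j → ⁅φ, ψ⁆ ∈ seqLev h j ∧ ⁅φ, ψ⁆ ∈ seqLev' h j := by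
    intro j φ ψ hψ
    rcases Nat.eq_zero_or_pos j with rfl | hj
    · simp [seqLev, seqLev']
    obtain ⟨q, rfl⟩ : ∃ q, j = q + 1 := ⟨j - 1, by omega⟩
    rcases Nat.lt_or_ge (q + 1) p with hlt | hge
    · exact h.seqLev_deep hlt fun l =>
        h.lev_top_comm q (commutator_mem_commutator (mem_top _) (h.seqLev_val hψ l))
    · have : ⁅φ, ψ⁆ = 1 := funext fun l => by
        have hz : ψ l ∈ lev A p := h.lev_anti hge (h.seqLev_val hψ l)
        exact commutatorElement_eq_one_iff_commute.2 (h.central hz (φ l))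
      rw [this]
      exact ⟨one_mem _, one_mem _⟩
  have main : ∀ φ ψ : ℕ → Y, φ ∈ seqLev h i → ψ ∈ seqLev h j →
      ⁅φ, ψ⁆ ∈ seqLev h (i + j) ∧ ⁅φ, ψ⁆ ∈ seqLev' h (i + j) := by
    intro φ ψ hφ hψ
    rcases Nat.eq_zero_or_pos i with rfl | hi
    · rw [Nat.zero_add]; exact zero j φ ψ hψ
    rcases Nat.eq_zero_or_pos j with rfl | hj
    · rw [Nat.add_zero, ← commutatorElement_inv]
      obtain ⟨h1, h2⟩ := zero i ψ φ hφ
      exact ⟨inv_mem h1, inv_mem h2⟩
    rcases lt_trichotomy (i + j) p with hlt | heq | hgt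
    · exact h.seqLev_deep hlt fun l =>
        h.gain hi hj hlt (commutator_mem_commutator (h.seqLev_val hφ l) (h.seqLev_val hψ l))
    · rw [seqLev, if_neg (by omega), if_pos (by omega)] at hφ hψ
      have hq := h.pair_quad hi hj heq hφ hψ
      rw [seqLev, seqLev', if_neg (by omega), if_neg (by omega), if_pos heq, if_neg (by omega),
        if_neg (by omega), if_pos heq]
      exact ⟨h.quad_le hq, hq⟩
    · rw [h.comm_deep hgt hφ hψ]
      exact ⟨one_mem _, one_mem _⟩
  exact ⟨commutator_le.2 fun φ hφ ψ hψ => (main φ ψ hφ hψ).1,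
    commutator_le.2 fun φ hφ ψ hψ => (main φ ψ (h.seqLev'_le i hφ) (h.seqLev'_le j hψ)).2⟩

theorem Setup.filt : PolySeq.Filt (seqLev h) := ⟨h.seq_anti.1, fun i j => (h.seq_comm i j).1⟩

theorem Setup.filt' : PolySeq.Filt (seqLev' h) := ⟨h.seq_anti.2, fun i j => (h.seq_comm i j).2⟩

theorem Setup.step {i : ℕ} (hi : 1 ≤ i) {φ : ℕ → Y} (hφ : φ ∈ seqLev h i) :
    ⁅(fun _ => s : ℕ → Y), φ⁆ ∈ seqLev h (i + 1) := by
  have hval : ∀ l, ⁅s, φ l⁆ ∈ lev A (i + 1) := fun l => by
    obtain ⟨q, rfl⟩ : ∃ q, i = q + 1 := ⟨i - 1, by omega⟩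
    exact h.lev_top_comm q (commutator_mem_commutator (mem_top s) (h.seqLev_val hφ l))
  rcases lt_trichotomy (i + 1) p with hlt | heq | hgt
  · rw [seqLev, if_neg (by omega), if_pos (by omega)] at hφ
    haveI := h.normal_lev (i + 1)
    haveI := h.normal_lev (i + 1 + 1)
    obtain ⟨v, hv, hv'⟩ := hφ.2 hi
    have hstep : ∀ {x : Y}, x ∈ lev A (i + 1) → ∀ g : Y, Commute (g : Y ⧸ lev A (i + 1 + 1)) (x : Y ⧸ lev A (i + 1 + 1)) :=
      fun hx g => PowMax.commute_mk (h.lev_top_comm i (commutator_mem_commutator (mem_top g) hx))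
    have hs : ∀ {x : Y}, x ∈ lev A i → ⁅s, x⁆ ∈ lev A (i + 1) := fun {x} hx => by
      obtain ⟨q, rfl⟩ : ∃ q, i = q + 1 := ⟨i - 1, by omega⟩
      exact h.lev_top_comm q (commutator_mem_commutator (mem_top s) hx)
    have hmul : ∀ {x y : Y}, y ∈ lev A i → ((⁅s, x * y⁆ : Y) : Y ⧸ lev A (i + 1 + 1)) =
        ((⁅s, x⁆ : Y) : Y ⧸ lev A (i + 1 + 1)) * ((⁅s, y⁆ : Y) : Y ⧸ lev A (i + 1 + 1)) := fun {x y} hy => by
      rw [commutatorElement_mul_right_eq_mul_conj]
      simp only [QuotientGroup.mk_mul, QuotientGroup.mk_inv, mul_assoc]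
      rw [← mul_assoc (x : Y ⧸ lev A (i + 1 + 1)), (hstep (hs hy) x).eq, mul_assoc, mul_inv_cancel, mul_one]
    rw [seqLev, if_neg (by omega), if_pos hlt]
    refine ⟨hval, fun _ => ⟨⁅s, v⁆, hs hv, fun l => ?_⟩⟩
    show ((⁅s, φ l⁆ : Y) : Y ⧸ lev A (i + 1 + 1)) = _
    have hd : (v ^ l)⁻¹ * φ l ∈ lev A (i + 1) :=
      QuotientGroup.eq.1 (by rw [QuotientGroup.mk_pow, hv'])
    conv_lhs => rw [show φ l = v ^ l * ((v ^ l)⁻¹ * φ l) by group]
    rw [hmul (h.lev_anti (Nat.le_succ i) hd),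
      (QuotientGroup.eq_one_iff _).2 (h.lev_top_comm i (commutator_mem_commutator (mem_top s) hd)), mul_one]
    clear hd
    induction l with
    | zero => simp
    | succ l ih => rw [pow_succ, hmul hv, ih, pow_succ]
  · rw [seqLev, if_neg (by omega), if_neg (by omega), if_pos heq]
    exact fun l => heq ▸ hval l
  · have : ⁅(fun _ => s : ℕ → Y), φ⁆ = 1 := funext fun l => by
      have h2 := hval l
      rw [h.lev_bot hgt, mem_bot] at h2
      exact h2
    rw [this]
    exact one_mem _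

theorem Setup.conj_poly : ∀ k i (φ : ℕ → Y), 1 ≤ i → φ ∈ seqLev h i →
    PolySeq.Poly (seqLev h) k i fun m => (fun _ => s : ℕ → Y) ^ m * φ * ((fun _ => s : ℕ → Y) ^ m)⁻¹ := by
  intro k
  induction k with
  | zero =>
    intro i φ _ hφ m
    simp only
    rw [show ((fun _ => s : ℕ → Y) ^ m * φ * ((fun _ => s : ℕ → Y) ^ m)⁻¹) =
      ⁅(fun _ => s : ℕ → Y) ^ m, φ⁆ * φ by rw [commutatorElement_def]; group]
    refine mul_mem ?_ hφ
    have h2 := (h.seq_comm 0 i).1 (commutator_mem_commutator (by simp [seqLev]) hφ :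
      ⁅(fun _ => s : ℕ → Y) ^ m, φ⁆ ∈ _)
    rwa [Nat.zero_add] at h2
  | succ k ih =>
    intro i φ hi hφ
    refine ⟨ih i φ hi hφ, ?_⟩
    rw [show PolySeq.diff (fun m => (fun _ => s : ℕ → Y) ^ m * φ * ((fun _ => s : ℕ → Y) ^ m)⁻¹) =
      fun m => (fun _ => s : ℕ → Y) ^ m * ⁅(fun _ => s : ℕ → Y), φ⁆ * ((fun _ => s : ℕ → Y) ^ m)⁻¹ from
      funext fun m => by
        simp only [PolySeq.diff]
        rw [commutatorElement_def, pow_succ]
        group]
    exact ih (i + 1) _ (by omega) (h.step hi hφ)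

theorem Setup.periodic_poly {f : ℕ → (ℕ → Y)} (hf : ∀ k, PolySeq.Poly (seqLev h) k 0 f)
    (hper : ∀ t, f (t + p) = f t) : ∀ k, PolySeq.Poly (seqLev' h) k 0 f := by
  have hpp := h.prime
  have hexp : ∀ c : ℕ → Y, c ^ p = 1 := fun c => funext fun l => h.exp (c l)
  have hperiod : ∀ (c : ℕ → Y) (m : ℕ), m < p → ∀ t, c ^ (t + p).choose m = c ^ t.choose m := by
    intro c m
    induction m with
    | zero => simp
    | succ m ih =>
      intro hm t
      induction t with
      | zero =>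
        obtain ⟨r, hr⟩ := hpp.dvd_choose_self (Nat.succ_ne_zero m) hm
        rw [zero_add, hr, pow_mul, hexp, one_pow, Nat.choose_zero_succ, pow_zero]
      | succ t iht =>
        rw [show t + 1 + p = t + p + 1 by omega, Nat.choose_succ_succ, Nat.choose_succ_succ, pow_add,
          pow_add, ih (by omega), iht]
  have hclaim : ∀ d m (f : ℕ → (ℕ → Y)), m + d = p → (∀ k, PolySeq.Poly (seqLev h) k 0 f) →
      (∀ t < m, f t = 1) → (∀ t, f (t + p) = f t) → ∀ k, PolySeq.Poly (seqLev' h) k 0 f := by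
    intro d
    induction d with
    | zero =>
      intro m f hm _ hv hper k
      have hone : f = 1 := funext fun t => by
        induction t using Nat.strong_induction_on with
        | _ t iht =>
          rcases Nat.lt_or_ge t m with ht | ht
          · exact hv t ht
          · obtain rfl : m = p := by omega
            have h6 := hper (t - m)
            rw [Nat.sub_add_cancel ht] at h6
            rw [h6]
            exact iht (t - m) (by have := hpp.pos; omega)
      rw [hone]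
      exact (PolySeq.poly_closed h.filt' k).1 0
    | succ d ih =>
      intro m f hm hf hv hper k
      have hg' : f m ∈ seqLev h (0 + m) := PolySeq.mem_of_vanish h.filt m 0 m f (hf m) le_rfl hv
      let e : ℕ → (ℕ → Y) := fun t => f m ^ t.choose m
      have hstep := ih (m + 1) (f * e⁻¹) (by omega)
        (fun k => (PolySeq.poly_closed h.filt k).2.1 0 _ _ (hf k)
          ((PolySeq.poly_closed h.filt k).2.2.1 0 _ (PolySeq.poly_choose h.filt k 0 m _ hg')))
        (fun t ht => by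
          rcases Nat.lt_or_ge t m with ht' | ht'
          · simp [e, hv t ht', Nat.choose_eq_zero_of_lt ht']
          · obtain rfl : t = m := by omega
            simp [e])
        (fun t => by simp only [e, Pi.mul_apply, Pi.inv_apply, hper t, hperiod _ m (by omega)])
        k
      have he' : PolySeq.Poly (seqLev' h) k 0 e := PolySeq.poly_choose h.filt' k 0 m _ (by
        rw [seqLev] at hg'
        rw [seqLev']
        split_ifs at hg' ⊢ <;> first | exact hg' | omega)
      have h6 := (PolySeq.poly_closed h.filt' k).2.1 0 _ _ hstep he'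
      rwa [inv_mul_cancel_right] at h6
  exact hclaim p 0 f (zero_add p) hf (fun t ht => absurd ht (by omega)) hper

theorem Setup.false : False := by
  have hp3 := h.three
  set S : ℕ → Y := fun _ => s
  set G : ℕ → Y := fun l => u ^ l
  set W : ℕ → Y := G⁻¹ * S
  have hG : G ∈ seqLev h 1 := by
    rw [seqLev, if_neg (by omega), if_pos (by omega)]
    haveI := h.normal_lev (1 + 1)
    exact ⟨fun l => pow_mem h.uA l, fun _ => ⟨u, h.uA, fun l => by simp [G]⟩⟩
  have hexp : ∀ c : ℕ → Y, c ^ p = 1 := fun c => funext fun l => h.exp (c l)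
  let F : ℕ → (ℕ → Y) := fun t => S ^ t * (W ^ t)⁻¹
  have hdiff : PolySeq.diff F = fun t => S ^ t * G * (S ^ t)⁻¹ := funext fun t => by
    simp only [PolySeq.diff, F, W]
    rw [pow_succ, pow_succ]
    group
  have hF : ∀ k, PolySeq.Poly (seqLev h) k 0 F := by
    intro k
    induction k with
    | zero => intro n; simp [seqLev]
    | succ k ih => exact ⟨ih, by rw [hdiff]; exact h.conj_poly k 1 G le_rfl hG⟩
  have hper : ∀ t, F (t + p) = F t := fun t => by
    simp only [F, pow_add, hexp, mul_one]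
  have hF' := h.periodic_poly hF hper
  let a : ℕ → (ℕ → Y) := fun k => Nat.rec G (fun _ b => ⁅S, b⁆) k
  have hiter : ∀ k j, j + k = p - 1 →
      PolySeq.Poly (seqLev' h) k (j + 1) (fun m => S ^ m * a j * (S ^ m)⁻¹) → a (p - 1) ∈ seqLev' h p := by
    intro k
    induction k with
    | zero =>
      intro j hj hP
      obtain rfl : j = p - 1 := by omega
      have h2 := hP 0
      rw [show p - 1 + 1 = p by omega] at h2
      simpa using h2
    | succ k ih =>
      intro j hj hP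
      refine ih (j + 1) (by omega) ?_
      have hP2 := hP.2
      rwa [show PolySeq.diff (fun m => S ^ m * a j * (S ^ m)⁻¹) = fun m => S ^ m * a (j + 1) * (S ^ m)⁻¹ from
        funext fun m => by
          simp only [PolySeq.diff]
          show _ = S ^ m * ⁅S, a j⁆ * (S ^ m)⁻¹
          rw [commutatorElement_def, pow_succ]
          group] at hP2
  have hquad : a (p - 1) ∈ seqLev' h p := hiter (p - 1) 0 (by omega) (by
    have h2 := (show PolySeq.Poly (seqLev' h) (p - 1 + 1) 0 F from hF' _).2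
    rwa [hdiff] at h2)
  rw [seqLev', if_neg (by omega), if_neg (lt_irrefl _), if_pos rfl] at hquad
  obtain ⟨z, hz, hz'⟩ := hquad
  have hmem : ∀ j, a j ∈ seqLev h (j + 1) := fun j => by
    induction j with
    | zero => exact hG
    | succ j ih => exact h.step (by omega) ih
  -- the same sequence is linear
  obtain ⟨q, hq⟩ : ∃ q, p = q + 2 := ⟨p - 2, by omega⟩
  have hlast := hmem q
  rw [seqLev, if_neg (by omega), if_pos (by omega)] at hlast
  haveI := h.normal_lev (q + 1 + 1)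
  obtain ⟨v, hv, hv'⟩ := hlast.2 (by omega)
  have hlev : lev A (q + 1 + 1) = lev A p := by rw [hq]
  have hsv : ∀ {x : Y}, x ∈ lev A (q + 1) → ⁅s, x⁆ ∈ lev A p := fun hx =>
    hlev ▸ h.lev_top_comm q (commutator_mem_commutator (mem_top s) hx)
  have hlin : ∀ l, a (p - 1) l = ⁅s, v⁆ ^ l := by
    intro l
    rw [show p - 1 = q + 1 by omega]
    show ⁅s, a q l⁆ = _
    have hd : (v ^ l)⁻¹ * a q l ∈ lev A (q + 1 + 1) :=
      QuotientGroup.eq.1 (by rw [QuotientGroup.mk_pow, hv'])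
    have hpow : ∀ k : ℕ, ⁅s, v ^ k⁆ = ⁅s, v⁆ ^ k := by
      intro k
      induction k with
      | zero => simp
      | succ k ih =>
        rw [pow_succ, commutatorElement_mul_right_eq_mul_conj, ih, pow_succ]
        rw [show ∀ A B C : Y, A * B * C * B⁻¹ = A * (B * C * B⁻¹) from fun A B C => by group,
          (h.central (hsv hv) (v ^ k)).eq, mul_inv_cancel_right]
    conv_lhs => rw [show a q l = v ^ l * ((v ^ l)⁻¹ * a q l) by group]
    have hd1 : ⁅s, (v ^ l)⁻¹ * a q l⁆ = 1 :=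
      commutatorElement_eq_one_iff_commute.2 (h.central (hlev ▸ hd) s)
    rw [commutatorElement_mul_right_eq_mul_conj, hd1, mul_one, mul_inv_cancel_right, hpow]
  have hne : a (p - 1) 1 ≠ 1 := by
    have he : ∀ j, a j 1 = TwoStep.eSeq s u j := by
      intro j
      induction j with
      | zero => show G 1 = u; simp [G]
      | succ j ih => show ⁅s, a j 1⁆ = _; rw [ih]; rfl
    rw [he]; exact h.deg
  have e1 : z = ⁅s, v⁆ := by rw [← pow_one ⁅s, v⁆, ← hlin 1, hz' 1]; simp
  have e2 := (hz' 2).symm.trans (hlin 2)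
  rw [← e1] at e2
  have e3 : z ^ 2 = 1 := by
    rw [show (2 * 2 : ℕ) = 2 + 2 by rfl, pow_add, mul_eq_left] at e2
    exact e2
  have e4 : z = 1 := by
    obtain ⟨c, hc⟩ := h.prime.odd_of_ne_two (by omega)
    have h5 := h.exp z
    rwa [hc, pow_succ, pow_mul, e3, one_pow, one_mul] at h5
  exact hne (by rw [hlin 1, ← e1, e4, one_pow])

end Cfsg.Agent.MaxClass.ExponentP
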