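import Mathlib
import Cfsg.Agent.MaxClass.Class
import Cfsg.Agent.MaxClass.TwoStep
import Cfsg.Agent.MaxClass.TwoStepNormal
import Cfsg.Agent.Fusion.PGroup

/-!
Elements with centraliser of order `p ^ 2` in a `p`-group of maximal class, all primes: they exist
outside any proper subgroup, and every other element centralises a subgroup of order at least
`p ^ 2` of the term of order `p ^ 3` of the lower central series.
-/

set_option autoImplicit false

namespace Cfsg.Agent.MaxClass.GoodElement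

open Subgroup
open scoped commutatorElement
open Cfsg.Agent.MaxClass.TwoStep (MCl K mem_K)

universe u

variable {p n : ℕ} [hp : Fact p.Prime]

/-- A subgroup moving `v` only inside the coset `v Z` mostly centralises `v`. -/
theorem card_le_mul_centralizer {G : Type*} [Group G] [Finite G] (H Z : Subgroup G) (v : G)
    (h : ∀ u ∈ H, ⁅u, v⁆ ∈ Z) :
    Nat.card H ≤ Nat.card Z * Nat.card ↥(H ⊓ centralizer ({v} : Set G)) := by
  classical
  let f : H → Z := fun a => ⟨⁅(a : G), v⁆, h a a.2⟩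
  haveI : Nonempty H := ⟨1⟩
  let s : H → H := fun a => Function.invFun f (f a)
  have hs : ∀ a, f (s a) = f a := fun a => Function.invFun_eq ⟨a, rfl⟩
  have hc : ∀ a : H, ((s a : G))⁻¹ * a ∈ H ⊓ centralizer ({v} : Set G) := fun a => by
    refine mem_inf.2 ⟨mul_mem (inv_mem (s a).2) a.2, mem_centralizer_singleton_iff.2 ?_⟩
    have e : ⁅(s a : G), v⁆ = ⁅(a : G), v⁆ := congrArg Subtype.val (hs a)
    rw [commutatorElement_def, commutatorElement_def, mul_left_inj] at e
    calc ((s a : G))⁻¹ * a * v = ((s a : G))⁻¹ * ((a : G) * v * (a : G)⁻¹) * a := by group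
      _ = ((s a : G))⁻¹ * ((s a : G) * v * ((s a : G))⁻¹) * a := by rw [e]
      _ = v * (((s a : G))⁻¹ * a) := by group
  rw [← Nat.card_prod]
  refine Nat.card_le_card_of_injective (fun a => (f a, (⟨_, hc a⟩ : ↥(H ⊓ centralizer ({v} : Set G))))) ?_
  intro a b e
  simp only [Prod.mk.injEq, Subtype.mk.injEq] at e
  have e1 : s a = s b := congrArg (Function.invFun f) e.1
  rw [e1] at e
  exact Subtype.ext (mul_left_cancel e.2)

theorem exists_notMem_two {X : Type*} [Group X] {A B : Subgroup X} (hA : A ≠ ⊤) (hB : B ≠ ⊤) :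
    ∃ x, x ∉ A ∧ x ∉ B := by
  by_contra! h
  obtain ⟨a, ha⟩ : ∃ a, a ∉ A := by by_contra! hh; exact hA ((eq_top_iff' A).2 hh)
  obtain ⟨b, hb⟩ : ∃ b, b ∉ B := by by_contra! hh; exact hB ((eq_top_iff' B).2 hh)
  have haB := h a ha
  have hbA : b ∈ A := by by_contra hh; exact hb (h b hh)
  have h1 : a * b ∉ A := fun h2 => ha ((mul_mem_cancel_right hbA).1 h2)
  exact hb ((mul_mem_cancel_left haB).1 (h _ h1))

theorem exists_notMem_three {X : Type*} [Group X] [Finite X] (hX : IsPGroup p X) (hp3 : 3 ≤ p)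
    {A B C : Subgroup X} (hA : A ≠ ⊤) (hB : B ≠ ⊤) (hC : C ≠ ⊤) : ∃ x, x ∉ A ∧ x ∉ B ∧ x ∉ C := by
  by_contra! h
  have hle : ∀ D : Subgroup X, D ≠ ⊤ → 3 * Nat.card D ≤ Nat.card X := fun D hD => by
    obtain ⟨i, hi⟩ := hX.index D
    have h2 := D.card_mul_index
    rcases i with - | i
    · exact absurd (index_eq_one.1 (by simpa using hi)) hD
    · have h3 : 3 ≤ p ^ (i + 1) := hp3.trans (Nat.le_self_pow (by omega) p)
      rw [← h2, hi, mul_comm]
      exact Nat.mul_le_mul_left _ h3
  have hcov : (Set.univ : Set X) = (((A : Set X) \ {1}) ∪ ((B : Set X) \ {1})) ∪ (C : Set X) := by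
    refine (Set.eq_univ_of_forall fun x => ?_).symm
    by_cases hxC : x ∈ C
    · exact Or.inr hxC
    by_cases hx1 : x = 1
    · exact absurd (hx1 ▸ C.one_mem) hxC
    by_cases hxA : x ∈ A
    · exact Or.inl (Or.inl ⟨hxA, hx1⟩)
    by_cases hxB : x ∈ B
    · exact Or.inl (Or.inr ⟨hxB, hx1⟩)
    · exact absurd (h x hxA hxB) hxC
  have h1 := congrArg Set.ncard hcov
  rw [Set.ncard_univ] at h1
  have h2 := (Set.ncard_union_le (((A : Set X) \ {1}) ∪ ((B : Set X) \ {1})) (C : Set X))
  have h3 := Set.ncard_union_le ((A : Set X) \ {1}) ((B : Set X) \ {1})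
  have h4 : ((A : Set X) \ {1}).ncard + 1 = Nat.card A := Set.ncard_diff_singleton_add_one A.one_mem
  have h5 : ((B : Set X) \ {1}).ncard + 1 = Nat.card B := Set.ncard_diff_singleton_add_one B.one_mem
  have h6 : (C : Set X).ncard = Nat.card C := (Nat.card_coe_set_eq _).symm
  have := hle A hA
  have := hle B hB
  have := hle C hC
  omega

variable {X : Type u} [Group X] [Finite X]

theorem sq_le_card_centralizer (h : MCl p n X) {x : X} (hx : x ∉ center X) :
    p ^ 2 ≤ Nat.card (centralizer ({x} : Set X)) := by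
  obtain ⟨i, hi⟩ := IsPGroup.iff_card.1 (h.pgrp.to_subgroup (centralizer ({x} : Set X)))
  rw [hi]
  refine Nat.pow_le_pow_right hp.out.pos ?_
  by_contra hlt
  have hle : center X ≤ centralizer ({x} : Set X) := center_le_centralizer _
  have := h.pgrp.isNilpotent
  have hnt : Nontrivial X := Finite.one_lt_card_iff_nontrivial.1
    (h.cardX ▸ Nat.one_lt_pow (by have := h.three; omega) hp.out.one_lt)
  have h1 := (one_lt_card_iff_ne_bot _).2 (Group.IsNilpotent.center_ne_bot (G := X))
  have h2 : center X = centralizer ({x} : Set X) := by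
    refine eq_of_le_of_card_ge hle ?_
    rw [hi]
    obtain ⟨j, hj⟩ := IsPGroup.iff_card.1 (h.pgrp.to_subgroup (center X))
    rw [hj] at h1 ⊢
    refine Nat.pow_le_pow_right hp.out.pos ?_
    rcases j with - | j
    · simp at h1
    · omega
  exact hx (h2 ▸ mem_centralizer_singleton_iff.2 rfl)

/-- The elements outside a cyclic maximal subgroup of a 2-group of maximal class. -/
theorem two_data (h : MCl p n X) (hp2 : p = 2) : ∃ A : Subgroup X, A ≠ ⊤ ∧
    (⊤ : Subgroup X).lowerCentralSeries 1 ≤ A ∧ (∀ a ∈ A, ∀ b ∈ A, a * b = b * a) ∧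
    ∀ x : X, x ∉ A → Nat.card (centralizer ({x} : Set X)) ≤ p ^ 2 := by
  subst hp2
  have h3 := h.three
  have hX := h.pgrp
  have hne : (⊤ : Subgroup X).lowerCentralSeries (n - 2) ≠ ⊥ := fun e => by
    obtain ⟨a, ha, ha'⟩ := h.ne_step (i := n - 2) (by omega) le_rfl
    rw [e, mem_bot] at ha
    exact ha' (ha ▸ one_mem _)
  have hna : ¬ IsMulCommutative X := fun hc => hne (by
    refine le_bot_iff.1 ((Subgroup.lowerCentralSeries_antitone _ (show 1 ≤ n - 2 by omega)).trans ?_)
    show ⁅(⊤ : Subgroup X), ⊤⁆ ≤ ⊥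
    rw [commutator_le]
    exact fun a _ b _ => mem_bot.2 (commutatorElement_eq_one_iff_mul_comm.2 (hc.is_comm.comm a b)))
  obtain ⟨m, a, b, u, hm, -, ha, hidx, hb, hu, he⟩ := (mc_of_lowerCentralSeries hna h.cardX hne).data
  refine ⟨zpowers a, fun e => hb (e.symm ▸ mem_top b), ?_, ?_, fun x hx => ?_⟩
  · haveI : (zpowers a).Normal := normal_of_index_eq_two hidx
    haveI : IsCyclic (X ⧸ zpowers a) := isCyclic_of_prime_card (p := 2) (by rw [← index_eq_card, hidx])
    exact Subgroup.Normal.quotient_commutative_iff_commutator_le.1 IsCyclic.isMulCommutative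
  · rintro _ ⟨i, rfl⟩ _ ⟨j, rfl⟩
    exact (zpow_mul_comm a i j)
  · set C := centralizer ({x} : Set X) with hC
    obtain ⟨j, rfl⟩ : ∃ j, m = j + 1 := ⟨m - 1, by omega⟩
    have hsmall : zpowers a ⊓ C ≤ zpowers (a ^ ((2 : ℤ) ^ j)) := by
      rintro g hg
      obtain ⟨hga, hgC⟩ := mem_inf.1 hg
      obtain ⟨i, rfl⟩ := mem_zpowers_iff.1 hga
      have hbx : b⁻¹ * x ∈ zpowers a := (mul_mem_iff_of_index_two hidx).2
        ⟨fun h1 => absurd ((inv_mem_iff).1 h1) hb, fun h1 => absurd h1 hx⟩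
      obtain ⟨k, hk⟩ := mem_zpowers_iff.1 hbx
      have hxe : x = b * a ^ k := by rw [hk]; group
      have hcomm : x * a ^ i * x⁻¹ = a ^ i := by
        rw [← (mem_centralizer_singleton_iff.1 hgC), mul_inv_cancel_right]
      have h2 : a ^ ((2 * u + 1) * i) = a ^ i := by
        rw [← hcomm, hxe, ← conj_zpow_of_eq he i]
        group
      rw [zpow_eq_iff ha] at h2
      obtain ⟨c, hc⟩ := h2
      have hdvd : (2 : ℤ) ^ j ∣ u * i := by
        refine ⟨-c, ?_⟩
        have h4 : (2 : ℤ) * (u * i) = 2 * ((2 : ℤ) ^ j * (-c)) := by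
          rw [pow_succ] at hc; linear_combination -hc
        exact mul_left_cancel₀ two_ne_zero h4
      have hcop : IsCoprime ((2 : ℤ) ^ j) u := by
        refine IsCoprime.pow_left ?_
        obtain ⟨s, hs⟩ := hu
        exact ⟨-s, 1, by rw [hs]; ring⟩
      obtain ⟨d, rfl⟩ := hcop.dvd_of_dvd_mul_left hdvd
      exact mem_zpowers_iff.2 ⟨d, by rw [← zpow_mul]⟩
    have h2 : Nat.card ↥(zpowers a ⊓ C) ≤ 2 := by
      refine (card_le_of_le hsmall).trans ?_
      rw [Nat.card_zpowers]
      refine orderOf_le_of_pow_eq_one two_pos ?_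
      rw [← zpow_natCast, ← zpow_mul, ← zpow_zero a, zpow_eq_iff ha]
      exact ⟨-1, by push_cast; ring⟩
    have h4 : (zpowers a).relIndex C ≤ 2 := by
      haveI : (zpowers a).Normal := normal_of_index_eq_two hidx
      exact Nat.le_of_dvd two_pos (hidx ▸ relIndex_dvd_index_of_normal _ _)
    have h5 : Nat.card ↥(zpowers a ⊓ C) * (zpowers a).relIndex C = Nat.card C := by
      rw [← inf_relIndex_right, ← relIndex_bot_left, ← relIndex_bot_left]
      exact relIndex_mul_relIndex ⊥ _ C bot_le inf_le_right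
    calc Nat.card C = _ := h5.symm
      _ ≤ 2 * 2 := Nat.mul_le_mul h2 h4
      _ = 2 ^ 2 := by norm_num

theorem exists_good (h : MCl p n X) (M : Subgroup X) (hM : M ≠ ⊤) :
    ∃ x : X, x ∉ M ∧ Nat.card (centralizer ({x} : Set X)) = p ^ 2 := by
  have h3 := h.three
  have hpp := hp.out
  have hctr : center X ≠ ⊤ := fun e => by
    obtain ⟨a, ha, ha'⟩ := h.ne_step (i := 1) le_rfl (by omega)
    have hb : (⊤ : Subgroup X).lowerCentralSeries 1 ≤ ⊥ := by
      show ⁅(⊤ : Subgroup X), ⊤⁆ ≤ ⊥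
      rw [commutator_le]
      exact fun g _ k _ => mem_bot.2 (commutatorElement_eq_one_iff_mul_comm.2
        (mem_center_iff.1 (e.symm ▸ mem_top k : k ∈ center X) g))
    exact ha' ((mem_bot.1 (hb ha)).symm ▸ one_mem _)
  rcases (by omega : n = 3 ∨ 4 ≤ n) with rfl | h4
  · obtain ⟨x, hx, hxc⟩ := exists_notMem_two hM hctr
    refine ⟨x, hx, le_antisymm ?_ (sq_le_card_centralizer h hxc)⟩
    obtain ⟨i, hi, hi'⟩ := (Nat.dvd_prime_pow hpp).1
      (h.cardX ▸ card_subgroup_dvd_card (centralizer ({x} : Set X)))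
    rw [hi']
    refine Nat.pow_le_pow_right hpp.pos ?_
    by_contra hlt
    have htop : centralizer ({x} : Set X) = ⊤ := eq_top_of_card_eq _
      (by rw [hi', h.cardX, show i = 3 by omega])
    exact hxc (mem_center_iff.2 fun g => mem_centralizer_singleton_iff.1 (htop.symm ▸ mem_top g))
  · rcases eq_or_lt_of_le hpp.two_le with h2 | h2
    · obtain ⟨A, hA, hA1, hAc, hAout⟩ := two_data h h2.symm
      obtain ⟨x, hx, hxA⟩ := exists_notMem_two hM hA
      refine ⟨x, hx, le_antisymm (hAout x hxA) (sq_le_card_centralizer h fun hc => hxA ?_)⟩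
      by_contra
      obtain ⟨i, hi⟩ := IsPGroup.iff_card.1 (h.pgrp.to_subgroup (centralizer ({x} : Set X)))
      have htop : centralizer ({x} : Set X) = ⊤ := eq_top_iff.2 fun g _ =>
        mem_centralizer_singleton_iff.2 (mem_center_iff.1 hc g)
      have := hAout x hxA
      rw [htop, card_top, h.cardX, Nat.pow_le_pow_iff_right hpp.one_lt] at this
      omega
    · obtain ⟨x, hx, hx1, hxl⟩ := exists_notMem_three h.pgrp (by omega) hM
        (h.K_ne_top (i := 1) le_rfl (by omega)) (h.K_ne_top (i := n - 3) (by omega) le_rfl)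
      refine ⟨x, hx, (h.mx h4 (fun hs => hx1 (h.L1_le_K 1 hs)) fun i hi1 hi => ?_).cent⟩
      rcases (by omega : i ≤ n - 4 ∨ i = n - 3) with h5 | rfl
      · rw [TwoStep.middle (by omega) n X h i hi1 h5]; exact hx1
      · exact hxl

theorem good_or_centralizes (h : MCl p n X) (h5 : 5 ≤ n) (y : X) :
    Nat.card (centralizer ({y} : Set X)) ≤ p ^ 2 ∨
      p ^ 2 ≤ Nat.card ↥((⊤ : Subgroup X).lowerCentralSeries (n - 4) ⊓ centralizer ({y} : Set X)) := by
  have hpp := hp.out
  set L4 := (⊤ : Subgroup X).lowerCentralSeries (n - 4) with hL4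
  have hL4c : Nat.card L4 = p ^ 3 := by rw [hL4, h.cardL (by omega)]; congr 1; omega
  have hbig : ∀ D : Subgroup X, D ≤ L4 → D ≤ centralizer ({y} : Set X) → p ^ 2 ≤ Nat.card D →
      p ^ 2 ≤ Nat.card ↥(L4 ⊓ centralizer ({y} : Set X)) := fun D h1 h2 h3 =>
    h3.trans (card_le_of_le (le_inf h1 h2))
  rcases eq_or_lt_of_le hpp.two_le with h2 | h2
  · obtain ⟨A, -, hA1, hAc, hAout⟩ := two_data h h2.symm
    by_cases hy : y ∈ A
    · refine Or.inr (hbig L4 le_rfl (fun g hg => mem_centralizer_singleton_iff.2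
        (hAc g (hA1 (Subgroup.lowerCentralSeries_antitone _ (show 1 ≤ n - 4 by omega) hg)) y hy)) ?_)
      rw [hL4c]; exact Nat.pow_le_pow_right hpp.pos (by omega)
    · exact Or.inl (hAout y hy)
  by_cases hy1 : y ∈ K X 1
  · refine Or.inr ?_
    have h1 := card_le_mul_centralizer L4 ((⊤ : Subgroup X).lowerCentralSeries (n - 2)) y fun v hv => by
      rw [← commutatorElement_inv]
      refine inv_mem ?_
      have hyK : y ∈ K X (n - 4) := by rw [TwoStep.middle (by omega) n X h (n - 4) (by omega) le_rfl]; exact hy1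
      have := mem_K.1 hyK v hv
      rwa [show n - 4 + 2 = n - 2 by omega] at this
    rw [hL4c, h.cardL (by omega), show n - 1 - (n - 2) = 1 by omega, pow_one, pow_succ'] at h1
    exact Nat.le_of_mul_le_mul_left h1 hpp.pos
  by_cases hyl : y ∈ K X (n - 3)
  · refine Or.inr (hbig ((⊤ : Subgroup X).lowerCentralSeries (n - 3))
      (Subgroup.lowerCentralSeries_antitone _ (by omega)) (fun v hv => ?_) ?_)
    · have := mem_K.1 hyl v hv
      rw [show n - 3 + 2 = n - 1 by omega] at this
      exact mem_centralizer_singleton_iff.2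
        (commutatorElement_eq_one_iff_mul_comm.1 (h.eq_one le_rfl this)).symm
    · rw [h.cardL (by omega), show n - 1 - (n - 3) = 2 by omega]
  · refine Or.inl ((h.mx (by omega) (fun hs => hy1 (h.L1_le_K 1 hs)) fun i hi1 hi => ?_).cent).le
    rcases (by omega : i ≤ n - 4 ∨ i = n - 3) with h6 | rfl
    · rw [TwoStep.middle (by omega) n X h i hi1 h6]; exact hy1
    · exact hyl

end Cfsg.Agent.MaxClass.GoodElement
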