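import Cfsg.Agent.MaxClass.SelfCent
import Cfsg.Agent.Regular.PolySeq

/-!
A `p`-group of maximal class with an element whose centralizer has order `p ^ 2`: commutation with
that element is exact on the lower central factors, the `p`-th power map shifts degrees by `p - 1`,
and every subgroup is generated by at most `p` elements.
-/

set_option autoImplicit false

namespace Cfsg.Agent.MaxClass.Graded

open Subgroup Cfsg.Agent.Regular
open scoped commutatorElement

variable {X : Type*} [Group X] {p n : ℕ} {x : X}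

/-- The terms of the lower central series. -/
local notation "L" => fun i : ℕ => Subgroup.lowerCentralSeries (⊤ : Subgroup _) i

/-- The hypotheses. -/
structure MX (p n : ℕ) (x : X) : Prop where
  three : 3 ≤ n
  pgrp : IsPGroup p X
  cardX : Nat.card X = p ^ n
  cardL : ∀ i, 1 ≤ i → Nat.card ↥((⊤ : Subgroup X).lowerCentralSeries i) = p ^ (n - 1 - i)
  x_not : x ∉ (⊤ : Subgroup X).lowerCentralSeries 1
  cent : Nat.card ↥(centralizer ({x} : Set X)) = p ^ 2

theorem L_anti {i j : ℕ} (h : i ≤ j) :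
    (⊤ : Subgroup X).lowerCentralSeries j ≤ (⊤ : Subgroup X).lowerCentralSeries i :=
  Subgroup.lowerCentralSeries_antitone _ h

theorem L_comm {i j : ℕ} {a b : X} (ha : a ∈ (⊤ : Subgroup X).lowerCentralSeries i)
    (hb : b ∈ (⊤ : Subgroup X).lowerCentralSeries j) :
    ⁅a, b⁆ ∈ (⊤ : Subgroup X).lowerCentralSeries (i + j + 1) :=
  PolySeq.lcs_commutator_le j i (commutator_mem_commutator ha hb)

theorem L_comm_x {i : ℕ} {u : X} (hu : u ∈ (⊤ : Subgroup X).lowerCentralSeries i) (g : X) :
    ⁅g, u⁆ ∈ (⊤ : Subgroup X).lowerCentralSeries (i + 1) := by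
  simpa [Nat.add_comm] using L_comm (i := 0) (Subgroup.mem_top g : g ∈ (⊤ : Subgroup X).lowerCentralSeries 0) hu

/-- Hall-Petrescu relative to a subgroup and a normal subgroup. -/
theorem pow_congr [hp : Fact p.Prime] (K N : Subgroup X) [N.Normal]
    (h1 : K.lowerCentralSeries (p - 1) ≤ N) (h2 : ∀ c ∈ ⁅K, K⁆, c ^ p ∈ N) {a b : X}
    (ha : a ∈ K) (hb : b ∈ K) : (a ^ p * b ^ p)⁻¹ * (a * b) ^ p ∈ N := by
  set π := (QuotientGroup.mk' N).comp K.subtype
  have e : π.range = K.map (QuotientGroup.mk' N) := by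
    rw [MonoidHom.range_comp, Subgroup.range_subtype]
  have e2 : ⁅π.range, π.range⁆ = ⁅K, K⁆.map (QuotientGroup.mk' N) := by rw [map_commutator, e]
  have hclass : (⊤ : Subgroup π.range).lowerCentralSeries (p - 1) = ⊥ := by
    refine (Subgroup.map_eq_bot_iff_of_injective _ π.range.subtype_injective).1 (le_bot_iff.1 ?_)
    rw [Subgroup.top_subtype_lowerCentralSeries]
    rw [e, ← Subgroup.map_lowerCentralSeries]
    rintro _ ⟨c, hc, rfl⟩
    exact mem_bot.2 ((QuotientGroup.eq_one_iff c).2 (h1 hc))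
  have hexp : ∀ y ∈ _root_.commutator π.range, y ^ p ^ 1 = 1 := by
    intro y hy
    have hy' : (y : X ⧸ N) ∈ (_root_.commutator π.range).map π.range.subtype := mem_map_of_mem _ hy
    rw [_root_.commutator_def, map_commutator, ← MonoidHom.range_eq_map, range_subtype, e2] at hy'
    obtain ⟨c, hc, hcy⟩ := hy'
    refine Subtype.ext ?_
    rw [pow_one, SubmonoidClass.coe_pow, OneMemClass.coe_one, ← hcy, ← map_pow, QuotientGroup.mk'_apply,
      QuotientGroup.eq_one_iff]
    exact h2 c hc
  have h := PolySeq.mul_pow_eq (G := π.range) hp.out one_ne_zero hclass hexp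
    ⟨π ⟨a, ha⟩, _, rfl⟩ ⟨π ⟨b, hb⟩, _, rfl⟩
  have h' := congrArg Subtype.val h
  simp only [pow_one, SubmonoidClass.coe_pow, Subgroup.coe_mul] at h'
  rw [← QuotientGroup.eq_one_iff, QuotientGroup.mk_mul, QuotientGroup.mk_inv, QuotientGroup.mk_mul,
    QuotientGroup.mk_pow, QuotientGroup.mk_pow, QuotientGroup.mk_pow, QuotientGroup.mk_mul,
    inv_mul_eq_one, eq_comm]
  exact h'

theorem lcs_L (i : ℕ) : ∀ k : ℕ, ((⊤ : Subgroup X).lowerCentralSeries i).lowerCentralSeries k ≤
    (⊤ : Subgroup X).lowerCentralSeries (i + (i + 1) * k) := by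
  intro k
  induction k with
  | zero => simp
  | succ k ih =>
    refine (commutator_mono ih le_rfl).trans ?_
    rw [show i + (i + 1) * (k + 1) = i + (i + 1) * k + i + 1 by ring]
    exact PolySeq.lcs_commutator_le i _

variable [hp : Fact p.Prime] [Finite X] (h : MX p n x)
include h

theorem MX.eq_bot {i : ℕ} (hi : n - 1 ≤ i) : (⊤ : Subgroup X).lowerCentralSeries i = ⊥ := by
  have := h.three
  exact card_eq_one.1 (by rw [h.cardL i (by omega), show n - 1 - i = 0 by omega, pow_zero])

theorem MX.ne_step {i : ℕ} (h1 : 1 ≤ i) (hi : i ≤ n - 2) :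
    ∃ u ∈ (⊤ : Subgroup X).lowerCentralSeries i, u ∉ (⊤ : Subgroup X).lowerCentralSeries (i + 1) := by
  refine SetLike.exists_of_lt (lt_of_le_of_ne (L_anti (Nat.le_succ i)) fun e => ?_)
  have h2 := h.cardL (i + 1) (by omega)
  rw [e, h.cardL i h1] at h2
  have := Nat.pow_right_injective hp.out.two_le h2
  have := h.three
  omega

/-- A factor of the series is generated by any element outside the next term. -/
theorem MX.decomp {i : ℕ} (h1 : 1 ≤ i) {u v : X} (hu : u ∈ (⊤ : Subgroup X).lowerCentralSeries i)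
    (hu' : u ∉ (⊤ : Subgroup X).lowerCentralSeries (i + 1))
    (hv : v ∈ (⊤ : Subgroup X).lowerCentralSeries i) :
    ∃ k : ℤ, ∃ d ∈ (⊤ : Subgroup X).lowerCentralSeries (i + 1), v = u ^ k * d := by
  set A := zpowers u ⊔ (⊤ : Subgroup X).lowerCentralSeries (i + 1) with hA
  have hle : A ≤ (⊤ : Subgroup X).lowerCentralSeries i :=
    sup_le (zpowers_le.2 hu) (L_anti (Nat.le_succ i))
  obtain ⟨j, hj⟩ := IsPGroup.iff_card.1 (h.pgrp.to_subgroup A)
  have hlt : p ^ (n - 1 - (i + 1)) < p ^ j := by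
    rw [← h.cardL (i + 1) (by omega), ← hj]
    by_contra hle'
    exact hu' ((eq_of_le_of_card_ge (le_sup_right : _ ≤ A) (not_lt.1 hle')).symm ▸
      mem_sup_left (mem_zpowers u) : u ∈ _)
  have hlt' := (Nat.pow_lt_pow_iff_right hp.out.one_lt).1 hlt
  have heq : A = (⊤ : Subgroup X).lowerCentralSeries i := eq_of_le_of_card_ge hle (by
    rw [hj, h.cardL i h1]; exact Nat.pow_le_pow_right hp.out.pos (by omega))
  rw [← heq, hA] at hv
  obtain ⟨a, ha, d, hd, rfl⟩ := mem_sup_of_normal_right.1 hv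
  obtain ⟨k, rfl⟩ := mem_zpowers_iff.1 ha
  exact ⟨k, d, hd, rfl⟩

theorem MX.top_central {z : X} (hz : z ∈ (⊤ : Subgroup X).lowerCentralSeries (n - 2)) (g : X) :
    Commute g z := by
  have h1 := L_comm_x hz g
  rw [h.eq_bot (by omega), mem_bot] at h1
  exact commutatorElement_eq_one_iff_mul_comm.1 h1

theorem MX.cent_inter {u : X} (hu : u ∈ (⊤ : Subgroup X).lowerCentralSeries 1) (hc : Commute x u) :
    u ∈ (⊤ : Subgroup X).lowerCentralSeries (n - 2) := by
  have := h.three
  set C := centralizer ({x} : Set X) ⊓ (⊤ : Subgroup X).lowerCentralSeries 1 with hC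
  have hle : (⊤ : Subgroup X).lowerCentralSeries (n - 2) ≤ C := fun z hz =>
    ⟨mem_centralizer_singleton_iff.2 (h.top_central hz x).symm.eq, L_anti (by omega) hz⟩
  have hlt : Nat.card C < p ^ 2 := by
    rw [← h.cent]
    by_contra hge
    have e := eq_of_le_of_card_ge (inf_le_left : C ≤ centralizer ({x} : Set X)) (not_lt.1 hge)
    exact h.x_not (inf_eq_left.1 e (mem_centralizer_singleton_iff.2 rfl))
  obtain ⟨j, hj⟩ := IsPGroup.iff_card.1 (h.pgrp.to_subgroup C)
  rw [hj, Nat.pow_lt_pow_iff_right hp.out.one_lt] at hlt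
  have heq := eq_of_le_of_card_ge hle (by
    rw [hj, h.cardL (n - 2) (by omega), show n - 1 - (n - 2) = 1 by omega]
    exact Nat.pow_le_pow_right hp.out.pos (by omega))
  rw [heq]
  exact ⟨mem_centralizer_singleton_iff.2 hc.symm.eq, hu⟩

theorem MX.surj {i : ℕ} (h1 : 1 ≤ i) {c : X} (hc : c ∈ (⊤ : Subgroup X).lowerCentralSeries (i + 1)) :
    ∃ u ∈ (⊤ : Subgroup X).lowerCentralSeries i, ⁅x, u⁆ = c := by
  have := h.three
  rcases le_or_gt (n - 2) i with hi | hi
  · refine ⟨1, one_mem _, ?_⟩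
    rw [h.eq_bot (by omega), mem_bot] at hc
    rw [hc, commutatorElement_one_right]
  set Z := ((⊤ : Subgroup X).lowerCentralSeries (n - 2)).subgroupOf ((⊤ : Subgroup X).lowerCentralSeries i)
  let f : (((⊤ : Subgroup X).lowerCentralSeries i) ⧸ Z) → ((⊤ : Subgroup X).lowerCentralSeries (i + 1)) :=
    fun q => ⟨⁅x, (q.out : X)⁆, L_comm_x q.out.2 x⟩
  have hf : Function.Injective f := by
    intro a b hab
    have h2 : ⁅x, (a.out : X)⁆ = ⁅x, (b.out : X)⁆ := congrArg Subtype.val hab
    rw [← Quotient.out_eq a, ← Quotient.out_eq b]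
    refine QuotientGroup.eq.2 (mem_subgroupOf.2 (h.cent_inter (L_anti h1 (a.out⁻¹ * b.out).2) ?_))
    show x * ((a.out : X)⁻¹ * b.out) = (a.out : X)⁻¹ * b.out * x
    have h3 : (a.out : X) * x⁻¹ * (a.out : X)⁻¹ = b.out * x⁻¹ * (b.out : X)⁻¹ := by
      simpa [commutatorElement_def, mul_assoc] using h2
    have h4 := congrArg (·⁻¹) h3
    simp only [mul_inv_rev, inv_inv] at h4
    calc x * ((a.out : X)⁻¹ * b.out)
        = (a.out : X)⁻¹ * (a.out * (x * (a.out : X)⁻¹)) * b.out := by group
      _ = (a.out : X)⁻¹ * (b.out * (x * (b.out : X)⁻¹)) * b.out := by rw [h4]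
      _ = _ := by group
  have hcard : Nat.card (((⊤ : Subgroup X).lowerCentralSeries i) ⧸ Z) =
      Nat.card ((⊤ : Subgroup X).lowerCentralSeries (i + 1)) := by
    have h2 := Z.card_mul_index
    rw [Nat.card_congr (subgroupOfEquivOfLe (L_anti hi.le)).toEquiv, h.cardL (n - 2) (by omega),
      h.cardL i h1, index_eq_card] at h2
    rw [h.cardL (i + 1) (by omega)]
    rw [show n - 1 - (n - 2) = 1 by omega, pow_one, show n - 1 - i = n - 1 - (i + 1) + 1 by omega,
      pow_succ'] at h2
    exact Nat.eq_of_mul_eq_mul_left hp.out.pos h2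
  obtain ⟨q, hq⟩ := ((Nat.bijective_iff_injective_and_card f).2 ⟨hf, hcard⟩).2 ⟨c, hc⟩
  exact ⟨q.out, q.out.2, congrArg Subtype.val hq⟩

/-- Commutation with `x` raises the degree by exactly one. -/
theorem MX.back {i : ℕ} {v : X} (hv : v ∈ (⊤ : Subgroup X).lowerCentralSeries 1)
    (hc : ⁅x, v⁆ ∈ (⊤ : Subgroup X).lowerCentralSeries (i + 1)) (hi : i ≤ n - 2) :
    v ∈ (⊤ : Subgroup X).lowerCentralSeries i := by
  rcases Nat.eq_zero_or_pos i with rfl | h1
  · exact Subgroup.mem_top v
  obtain ⟨u, hu, huc⟩ := h.surj h1 hc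
  have h2 : Commute x (u⁻¹ * v) := by
    show x * (u⁻¹ * v) = u⁻¹ * v * x
    have h3 : u * x⁻¹ * u⁻¹ = v * x⁻¹ * v⁻¹ := by simpa [commutatorElement_def, mul_assoc] using huc
    have h4 := congrArg (·⁻¹) h3
    simp only [mul_inv_rev, inv_inv] at h4
    calc x * (u⁻¹ * v) = u⁻¹ * (u * (x * u⁻¹)) * v := by group
      _ = u⁻¹ * (v * (x * v⁻¹)) * v := by rw [h4]
      _ = _ := by group
  have h3 := h.cent_inter (mul_mem (inv_mem (L_anti h1 hu)) hv) h2
  have h4 := mul_mem hu (L_anti hi h3)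
  rwa [mul_inv_cancel_left] at h4

theorem MX.exact {i : ℕ} (h1 : 1 ≤ i) (hi : i + 1 ≤ n - 2) {v : X}
    (hv : v ∈ (⊤ : Subgroup X).lowerCentralSeries i) (hv' : v ∉ (⊤ : Subgroup X).lowerCentralSeries (i + 1)) :
    ⁅x, v⁆ ∉ (⊤ : Subgroup X).lowerCentralSeries (i + 2) := fun hc =>
  hv' (h.back (i := i + 1) (L_anti h1 hv) hc hi)

theorem MX.pow_L1 (g : X) : g ^ p ∈ (⊤ : Subgroup X).lowerCentralSeries 1 := by
  set N := (⊤ : Subgroup X).lowerCentralSeries 1
  have h2 := N.card_mul_index
  rw [h.cardL 1 le_rfl, h.cardX, show n = n - 1 - 1 + 2 by have := h.three; omega, pow_add,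
    show n - 1 - 1 + 2 - 1 - 1 = n - 1 - 1 by omega, index_eq_card] at h2
  have hq : Nat.card (X ⧸ N) = p ^ 2 := Nat.eq_of_mul_eq_mul_left (pow_pos hp.out.pos _) h2
  rw [← QuotientGroup.eq_one_iff, QuotientGroup.mk_pow, ← orderOf_dvd_iff_pow_eq_one]
  obtain ⟨j, hj, hA⟩ := (Nat.dvd_prime_pow hp.out).1 (hq ▸ orderOf_dvd_natCard (g : X ⧸ N))
  rw [hA]
  refine (pow_dvd_pow p (show j ≤ 1 from ?_)).trans (by rw [pow_one])
  by_contra hj1
  obtain rfl : j = 2 := by omega
  refine not_isCyclic_quotient_commutator h.pgrp (fun hb => ?_)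
    (isCyclic_of_orderOf_eq_card (g : X ⧸ N) (hA.trans hq.symm))
  have h3 := h.cardL 1 le_rfl
  rw [show (⊤ : Subgroup X).lowerCentralSeries 1 = ⊥ from hb, card_bot] at h3
  have := h.three
  exact (Nat.one_lt_pow (show n - 1 - 1 ≠ 0 by omega) hp.out.one_lt).ne h3

theorem MX.x_pow_central (g : X) : Commute g (x ^ p) :=
  h.top_central (h.cent_inter (h.pow_L1 x) (Commute.self_pow x p)) g

/-- Elements of the coset `x L₁` behave like `x`. -/
theorem MX.xu_pow {u : X} (hu : u ∈ (⊤ : Subgroup X).lowerCentralSeries 1) :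
    (x * u) ^ p ∈ (⊤ : Subgroup X).lowerCentralSeries (n - 2) := by
  by_contra hne
  set v := (x * u) ^ p with hv
  have hv1 := h.pow_L1 (x * u)
  classical
  obtain ⟨i, hi1, hi2, hiv, hiv'⟩ : ∃ i, 1 ≤ i ∧ i + 1 ≤ n - 2 ∧ v ∈ (⊤ : Subgroup X).lowerCentralSeries i ∧
      v ∉ (⊤ : Subgroup X).lowerCentralSeries (i + 1) := by
    by_contra hno
    push Not at hno
    have hall : ∀ i, 1 ≤ i → i ≤ n - 2 → v ∈ (⊤ : Subgroup X).lowerCentralSeries i := by
      intro i hi
      induction i, hi using Nat.le_induction with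
      | base => exact fun _ => hv1
      | succ i hi ih => exact fun hi2 => hno i hi (by omega) (ih (by omega))
    exact hne (hall _ (by have := h.three; omega) le_rfl)
  have hc : ⁅x * u, v⁆ = 1 := commutatorElement_eq_one_iff_mul_comm.2 (Commute.self_pow (x * u) p).eq
  rw [commutatorElement_mul_left_eq_conj_mul] at hc
  have h2 : x * ⁅u, v⁆ * x⁻¹ ∈ (⊤ : Subgroup X).lowerCentralSeries (i + 2) :=
    Subgroup.Normal.conj_mem inferInstance _ (L_anti (by omega) (L_comm hu hiv)) x
  refine h.exact hi1 hi2 hiv hiv' ?_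
  rw [eq_inv_of_mul_eq_one_right hc]
  exact inv_mem h2

/-- Bounds for `p`-th powers. -/
theorem MX.pow_mem : ∀ (j : ℕ), 1 ≤ j → ∀ u ∈ (⊤ : Subgroup X).lowerCentralSeries j,
    u ^ p ∈ (⊤ : Subgroup X).lowerCentralSeries (min (j + p - 1) (n - 2)) ∧
      (2 ≤ j → u ^ p ∈ (⊤ : Subgroup X).lowerCentralSeries (j + p - 1)) := by
  have := h.three
  have hp2 := hp.out.two_le
  suffices H : ∀ d j, n ≤ j + d → 1 ≤ j → ∀ u ∈ (⊤ : Subgroup X).lowerCentralSeries j,
      u ^ p ∈ (⊤ : Subgroup X).lowerCentralSeries (min (j + p - 1) (n - 2)) ∧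
      (2 ≤ j → u ^ p ∈ (⊤ : Subgroup X).lowerCentralSeries (j + p - 1)) from
    fun j hj => H n j (by omega) hj
  intro d
  induction d with
  | zero =>
    intro j hd h1 u hu
    rw [h.eq_bot (by omega), mem_bot] at hu
    subst hu
    exact ⟨by rw [one_pow]; exact one_mem _, fun _ => by rw [one_pow]; exact one_mem _⟩
  | succ d ih =>
    intro j hd h1 u hu
    set m := min (j + p - 1) (n - 2) with hm
    have hweak : ∀ (i : ℕ), j ≤ i + 1 → 1 ≤ i → (∀ c ∈ (⊤ : Subgroup X).lowerCentralSeries (i + 1),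
        c ^ p ∈ (⊤ : Subgroup X).lowerCentralSeries (min (i + p - 1) (n - 2))) →
        ∀ v ∈ (⊤ : Subgroup X).lowerCentralSeries i,
        v ^ p ∈ (⊤ : Subgroup X).lowerCentralSeries (min (i + p - 1) (n - 2)) := by
      intro i _ hi hnext v hv
      set K := zpowers x ⊔ (⊤ : Subgroup X).lowerCentralSeries i with hK
      have hKcomm : ⁅K, K⁆ ≤ (⊤ : Subgroup X).lowerCentralSeries (i + 1) := by
        set N := (⊤ : Subgroup X).lowerCentralSeries (i + 1)
        rw [commutator_le]
        intro a ha b hb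
        obtain ⟨a', ha', l, hl, rfl⟩ := mem_sup_of_normal_right.1 ha
        obtain ⟨b', hb', l', hl', rfl⟩ := mem_sup_of_normal_right.1 hb
        obtain ⟨k, rfl⟩ := mem_zpowers_iff.1 ha'
        obtain ⟨k', rfl⟩ := mem_zpowers_iff.1 hb'
        have hc : ∀ (g : X), ∀ l ∈ (⊤ : Subgroup X).lowerCentralSeries i,
            Commute (g : X ⧸ N) (l : X ⧸ N) := fun g l hl => by
          refine commutatorElement_eq_one_iff_mul_comm.1 ?_
          exact (map_commutatorElement (QuotientGroup.mk' N) g l).symm.trans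
            ((QuotientGroup.eq_one_iff _).2 (L_comm_x hl g))
        rw [← QuotientGroup.eq_one_iff, ← QuotientGroup.mk'_apply, map_commutatorElement,
          commutatorElement_eq_one_iff_mul_comm, QuotientGroup.mk'_apply, QuotientGroup.mk'_apply,
          QuotientGroup.mk_mul, QuotientGroup.mk_mul, QuotientGroup.mk_zpow, QuotientGroup.mk_zpow]
        refine Commute.eq (Commute.mul_right (Commute.mul_left ((Commute.refl _).zpow_zpow k k') ?_) ?_)
        · exact ((hc x l hl).zpow_left k').symm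
        · exact Commute.mul_left ((hc x l' hl').zpow_left k) (hc l l' hl')
      have hlcs : ∀ k : ℕ, 1 ≤ k → K.lowerCentralSeries k ≤ (⊤ : Subgroup X).lowerCentralSeries (i + k) := by
        intro k hk
        induction k, hk using Nat.le_induction with
        | base => exact hKcomm
        | succ k hk ih' =>
          refine (commutator_mono ih' le_top).trans ?_
          rfl
      have hxK : x ∈ K := mem_sup_left (mem_zpowers x)
      have hvK : v ∈ K := mem_sup_right hv
      have h3 := pow_congr (p := p) K ((⊤ : Subgroup X).lowerCentralSeries (min (i + p - 1) (n - 2)))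
        ((hlcs (p - 1) (by omega)).trans (L_anti (by omega))) (fun c hc => hnext c (hKcomm hc)) hxK hvK
      have hxp : x ^ p ∈ (⊤ : Subgroup X).lowerCentralSeries (min (i + p - 1) (n - 2)) :=
        L_anti (min_le_right _ _) (h.cent_inter (h.pow_L1 x) (Commute.self_pow x p))
      have hxup : (x * v) ^ p ∈ (⊤ : Subgroup X).lowerCentralSeries (min (i + p - 1) (n - 2)) :=
        L_anti (min_le_right _ _) (h.xu_pow (L_anti hi hv))
      have h4 := mul_mem (inv_mem hxp) (mul_mem hxup (inv_mem h3))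
      rwa [mul_inv_rev, inv_inv, mul_inv_cancel_left, inv_mul_cancel_left] at h4
    have hnext : ∀ c ∈ (⊤ : Subgroup X).lowerCentralSeries (j + 1),
        c ^ p ∈ (⊤ : Subgroup X).lowerCentralSeries m := fun c hc =>
      L_anti (by omega) (ih (j + 1) (by omega) (by omega) c hc).1
    have hwk := hweak j (by omega) h1 hnext
    refine ⟨hwk u hu, fun h2 => ?_⟩
    rcases le_or_gt (j + p - 1) (n - 2) with hle | hgt
    · exact L_anti (by omega) (hwk u hu)
    obtain ⟨i, rfl⟩ : ∃ i, j = i + 1 := ⟨j - 1, by omega⟩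
    obtain ⟨v, hv, hvu⟩ := h.surj (i := i) (by omega) hu
    have hvp := hweak i le_rfl (by omega) (fun c hc => L_anti (by omega) (hwk c hc)) v hv
    rw [show min (i + p - 1) (n - 2) = n - 2 by omega] at hvp
    rw [h.eq_bot (by omega), mem_bot]
    have h3 := pow_congr (p := p) ((⊤ : Subgroup X).lowerCentralSeries i)
      ((⊤ : Subgroup X).lowerCentralSeries (i + 1 + p - 1))
      ((lcs_L i (p - 1)).trans (L_anti (by
        have h5 : 2 * (p - 1) ≤ (i + 1) * (p - 1) := Nat.mul_le_mul_right _ (by omega)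
        omega)))
      (fun c hc => L_anti (by omega) ((ih (i + i + 1) (by omega) (by omega) c
        (PolySeq.lcs_commutator_le i i hc)).2 (by omega)))
      (L_anti (Nat.le_succ i) hu) hv
    have e : u * v = x * v * x⁻¹ := by rw [← hvu, commutatorElement_def]; group
    rw [e, conj_pow, (h.top_central hvp x).eq, mul_inv_cancel_right, h.eq_bot (by omega), mem_bot,
      inv_mul_eq_one, mul_eq_right] at h3
    exact h3

/-- Periodic polynomial sequences with values killed by `p` stay polynomial when the filtration is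
shifted from level `p` on. -/
theorem MX.anchor (hp3 : 3 ≤ p) (hn : p ≤ n - 2) {u : X} (hu : u ∈ (⊤ : Subgroup X).lowerCentralSeries 1)
    (hu' : u ∉ (⊤ : Subgroup X).lowerCentralSeries 2) :
    u ^ p ∉ (⊤ : Subgroup X).lowerCentralSeries (p + 1) := by
  intro hcon
  have := h.three
  set N := (⊤ : Subgroup X).lowerCentralSeries (p + 1) with hN
  -- every element of the derived subgroup has its `p`-th power in `N`
  have hall : ∀ c ∈ (⊤ : Subgroup X).lowerCentralSeries 1, c ^ p ∈ N := by
    intro c hc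
    obtain ⟨k, d, hd, rfl⟩ := h.decomp le_rfl hu hu' hc
    have h3 := pow_congr (p := p) ((⊤ : Subgroup X).lowerCentralSeries 1) N
      ((lcs_L 1 (p - 1)).trans (L_anti (by omega)))
      (fun c hc => L_anti (by omega) ((h.pow_mem 3 (by omega) c
        (PolySeq.lcs_commutator_le 1 1 hc)).2 (by omega)))
      (zpow_mem hu k) (L_anti (Nat.le_succ 1) hd)
    have hd' : d ^ p ∈ N := L_anti (by omega) ((h.pow_mem 2 (by omega) d hd).2 le_rfl)
    have hu2 : (u ^ k) ^ p ∈ N := by
      rw [← zpow_natCast, ← zpow_mul, mul_comm, zpow_mul, zpow_natCast]; exact zpow_mem hcon k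
    have h4 := mul_mem (mul_mem hu2 hd') h3
    rwa [mul_inv_cancel_left] at h4
  -- a generator outside `⟨x⟩ L₁`
  obtain ⟨g, hg⟩ : ∃ g : X, g ∉ zpowers x ⊔ (⊤ : Subgroup X).lowerCentralSeries 1 := by
    by_contra hall'
    push Not at hall'
    have hcyc : IsCyclic (X ⧸ _root_.commutator X) := ⟨⟨(x : X ⧸ _root_.commutator X), fun q => by
      obtain ⟨q, rfl⟩ := QuotientGroup.mk'_surjective _ q
      obtain ⟨a, ha, b, hb, rfl⟩ := mem_sup_of_normal_right.1 (hall' q)
      obtain ⟨k, rfl⟩ := mem_zpowers_iff.1 ha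
      refine mem_zpowers_iff.2 ⟨k, ?_⟩
      rw [map_mul, map_zpow, show QuotientGroup.mk' (_root_.commutator X) b = 1 from (QuotientGroup.eq_one_iff b).2 hb, mul_one]
      rfl⟩⟩
    refine not_isCyclic_quotient_commutator h.pgrp (fun hb => ?_) hcyc
    have h3 := h.cardL 1 le_rfl
    rw [show (⊤ : Subgroup X).lowerCentralSeries 1 = ⊥ from hb, card_bot] at h3
    exact (Nat.one_lt_pow (show n - 1 - 1 ≠ 0 by omega) hp.out.one_lt).ne h3
  -- the iterated commutators
  let a : ℕ → X := fun k => Nat.rec g (fun _ b => ⁅x, b⁆) k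
  have ha : ∀ k, a k ∈ (⊤ : Subgroup X).lowerCentralSeries k := by
    intro k
    induction k with
    | zero => exact Subgroup.mem_top g
    | succ k ih => exact L_comm_x ih x
  have ha1 : a 1 ∉ (⊤ : Subgroup X).lowerCentralSeries 2 := by
    intro hc
    obtain ⟨b, hb, hbc⟩ := h.surj le_rfl hc
    refine hg ?_
    have hcom : b⁻¹ * g ∈ centralizer ({x} : Set X) := by
      rw [mem_centralizer_singleton_iff]
      have h3 : b * x⁻¹ * b⁻¹ = g * x⁻¹ * g⁻¹ := by simpa [a, commutatorElement_def, mul_assoc] using hbc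
      have h4 := congrArg (·⁻¹) h3
      simp only [mul_inv_rev, inv_inv] at h4
      symm
      calc x * (b⁻¹ * g) = b⁻¹ * (b * (x * b⁻¹)) * g := by group
        _ = b⁻¹ * (g * (x * g⁻¹)) * g := by rw [h4]
        _ = _ := by group
    set A := zpowers x ⊔ (⊤ : Subgroup X).lowerCentralSeries (n - 2) with hA
    have hAC : A ≤ centralizer ({x} : Set X) := sup_le (zpowers_le.2 (mem_centralizer_singleton_iff.2 rfl))
      fun z hz => mem_centralizer_singleton_iff.2 (h.top_central hz x).symm.eq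
    have hAeq : A = centralizer ({x} : Set X) := by
      refine eq_of_le_of_card_ge hAC ?_
      obtain ⟨j, hj⟩ := IsPGroup.iff_card.1 (h.pgrp.to_subgroup A)
      rw [hj, h.cent]
      refine Nat.pow_le_pow_right hp.out.pos ?_
      by_contra hj2
      have e := eq_of_le_of_card_ge (le_sup_right : _ ≤ A) (by
        rw [hj, h.cardL (n - 2) (by omega), show n - 1 - (n - 2) = 1 by omega]
        exact Nat.pow_le_pow_right hp.out.pos (by omega))
      exact h.x_not (L_anti (by omega) (e.symm ▸ mem_sup_left (mem_zpowers x) : x ∈ (⊤ : Subgroup X).lowerCentralSeries (n - 2)))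
    rw [← hAeq] at hcom
    have h5 : b * (b⁻¹ * g) ∈ zpowers x ⊔ (⊤ : Subgroup X).lowerCentralSeries 1 :=
      mul_mem (mem_sup_right hb) ((sup_le_sup_left (L_anti (show 1 ≤ n - 2 by omega)) _) hcom)
    rwa [mul_inv_cancel_left] at h5
  have hak : ∀ k, 1 ≤ k → k ≤ p → a k ∉ (⊤ : Subgroup X).lowerCentralSeries (k + 1) := by
    intro k hk
    induction k, hk using Nat.le_induction with
    | base => exact fun _ => ha1
    | succ k hk ih => exact fun hk' => h.exact hk (by omega) (ha k) (ih (by omega))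
  -- the sequences
  set π := QuotientGroup.mk' N
  let H : ℕ → Subgroup (X ⧸ N) := fun i => ((⊤ : Subgroup X).lowerCentralSeries i).map π
  let H' : ℕ → Subgroup (X ⧸ N) := fun i => H (if i < p then i else i + 1)
  have hcommH : ∀ i j, ⁅H i, H j⁆ ≤ H (i + j + 1) := fun i j => by
    rw [← map_commutator]
    exact map_mono (PolySeq.lcs_commutator_le j i)
  have hHanti : Antitone H := fun i j hij => map_mono (L_anti hij)
  have hfilt : PolySeq.Filt H := ⟨hHanti, fun i j => (hcommH i j).trans (hHanti (Nat.le_succ _))⟩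
  have hfilt' : PolySeq.Filt H' := ⟨fun i j hij => hHanti (by split_ifs <;> omega),
    fun i j => (hcommH _ _).trans (hHanti (by split_ifs <;> omega))⟩
  have hconj : ∀ k i (v : X), v ∈ (⊤ : Subgroup X).lowerCentralSeries i →
      PolySeq.Poly H k i fun m => π (x ^ m * v * (x ^ m)⁻¹) := by
    intro k
    induction k with
    | zero => exact fun i v hv m => mem_map_of_mem _ (Subgroup.Normal.conj_mem inferInstance v hv _)
    | succ k ih =>
      intro i v hv
      refine ⟨ih i v hv, ?_⟩
      rw [show PolySeq.diff (fun m => π (x ^ m * v * (x ^ m)⁻¹)) =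
        fun m => π (x ^ m * ⁅x, v⁆ * (x ^ m)⁻¹) from funext fun m => by
          simp only [PolySeq.diff, ← map_inv, ← map_mul]
          congr 1
          rw [commutatorElement_def, pow_succ]
          group]
      exact ih (i + 1) _ (L_comm_x hv x)
  let gs : ℕ → X ⧸ N := fun m => π (x ^ m * g * (x ^ m)⁻¹) * (π g)⁻¹
  have hconst : ∀ {H : ℕ → Subgroup (X ⧸ N)}, PolySeq.Filt H → π g ∈ H 0 →
      ∀ k, PolySeq.Poly H k 0 fun _ : ℕ => π g := fun hH hmem k => by
    simpa using PolySeq.poly_choose hH k 0 0 (π g) hmem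
  have hgmem : π g ∈ H 0 := mem_map_of_mem π (show g ∈ (⊤ : Subgroup X).lowerCentralSeries 0 from Subgroup.mem_top g)
  have hgs : ∀ k, PolySeq.Poly H k 0 gs := fun k =>
    (PolySeq.poly_closed hfilt k).2.1 0 _ _ (hconj k 0 g (Subgroup.mem_top g))
      ((PolySeq.poly_closed hfilt k).2.2.1 0 _ (hconst hfilt hgmem k))
  have hKexp : ∀ c ∈ H 1, c ^ p = 1 := by
    rintro _ ⟨c, hc, rfl⟩
    rw [← map_pow]
    exact (QuotientGroup.eq_one_iff _).2 (hall c hc)
  have hperiod : ∀ (c : X ⧸ N), c ^ p = 1 → ∀ m, m < p → ∀ t,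
      c ^ (t + p).choose m = c ^ t.choose m := by
    intro c hc m
    induction m with
    | zero => simp
    | succ m ih =>
      intro hm t
      induction t with
      | zero =>
        obtain ⟨r, hr⟩ := hp.out.dvd_choose_self (Nat.succ_ne_zero m) hm
        rw [zero_add, hr, pow_mul, hc, one_pow, Nat.choose_zero_succ, pow_zero]
      | succ t iht =>
        rw [show t + 1 + p = t + p + 1 by omega, Nat.choose_succ_succ, Nat.choose_succ_succ, pow_add,
          pow_add, ih (by omega), iht]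
  have hclaim : ∀ d m (f : ℕ → X ⧸ N), m + d = p → (∀ k, PolySeq.Poly H k 0 f) →
      (∀ t < m, f t = 1) → (∀ t, f t ∈ H 1) → (∀ t, f (t + p) = f t) →
      ∀ k, PolySeq.Poly H' k 0 f := by
    intro d
    induction d with
    | zero =>
      intro m f hm _ hv _ hper k
      obtain rfl : m = p := by omega
      have hone : f = 1 := funext fun t => by
        induction t using Nat.strong_induction_on with
        | _ t iht =>
          rcases Nat.lt_or_ge t m with ht | ht
          · exact hv t ht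
          · have h6 := hper (t - m)
            rw [Nat.sub_add_cancel ht] at h6
            rw [h6]
            exact iht (t - m) (by omega)
      rw [hone]
      exact (PolySeq.poly_closed hfilt' k).1 0
    | succ d ih =>
      intro m f hm hf hv hf1 hper k
      have hg' : f m ∈ H (0 + m) := PolySeq.mem_of_vanish hfilt m 0 m f (hf m) le_rfl hv
      let e : ℕ → X ⧸ N := fun t => f m ^ t.choose m
      have hstep := ih (m + 1) (f * e⁻¹) (by omega)
        (fun k => (PolySeq.poly_closed hfilt k).2.1 0 _ _ (hf k)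
          ((PolySeq.poly_closed hfilt k).2.2.1 0 _ (PolySeq.poly_choose hfilt k 0 m _ hg')))
        (fun t ht => by
          rcases Nat.lt_or_ge t m with ht' | ht'
          · simp [e, hv t ht', Nat.choose_eq_zero_of_lt ht']
          · obtain rfl : t = m := by omega
            simp [e])
        (fun t => mul_mem (hf1 t) (inv_mem (_root_.pow_mem (hf1 m) _)))
        (fun t => by simp only [e, Pi.mul_apply, Pi.inv_apply, hper t, hperiod _ (hKexp _ (hf1 m)) m (by omega)])
        k
      have he' : PolySeq.Poly H' k 0 e := PolySeq.poly_choose hfilt' k 0 m _ (by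
        show f m ∈ H (if 0 + m < p then 0 + m else 0 + m + 1)
        rw [if_pos (by omega)]; exact hg')
      have h6 := (PolySeq.poly_closed hfilt' k).2.1 0 _ _ hstep he'
      rwa [inv_mul_cancel_right] at h6
  have hgs' := hclaim p 0 gs (zero_add p) hgs (fun t ht => absurd ht (by omega))
    (fun t => by
      refine ⟨⁅x ^ t, g⁆, L_comm_x (Subgroup.mem_top g : g ∈ (⊤ : Subgroup X).lowerCentralSeries 0) _, ?_⟩
      simp only [gs, ← map_inv, ← map_mul]
      rw [commutatorElement_def])
    (fun t => by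
      simp only [gs]
      congr 2
      rw [pow_add, mul_inv_rev, mul_assoc (x ^ t) (x ^ p) g, ← (h.x_pow_central g).eq]
      group)
  have hc0 : PolySeq.Poly H' p 0 fun m => π (x ^ m * g * (x ^ m)⁻¹) := by
    have h6 := (PolySeq.poly_closed hfilt' p).2.1 0 _ _ (hgs' p)
      (hconst hfilt' (by
        show π g ∈ H (if 0 < p then 0 else 0 + 1)
        rw [if_pos hp.out.pos]; exact hgmem) p)
    rwa [show gs * (fun _ : ℕ => π g) = fun m => π (x ^ m * g * (x ^ m)⁻¹) from funext fun m => by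
      simp [gs]] at h6
  have hiter : ∀ k j, k ≤ p → j + k = p →
      PolySeq.Poly H' k j (fun m => π (x ^ m * a j * (x ^ m)⁻¹)) → π (a p) ∈ H' p := by
    intro k
    induction k with
    | zero =>
      intro j _ hj hP
      obtain rfl : j = p := by omega
      simpa using hP 0
    | succ k ih =>
      intro j hk hj hP
      refine ih (j + 1) (by omega) (by omega) ?_
      have hP2 := hP.2
      rwa [show PolySeq.diff (fun m => π (x ^ m * a j * (x ^ m)⁻¹)) =
        fun m => π (x ^ m * a (j + 1) * (x ^ m)⁻¹) from funext fun m => by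
          simp only [PolySeq.diff, ← map_inv, ← map_mul]
          congr 1
          show _ = x ^ m * ⁅x, a j⁆ * (x ^ m)⁻¹
          rw [commutatorElement_def, pow_succ]
          group] at hP2
  have hfin := hiter p 0 le_rfl (zero_add p) hc0
  refine hak p (by omega) le_rfl ?_
  simp only [H', H, lt_irrefl, if_false] at hfin
  obtain ⟨c, hc, hca⟩ := hfin
  have h7 : (c : X)⁻¹ * a p ∈ N := QuotientGroup.eq.1 hca
  have h8 := mul_mem (show c ∈ N from hc) h7
  rwa [mul_inv_cancel_left] at h8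

/-- The `p`-th power map shifts degrees by exactly `p - 1`. -/
theorem MX.pow_exact (hp3 : 3 ≤ p) : ∀ i, 1 ≤ i → i + p - 1 ≤ n - 2 →
    ∀ u ∈ (⊤ : Subgroup X).lowerCentralSeries i, u ∉ (⊤ : Subgroup X).lowerCentralSeries (i + 1) →
    u ^ p ∉ (⊤ : Subgroup X).lowerCentralSeries (i + p) := by
  intro i hi
  induction i, hi using Nat.le_induction with
  | base =>
    intro hn u hu hu'
    rw [show 1 + p = p + 1 by omega]
    exact h.anchor hp3 (by omega) hu hu'
  | succ i hi ih =>
    intro hn w hw hw' hcon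
    obtain ⟨v, hv, hvw⟩ := h.surj hi hw
    have hv' : v ∉ (⊤ : Subgroup X).lowerCentralSeries (i + 1) := fun hc =>
      hw' (hvw ▸ L_comm_x hc x)
    have hvp : v ^ p ∈ (⊤ : Subgroup X).lowerCentralSeries (i + p - 1) :=
      L_anti (by omega) (h.pow_mem i hi v hv).1
    have hvp' : v ^ p ∉ (⊤ : Subgroup X).lowerCentralSeries (i + p - 1 + 1) := by
      rw [show i + p - 1 + 1 = i + p by omega]
      exact ih (by omega) v hv hv'
    refine h.exact (show 1 ≤ i + p - 1 by omega) (by omega) hvp hvp' ?_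
    have e : (w * v) ^ p = x * v ^ p * x⁻¹ := by
      rw [← hvw, commutatorElement_def, show x * v * x⁻¹ * v⁻¹ * v = x * v * x⁻¹ by group, conj_pow]
    have h5 : 2 * (p - 1) ≤ (i + 1) * (p - 1) := Nat.mul_le_mul_right _ (by omega)
    have h3 := pow_congr (p := p) ((⊤ : Subgroup X).lowerCentralSeries i)
      ((⊤ : Subgroup X).lowerCentralSeries (i + p - 1 + 2))
      ((lcs_L i (p - 1)).trans (L_anti (by omega)))
      (fun c hc => L_anti (by omega) ((h.pow_mem (i + i + 1) (by omega) c
        (PolySeq.lcs_commutator_le i i hc)).2 (by omega)))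
      (L_anti (Nat.le_succ i) hw) hv
    rw [e] at h3
    have h4 := mul_mem (show w ^ p ∈ (⊤ : Subgroup X).lowerCentralSeries (i + p - 1 + 2) from
      L_anti (by omega) hcon) (Subgroup.Normal.conj_mem inferInstance _ h3 (v ^ p))
    rwa [show w ^ p * (v ^ p * ((w ^ p * v ^ p)⁻¹ * (x * v ^ p * x⁻¹)) * (v ^ p)⁻¹) = ⁅x, v ^ p⁆ by
      rw [commutatorElement_def]; group] at h4

theorem MX.cover {K : Subgroup X} {i : ℕ} (h1 : 1 ≤ i) {t u : X} (htK : t ∈ K)
    (ht : t ∈ (⊤ : Subgroup X).lowerCentralSeries i) (ht' : t ∉ (⊤ : Subgroup X).lowerCentralSeries (i + 1))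
    {H : Subgroup X} (hKH : K ≤ H) (hrest : H ⊓ (⊤ : Subgroup X).lowerCentralSeries (i + 1) ≤ K)
    (hu : u ∈ H ⊓ (⊤ : Subgroup X).lowerCentralSeries i) : u ∈ K := by
  obtain ⟨k, d, hd, rfl⟩ := h.decomp h1 ht ht' hu.2
  have hdH : d ∈ H := by
    have h2 := mul_mem (inv_mem (zpow_mem (hKH htK) k)) hu.1
    rwa [inv_mul_cancel_left] at h2
  exact mul_mem (zpow_mem htK k) (hrest ⟨hdH, hd⟩)

/-- The part of a subgroup in the derived subgroup needs `p - 1` generators. -/
theorem MX.gens_derived (hp3 : 3 ≤ p) (H : Subgroup X) : ∃ T : Finset X, T.card ≤ p - 1 ∧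
    (T : Set X) ⊆ H ∧ H ⊓ (⊤ : Subgroup X).lowerCentralSeries 1 ≤ closure (T : Set X) := by
  classical
  let occ : ℕ → Prop := fun i => 1 ≤ i ∧ i ≤ n - 2 ∧ ∃ t ∈ H, t ∈ (⊤ : Subgroup X).lowerCentralSeries i ∧
    t ∉ (⊤ : Subgroup X).lowerCentralSeries (i + 1)
  have hrep : ∀ r : Fin (p - 1), ∃ t : X, t ∈ H ∧ ∀ i, occ i → i % (p - 1) = (r : ℕ) →
      ∃ i₀, occ i₀ ∧ i₀ ≤ i ∧ i₀ % (p - 1) = (r : ℕ) ∧ t ∈ (⊤ : Subgroup X).lowerCentralSeries i₀ ∧
        t ∉ (⊤ : Subgroup X).lowerCentralSeries (i₀ + 1) := by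
    intro r
    by_cases he : ∃ i, occ i ∧ i % (p - 1) = (r : ℕ)
    · obtain ⟨⟨h1, h2, t, htH, ht, ht'⟩, hr⟩ := Nat.find_spec he
      exact ⟨t, htH, fun i hi hir => ⟨Nat.find he, ⟨h1, h2, t, htH, ht, ht'⟩,
        Nat.find_min' he ⟨hi, hir⟩, hr, ht, ht'⟩⟩
    · push Not at he
      exact ⟨1, one_mem H, fun i hi hir => absurd hir (he i hi)⟩
  choose t htH htspec using hrep
  refine ⟨Finset.univ.image t, Finset.card_image_le.trans (by simp), by
    simp only [Finset.coe_image, Finset.coe_univ, Set.image_univ]; rintro _ ⟨r, rfl⟩; exact htH r, ?_⟩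
  set K := closure ((Finset.univ.image t : Finset X) : Set X) with hK
  have hKH : K ≤ H := (closure_le _).2 (by
    simp only [Finset.coe_image, Finset.coe_univ, Set.image_univ]; rintro _ ⟨r, rfl⟩; exact htH r)
  -- every occurring degree occurs in `K`
  have hocc : ∀ i, occ i → ∃ s ∈ K, s ∈ (⊤ : Subgroup X).lowerCentralSeries i ∧
      s ∉ (⊤ : Subgroup X).lowerCentralSeries (i + 1) := by
    intro i hi
    obtain ⟨r, hr⟩ : ∃ r : Fin (p - 1), i % (p - 1) = (r : ℕ) :=
      ⟨⟨i % (p - 1), Nat.mod_lt _ (by omega)⟩, rfl⟩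
    obtain ⟨i₀, ⟨h01, -, -⟩, hle, hmod, ht, ht'⟩ := htspec r i hi hr
    obtain ⟨k, hk⟩ : ∃ k, i = i₀ + (p - 1) * k := by
      obtain ⟨k, hk⟩ := (Nat.modEq_iff_dvd' hle).1 (show i₀ % (p - 1) = i % (p - 1) from hmod.trans hr.symm)
      exact ⟨k, by omega⟩
    subst hk
    have hib := hi.2.1
    clear hi hle hmod hr
    induction k with
    | zero =>
      refine ⟨t r, subset_closure (Finset.mem_coe.2 (Finset.mem_image_of_mem t (Finset.mem_univ r))), ?_, ?_⟩
      · simpa using ht
      · simpa using ht'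
    | succ k ih =>
      rw [Nat.mul_succ] at hib
      obtain ⟨s, hsK, hs, hs'⟩ := ih (by omega)
      refine ⟨s ^ p, _root_.pow_mem hsK p, ?_, ?_⟩
      · rw [Nat.mul_succ]
        exact L_anti (by omega) (h.pow_mem _ (by omega) s hs).1
      · rw [Nat.mul_succ, show i₀ + ((p - 1) * k + (p - 1)) + 1 = i₀ + (p - 1) * k + p by omega]
        exact h.pow_exact hp3 _ (by omega) (by omega) s hs hs'
  have hcov : ∀ d i, n ≤ i + d → 1 ≤ i → H ⊓ (⊤ : Subgroup X).lowerCentralSeries i ≤ K := by
    intro d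
    induction d with
    | zero =>
      intro i hd h1 u hu
      have hu2 : u ∈ (⊤ : Subgroup X).lowerCentralSeries i := hu.2
      rw [h.eq_bot (by omega), mem_bot] at hu2
      rw [hu2]
      exact one_mem K
    | succ d ih =>
      intro i hd h1 u hu
      have hrest := ih (i + 1) (by omega) (by omega)
      by_cases hu' : u ∈ (⊤ : Subgroup X).lowerCentralSeries (i + 1)
      · exact hrest ⟨hu.1, hu'⟩
      have hin : i ≤ n - 2 := by
        by_contra hne
        have hu2 : u ∈ (⊤ : Subgroup X).lowerCentralSeries i := hu.2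
        rw [h.eq_bot (by omega), mem_bot] at hu2
        exact hu' (hu2 ▸ one_mem _)
      obtain ⟨s, hsK, hs, hs'⟩ := hocc i ⟨h1, hin, u, hu.1, hu.2, hu'⟩
      exact h.cover h1 hsK hs hs' hKH hrest hu
  exact hcov n 1 (by omega) le_rfl

/-- Every subgroup is generated by at most `p` elements. -/
theorem MX.gens (hp3 : 3 ≤ p) (H : Subgroup X) : ∃ T : Finset X, T.card ≤ p ∧ closure (T : Set X) = H := by
  classical
  have := h.three
  set N := (⊤ : Subgroup X).lowerCentralSeries 1 with hN
  obtain ⟨T, hT, hTH, hcov⟩ := h.gens_derived hp3 H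
  by_cases hHN : H ≤ N
  · exact ⟨T, by omega, le_antisymm ((closure_le _).2 hTH) fun u hu => hcov ⟨hu, hHN hu⟩⟩
  obtain ⟨u, huH, huN⟩ := SetLike.not_le_iff_exists.1 hHN
  by_cases hHU : H ≤ zpowers u ⊔ N
  · refine ⟨insert u T, (Finset.card_insert_le _ _).trans (by omega), le_antisymm ((closure_le _).2 ?_) ?_⟩
    · rw [Finset.coe_insert]
      exact Set.insert_subset huH hTH
    intro v hv
    obtain ⟨a, ha, b, hb, rfl⟩ := mem_sup_of_normal_right.1 (hHU hv)
    obtain ⟨k, rfl⟩ := mem_zpowers_iff.1 ha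
    have hbH : b ∈ H := by
      have h2 := mul_mem (inv_mem (zpow_mem huH k)) hv
      rwa [inv_mul_cancel_left] at h2
    refine mul_mem (zpow_mem (subset_closure (by simp)) k) (closure_mono ?_ (hcov ⟨hbH, hb⟩))
    rw [Finset.coe_insert]; exact Set.subset_insert _ _
  · obtain ⟨v, hvH, hvU⟩ := SetLike.not_le_iff_exists.1 hHU
    have hp1 := h.pgrp.isNilpotent
    set A := closure ({u, v} : Set X)
    have hAN : A ⊔ N = ⊤ := by
      obtain ⟨j, hj⟩ := IsPGroup.iff_card.1 (h.pgrp.to_subgroup (zpowers u ⊔ N))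
      obtain ⟨l, hl⟩ := IsPGroup.iff_card.1 (h.pgrp.to_subgroup (A ⊔ N))
      have hsub : zpowers u ⊔ N ≤ A ⊔ N :=
        sup_le_sup_right (zpowers_le.2 (subset_closure (by simp))) N
      have h1 : n - 2 < j := by
        by_contra hle'
        have hc := h.cardL 1 le_rfl
        exact huN ((eq_of_le_of_card_ge (le_sup_right : N ≤ zpowers u ⊔ N) (by
          rw [hj, hN, hc]; exact Nat.pow_le_pow_right hp.out.pos (by omega))).symm ▸
          mem_sup_left (mem_zpowers u))
      have h2 : j < l := by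
        by_contra hle'
        exact hvU ((eq_of_le_of_card_ge hsub (by rw [hj, hl]; exact Nat.pow_le_pow_right hp.out.pos (by omega))).symm ▸
          mem_sup_left (subset_closure (by simp)))
      exact eq_top_of_card_eq _ (le_antisymm (card_le_card_group _) (by
        rw [hl, h.cardX]; exact Nat.pow_le_pow_right hp.out.pos (by omega)))
    have hAtop : A = ⊤ := Core.eq_top_of_sup_frattini Core.commutator_le_frattini hAN
    refine ⟨{u, v}, Finset.card_le_two.trans (by omega), ?_⟩
    rw [Finset.coe_insert, Finset.coe_singleton]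
    exact le_antisymm ((closure_le _).2 (by rintro y (rfl | rfl) <;> assumption)) (le_top.trans hAtop.ge)

end Cfsg.Agent.MaxClass.Graded
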