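import Cfsg.Agent.MaxClass.Pearl

/-!
Powers in `p`-groups of maximal class, without a self-centralizing element: low terms of the lower
central series contain all `p`-th powers, and the middle section is elementary abelian.
-/

set_option autoImplicit false

namespace Cfsg.Agent.MaxClass.PowMax

open Subgroup
open scoped commutatorElement
open Cfsg.Agent.MaxClass.Graded (L_anti L_comm L_comm_x lcs_L pow_congr)

variable {X : Type*} [Group X] {p n : ℕ} [hp : Fact p.Prime]

theorem lcs_card [Finite X] (hn : Nat.card X = p ^ n) (h3 : 3 ≤ n)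
    (hcl : Group.nilpotencyClass X = n - 1) (i : ℕ) (hi : 1 ≤ i) :
    Nat.card ↥((⊤ : Subgroup X).lowerCentralSeries i) = p ^ (n - 1 - i) := by
  have hX : IsPGroup p X := IsPGroup.of_card hn
  have := hX.isNilpotent
  have hpp := hp.out
  have hbot : (⊤ : Subgroup X).lowerCentralSeries (n - 1) = ⊥ :=
    Subgroup.lowerCentralSeries_eq_bot_iff_nilpotencyClass_le.2 hcl.le
  have hne : ∀ i ≤ n - 2, (⊤ : Subgroup X).lowerCentralSeries i ≠ ⊥ := fun i hi hb => by
    have := Subgroup.lowerCentralSeries_eq_bot_iff_nilpotencyClass_le.1 hb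
    omega
  have hlow : ∀ d, d ≤ n - 2 → p ^ (d + 1) ≤ Nat.card ↥((⊤ : Subgroup X).lowerCentralSeries (n - 2 - d)) := by
    intro d
    induction d with
    | zero =>
      intro _
      obtain ⟨j, hj⟩ := IsPGroup.iff_card.1 (hX.to_subgroup ((⊤ : Subgroup X).lowerCentralSeries (n - 2)))
      rw [Nat.sub_zero, hj]
      refine Nat.pow_le_pow_right hpp.pos (Nat.succ_le_of_lt (Nat.pos_of_ne_zero fun h0 => ?_))
      rw [h0, pow_zero] at hj
      exact hne _ le_rfl (card_eq_one.1 hj)
    | succ d ih =>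
      intro hd
      have h1 := lcs_step hX (n - 2 - (d + 1)) (hne _ (by omega))
      rw [show n - 2 - (d + 1) + 1 = n - 2 - d by omega] at h1
      rw [pow_succ']
      exact le_trans (Nat.mul_le_mul_left p (ih (by omega))) h1
  have hhigh : ∀ i, 1 ≤ i → i ≤ n - 1 → Nat.card ↥((⊤ : Subgroup X).lowerCentralSeries i) ≤ p ^ (n - 1 - i) := by
    intro i hi
    induction i, hi using Nat.le_induction with
    | base =>
      intro _
      have h1 := sq_dvd_index_commutator hX (hne 1 (by omega))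
      have h2 := (_root_.commutator X).card_mul_index
      rw [hn, show n = n - 1 - 1 + 2 by omega, pow_add] at h2
      have h4 : Nat.card (_root_.commutator X) * p ^ 2 ≤ p ^ (n - 1 - 1) * p ^ 2 := by
        rw [← h2]
        exact Nat.mul_le_mul_left _ (Nat.le_of_dvd (Nat.pos_of_ne_zero index_ne_zero_of_finite) h1)
      exact Nat.le_of_mul_le_mul_right h4 (pow_pos hpp.pos 2)
    | succ i hi ih =>
      intro hi'
      have h1 := lcs_step hX i (hne i (by omega))
      have h2 := h1.trans (ih (by omega))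
      rw [show n - 1 - i = n - 1 - (i + 1) + 1 by omega, pow_succ'] at h2
      exact Nat.le_of_mul_le_mul_left h2 hpp.pos
  rcases le_or_gt (n - 1) i with hi' | hi'
  · rw [show n - 1 - i = 0 by omega, pow_zero]
    exact card_eq_one.2 (le_bot_iff.1 ((Subgroup.lowerCentralSeries_antitone _ hi').trans hbot.le))
  · refine le_antisymm (hhigh i hi hi'.le) ?_
    have := hlow (n - 2 - i) (by omega)
    rwa [show n - 2 - (n - 2 - i) = i by omega, show n - 2 - i + 1 = n - 1 - i by omega] at this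

/-- A factor of order `p` is generated by any element outside the next term. -/
theorem layer_le [Finite X] (hn : Nat.card X = p ^ n) (h3 : 3 ≤ n)
    (hcl : Group.nilpotencyClass X = n - 1) {i : ℕ} (hi : 1 ≤ i) {v : X}
    (hv : v ∈ (⊤ : Subgroup X).lowerCentralSeries i)
    (hv' : v ∉ (⊤ : Subgroup X).lowerCentralSeries (i + 1)) :
    (⊤ : Subgroup X).lowerCentralSeries i ≤ zpowers v ⊔ (⊤ : Subgroup X).lowerCentralSeries (i + 1) := by
  set A := zpowers v ⊔ (⊤ : Subgroup X).lowerCentralSeries (i + 1) with hA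
  have hle : A ≤ (⊤ : Subgroup X).lowerCentralSeries i := sup_le (zpowers_le.2 hv) (L_anti (Nat.le_succ i))
  obtain ⟨j, hj⟩ := IsPGroup.iff_card.1 ((IsPGroup.of_card hn).to_subgroup A)
  have hlt : p ^ (n - 1 - (i + 1)) < p ^ j := by
    rw [← lcs_card hn h3 hcl (i + 1) (by omega), ← hj]
    by_contra hle'
    exact hv' ((eq_of_le_of_card_ge (le_sup_right : _ ≤ A) (not_lt.1 hle')).symm ▸
      mem_sup_left (mem_zpowers v) : v ∈ _)
  have hlt' := (Nat.pow_lt_pow_iff_right hp.out.one_lt).1 hlt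
  exact (eq_of_le_of_card_ge hle (by
    rw [hj, lcs_card hn h3 hcl i hi]; exact Nat.pow_le_pow_right hp.out.pos (by omega))).ge

theorem commute_mk {N : Subgroup X} [N.Normal] {a b : X} (h : ⁅a, b⁆ ∈ N) :
    Commute (a : X ⧸ N) (b : X ⧸ N) :=
  commutatorElement_eq_one_iff_mul_comm.1
    ((map_commutatorElement (QuotientGroup.mk' N) a b).symm.trans ((QuotientGroup.eq_one_iff _).2 h))

theorem mem_of_commute_mk {N : Subgroup X} [N.Normal] {a b : X}
    (h : Commute (a : X ⧸ N) (b : X ⧸ N)) : ⁅a, b⁆ ∈ N :=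
  (QuotientGroup.eq_one_iff _).1
    ((map_commutatorElement (QuotientGroup.mk' N) a b).trans (commutatorElement_eq_one_iff_mul_comm.2 h))

/-- `⟨g⟩ Lᵢ` has derived group in `Lᵢ₊₁`. -/
theorem cyc_sup_comm (g : X) (i : ℕ) :
    ⁅zpowers g ⊔ (⊤ : Subgroup X).lowerCentralSeries i, zpowers g ⊔ (⊤ : Subgroup X).lowerCentralSeries i⁆ ≤
      (⊤ : Subgroup X).lowerCentralSeries (i + 1) := by
  rw [commutator_le]
  intro a ha b hb
  obtain ⟨a', ha', l, hl, rfl⟩ := mem_sup_of_normal_right.1 ha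
  obtain ⟨b', hb', l', hl', rfl⟩ := mem_sup_of_normal_right.1 hb
  obtain ⟨k, rfl⟩ := mem_zpowers_iff.1 ha'
  obtain ⟨k', rfl⟩ := mem_zpowers_iff.1 hb'
  refine mem_of_commute_mk ?_
  have hc : ∀ (z : X), ∀ l ∈ (⊤ : Subgroup X).lowerCentralSeries i,
      Commute (z : X ⧸ (⊤ : Subgroup X).lowerCentralSeries (i + 1)) (l : X ⧸ _) :=
    fun z l hl => commute_mk (L_comm_x hl z)
  rw [QuotientGroup.mk_mul, QuotientGroup.mk_mul, QuotientGroup.mk_zpow, QuotientGroup.mk_zpow]
  refine Commute.mul_right (Commute.mul_left ((Commute.refl _).zpow_zpow k k') ?_) ?_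
  · exact ((hc g l hl).zpow_left k').symm
  · exact Commute.mul_left ((hc g l' hl').zpow_left k) (hc l l' hl')

/-- If all `p`-th powers lie in `L_s`, then `p`-th powers from `L_i` fall into `L_r`, for `r` at most
`s + i` and `i + p - 1`, provided this holds one step further down. -/
theorem pow_down {r s i : ℕ} (hi : 1 ≤ i) (hs : ∀ g : X, g ^ p ∈ (⊤ : Subgroup X).lowerCentralSeries s)
    (hsi : r ≤ s + i) (hip : r ≤ i + p - 1)
    (hnext : ∀ c ∈ (⊤ : Subgroup X).lowerCentralSeries (i + 1), c ^ p ∈ (⊤ : Subgroup X).lowerCentralSeries r) :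
    ∀ c ∈ (⊤ : Subgroup X).lowerCentralSeries i, c ^ p ∈ (⊤ : Subgroup X).lowerCentralSeries r := by
  obtain ⟨j, rfl⟩ : ∃ j, i = j + 1 := ⟨i - 1, by omega⟩
  have hp2 := hp.out.two_le
  set N := (⊤ : Subgroup X).lowerCentralSeries r with hN
  set Li := (⊤ : Subgroup X).lowerCentralSeries (j + 1) with hLi
  let S : Subgroup X :=
    { carrier := {c | c ∈ Li ∧ c ^ p ∈ N}
      mul_mem' := fun {a b} ha hb => by
        refine ⟨mul_mem ha.1 hb.1, ?_⟩
        have h := pow_congr (p := p) Li N ((lcs_L (j + 1) (p - 1)).trans (L_anti (by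
            have := Nat.le_mul_of_pos_left (p - 1) (show 0 < j + 1 + 1 by omega)
            omega)))
          (fun c hc => hnext c (L_anti (by omega) (Cfsg.Agent.Regular.PolySeq.lcs_commutator_le (j + 1) (j + 1) hc)))
          ha.1 hb.1
        have h2 := mul_mem (mul_mem ha.2 hb.2) h
        rwa [mul_inv_cancel_left] at h2
      one_mem' := ⟨one_mem _, by rw [one_pow]; exact one_mem _⟩
      inv_mem' := fun {a} ha => ⟨inv_mem ha.1, by rw [inv_pow]; exact inv_mem ha.2⟩ }
  suffices hle : ⁅(⊤ : Subgroup X).lowerCentralSeries j, (⊤ : Subgroup X)⁆ ≤ S from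
    fun c hc => (hle hc).2
  rw [commutator_le]
  intro a ha g _
  have hcL : ⁅a, g⁆ ∈ Li := commutator_mem_commutator ha (mem_top g)
  refine ⟨hcL, ?_⟩
  set K := zpowers g ⊔ Li with hK
  have hKcomm := cyc_sup_comm g (j + 1)
  have hlcs : ∀ k : ℕ, 1 ≤ k → K.lowerCentralSeries k ≤ (⊤ : Subgroup X).lowerCentralSeries (j + 1 + k) := by
    intro k hk
    induction k, hk using Nat.le_induction with
    | base => exact hKcomm
    | succ k hk ih => exact (commutator_mono ih le_top).trans le_rfl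
  have h3 := pow_congr (p := p) K N ((hlcs (p - 1) (by omega)).trans (L_anti (by omega)))
    (fun c hc => hnext c (hKcomm hc)) (mem_sup_right hcL) (mem_sup_left (mem_zpowers g))
  have e : (⁅a, g⁆ * g) ^ p = a * g ^ p * a⁻¹ := by
    rw [← conj_pow]; congr 1; rw [commutatorElement_def]; group
  rw [e] at h3
  have h4 : ⁅a, g ^ p⁆ ∈ N := L_anti (by omega) (L_comm ha (hs g))
  have h5 := mul_mem h4 (Subgroup.Normal.conj_mem inferInstance _ (inv_mem h3) (g ^ p))
  have e2 : ⁅a, g ^ p⁆ * (g ^ p * ((⁅a, g⁆ ^ p * g ^ p)⁻¹ * (a * g ^ p * a⁻¹))⁻¹ * (g ^ p)⁻¹) =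
      ⁅a, g⁆ ^ p := by
    rw [commutatorElement_def a (g ^ p)]; group
  rwa [e2] at h5

theorem pow_all_down {r s i₀ : ℕ} (hi₀ : 1 ≤ i₀)
    (hs : ∀ g : X, g ^ p ∈ (⊤ : Subgroup X).lowerCentralSeries s) (hsi : r ≤ s + i₀)
    (hip : r ≤ i₀ + p - 1) :
    ∀ i, i₀ ≤ i → ∀ c ∈ (⊤ : Subgroup X).lowerCentralSeries i, c ^ p ∈ (⊤ : Subgroup X).lowerCentralSeries r := by
  suffices H : ∀ d i, r ≤ i + d → i₀ ≤ i → ∀ c ∈ (⊤ : Subgroup X).lowerCentralSeries i,
      c ^ p ∈ (⊤ : Subgroup X).lowerCentralSeries r from fun i hi => H r i (by omega) hi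
  intro d
  induction d with
  | zero => exact fun i hd _ c hc => L_anti (by omega) (pow_mem hc p)
  | succ d ih =>
    exact fun i hd hi => pow_down (by omega) hs (by omega) (by omega) (ih (i + 1) (by omega) (by omega))

theorem pow_L1 [Finite X] (hn : Nat.card X = p ^ n) (h3 : 3 ≤ n)
    (hcl : Group.nilpotencyClass X = n - 1) (g : X) : g ^ p ∈ (⊤ : Subgroup X).lowerCentralSeries 1 := by
  set N := (⊤ : Subgroup X).lowerCentralSeries 1
  have hN := lcs_card hn h3 hcl 1 le_rfl
  have h2 := N.card_mul_index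
  rw [hN, hn, show n = n - 1 - 1 + 2 by omega, pow_add,
    show n - 1 - 1 + 2 - 1 - 1 = n - 1 - 1 by omega, index_eq_card] at h2
  have hq : Nat.card (X ⧸ N) = p ^ 2 := Nat.eq_of_mul_eq_mul_left (pow_pos hp.out.pos _) h2
  rw [← QuotientGroup.eq_one_iff, QuotientGroup.mk_pow, ← orderOf_dvd_iff_pow_eq_one]
  obtain ⟨j, hj, hA⟩ := (Nat.dvd_prime_pow hp.out).1 (hq ▸ orderOf_dvd_natCard (g : X ⧸ N))
  rw [hA]
  refine (pow_dvd_pow p (show j ≤ 1 from ?_)).trans (by rw [pow_one])
  by_contra hj1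
  obtain rfl : j = 2 := by omega
  refine not_isCyclic_quotient_commutator (IsPGroup.of_card hn) (fun hb => ?_)
    (isCyclic_of_orderOf_eq_card (g : X ⧸ N) (hA.trans hq.symm))
  rw [show (⊤ : Subgroup X).lowerCentralSeries 1 = ⊥ from hb, card_bot] at hN
  exact (Nat.one_lt_pow (show n - 1 - 1 ≠ 0 by omega) hp.out.one_lt).ne hN

/-- All `p`-th powers lie in `L_m` for `m ≤ p - 1` and `m ≤ n - 2`. -/
theorem pow_mem_lcs [Finite X] (hn : Nat.card X = p ^ n) (h3 : 3 ≤ n)
    (hcl : Group.nilpotencyClass X = n - 1) : ∀ m, 1 ≤ m → m ≤ p - 1 → m + 1 ≤ n - 1 →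
      ∀ g : X, g ^ p ∈ (⊤ : Subgroup X).lowerCentralSeries m := by
  intro m hm
  induction m, hm using Nat.le_induction with
  | base => exact fun _ _ => pow_L1 hn h3 hcl
  | succ m hm ih =>
    intro hmp hmn
    have hs := ih (by omega) (by omega)
    have hA := pow_all_down (r := m + 1) (i₀ := 1) le_rfl hs (by omega) (by omega)
    set N := (⊤ : Subgroup X).lowerCentralSeries (m + 1) with hN
    let P : Subgroup X :=
      { carrier := {g | g ^ p ∈ N}
        mul_mem' := fun {a b} ha hb => by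
          have h := pow_congr (p := p) (⊤ : Subgroup X) N (L_anti (by omega))
            (fun c hc => hA 1 le_rfl c hc) (mem_top a) (mem_top b)
          have h2 := mul_mem (mul_mem ha hb) h
          rwa [mul_inv_cancel_left] at h2
        one_mem' := by simp
        inv_mem' := fun {a} ha => by
          show a⁻¹ ^ p ∈ N
          rw [inv_pow]; exact inv_mem ha }
    set M := (⊤ : Subgroup X).lowerCentralSeries (m + 2) with hM
    let C : Subgroup X := (centralizer
      (((⊤ : Subgroup X).lowerCentralSeries m).map (QuotientGroup.mk' M) : Set (X ⧸ M))).comap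
      (QuotientGroup.mk' M)
    have hC : ∀ g, g ∉ C → g ∈ P := by
      intro g hg
      by_contra hgP
      refine hg (mem_comap.2 (mem_centralizer_iff.2 ?_))
      rintro _ ⟨v, hv, rfl⟩
      obtain ⟨u, hu, d, hd, rfl⟩ :=
        mem_sup_of_normal_right.1 (layer_le hn h3 hcl hm (hs g) hgP hv)
      obtain ⟨k, rfl⟩ := mem_zpowers_iff.1 hu
      rw [map_mul, map_zpow, map_pow]
      exact Commute.eq (Commute.mul_left
        (((Commute.refl ((g : X ⧸ M))).pow_left p).zpow_left k)
        (commute_mk (N := M) (L_comm_x hd g)).symm)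
    obtain ⟨h, hh⟩ : ∃ h, h ∉ C := by
      by_contra hall
      push Not at hall
      have hle : N ≤ M := by
        rw [hN]
        show ⁅(⊤ : Subgroup X).lowerCentralSeries m, (⊤ : Subgroup X)⁆ ≤ M
        rw [commutator_le]
        intro v hv g _
        exact mem_of_commute_mk (mem_centralizer_iff.1 (mem_comap.1 (hall g)) _ (mem_map_of_mem _ hv))
      have h4 := card_le_of_le hle
      rw [hN, hM, lcs_card hn h3 hcl _ (by omega), lcs_card hn h3 hcl _ (by omega)] at h4
      have := (Nat.pow_le_pow_iff_right hp.out.one_lt).1 h4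
      omega
    intro g
    by_cases hg : g ∈ C
    · exact show g ∈ P from (mul_mem_cancel_right (hC h hh)).1 (hC (g * h) fun hgh => hh ((mul_mem_cancel_left hg).1 hgh))
    · exact hC g hg

/-- A large elementary abelian section between two terms of the series. -/
theorem section_false [Finite X] (hn : Nat.card X = p ^ n) {k : ℕ} (hk : Cfsg.SectionalPRankLE p k X)
    {H M : Subgroup X} [M.Normal] (hMH : M ≤ H) (hcomm : ⁅H, H⁆ ≤ M) (hpow : ∀ c ∈ H, c ^ p ∈ M)
    (hcard : p ^ (k + 1) * Nat.card M ≤ Nat.card H) : False := by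
  have hab : IsMulCommutative (⊤ : Subgroup (↥H ⧸ M.subgroupOf H)) := by
    refine ⟨⟨fun a b => Subtype.ext ?_⟩⟩
    obtain ⟨x, hx⟩ := QuotientGroup.mk'_surjective (M.subgroupOf H) a.1
    obtain ⟨y, hy⟩ := QuotientGroup.mk'_surjective (M.subgroupOf H) b.1
    simp only [Subgroup.coe_mul, ← hx, ← hy]
    exact (commute_mk (N := M.subgroupOf H) (mem_subgroupOf.2 (hcomm (commutator_mem_commutator x.2 y.2)))).eq
  have h1 := hk H (M.subgroupOf H) ⊤ hab (fun a _ => by
    obtain ⟨x, rfl⟩ := QuotientGroup.mk'_surjective (M.subgroupOf H) a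
    rw [← map_pow]
    exact (QuotientGroup.eq_one_iff _).2 (mem_subgroupOf.2 (hpow x x.2)))
  rw [card_top, ← index_eq_card] at h1
  have h2 := (M.subgroupOf H).card_mul_index
  rw [Nat.card_congr (subgroupOfEquivOfLe hMH).toEquiv] at h2
  have h3 : p ^ (k + 1) * Nat.card M ≤ p ^ k * Nat.card M := by
    refine hcard.trans ?_
    rw [← h2, mul_comm]
    exact Nat.mul_le_mul_right _ h1
  have h4 := Nat.le_of_mul_le_mul_right h3 Nat.card_pos
  have := (Nat.pow_le_pow_iff_right hp.out.one_lt).1 h4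
  omega

theorem order_bound [Finite X] (hn : Nat.card X = p ^ n) (hcl : Group.nilpotencyClass X = n - 1) {k : ℕ}
    (hk : 1 ≤ k) (hsr : Cfsg.SectionalPRankLE p k X) (hpk : k + 2 ≤ p) : n ≤ 2 * k := by
  by_contra hlt
  have h3 : 3 ≤ n := by omega
  obtain rfl | hk2 : k = 1 ∨ 2 ≤ k := by omega
  · refine section_false hn hsr (H := ⊤) (M := (⊤ : Subgroup X).lowerCentralSeries 1) le_top le_rfl
      (fun c _ => pow_L1 hn h3 hcl c) ?_
    rw [card_top, hn, lcs_card hn h3 hcl 1 le_rfl, ← pow_add]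
    exact Nat.pow_le_pow_right hp.out.pos (by omega)
  have hs := pow_mem_lcs hn h3 hcl (k + 1) (by omega) (by omega) (by omega)
  have hA := pow_all_down (r := 2 * k) (i₀ := k - 1) (by omega) hs (by omega) (by omega)
  set H := (⊤ : Subgroup X).lowerCentralSeries (k - 1) with hH
  set M := (⊤ : Subgroup X).lowerCentralSeries (2 * k) with hM
  have hcardH := lcs_card hn h3 hcl (k - 1) (by omega)
  have hcardM := lcs_card hn h3 hcl (2 * k) (by omega)
  obtain ⟨v, hv, hv'⟩ : ∃ v ∈ H, v ∉ (⊤ : Subgroup X).lowerCentralSeries k := by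
    by_contra hall
    push Not at hall
    have h4 := card_le_of_le (show H ≤ (⊤ : Subgroup X).lowerCentralSeries k from hall)
    rw [hH, hcardH, lcs_card hn h3 hcl k hk] at h4
    have := (Nat.pow_le_pow_iff_right hp.out.one_lt).1 h4
    omega
  have hgen : H ≤ zpowers v ⊔ (⊤ : Subgroup X).lowerCentralSeries k := by
    have h5 := layer_le hn h3 hcl (i := k - 1) (by omega) hv (by rwa [show k - 1 + 1 = k by omega])
    rwa [show k - 1 + 1 = k by omega] at h5
  refine section_false hn hsr (H := H) (M := M) (L_anti (by omega)) ?_ (hA (k - 1) le_rfl) ?_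
  · rw [commutator_le]
    intro a ha b hb
    have hc : ∀ z ∈ H, ∀ l ∈ (⊤ : Subgroup X).lowerCentralSeries k, Commute (z : X ⧸ M) (l : X ⧸ M) :=
      fun z hz l hl => commute_mk (L_anti (by omega) (L_comm hz hl))
    obtain ⟨a', ha', l, hl, rfl⟩ := mem_sup_of_normal_right.1 (hgen ha)
    obtain ⟨b', hb', l', hl', rfl⟩ := mem_sup_of_normal_right.1 (hgen hb)
    obtain ⟨e, rfl⟩ := mem_zpowers_iff.1 ha'
    obtain ⟨e', rfl⟩ := mem_zpowers_iff.1 hb'
    refine mem_of_commute_mk ?_
    rw [QuotientGroup.mk_mul, QuotientGroup.mk_mul, QuotientGroup.mk_zpow, QuotientGroup.mk_zpow]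
    refine Commute.mul_right (Commute.mul_left ((Commute.refl _).zpow_zpow e e') ?_) ?_
    · exact ((hc v hv l hl).zpow_left e').symm
    · exact Commute.mul_left ((hc v hv l' hl').zpow_left e) (hc l (L_anti (by omega) hl) l' hl')
  · rw [hH, hM, hcardH, hcardM, ← pow_add]
    exact Nat.pow_le_pow_right hp.out.pos (by omega)

end Cfsg.Agent.MaxClass.PowMax
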