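import Mathlib
import Cfsg.Agent.Fusion.PGroup

/-!
An element of a Sylow `p`-subgroup `P` with centraliser of order `p ^ 2` in `P`, lying outside a
normal subgroup that contains `P'`, has centraliser with `p`-part `p ^ 2` in the whole group.
-/

set_option autoImplicit false

namespace Cfsg.Agent.MaxClass.SelfCentFusion

open Subgroup
open scoped commutatorElement

universe u

variable {p : ℕ} [hp : Fact p.Prime]

/-- A normal subgroup of order `p` in a finite `p`-group is central. -/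
theorem le_center_of_card_prime {X : Type*} [Group X] [Finite X] (hX : IsPGroup p X) (Z : Subgroup X)
    [Z.Normal] (hZ : Nat.card Z = p) : Z ≤ center X := by
  have hne : Z ≠ ⊥ := fun e => hp.out.ne_one (by rw [← hZ, e, card_bot])
  have h1 := Fusion.pGroup_inf_center_ne_bot hX Z hne
  rcases (Nat.dvd_prime hp.out).1 (hZ ▸ card_dvd_of_le (inf_le_left : Z ⊓ center X ≤ Z)) with h | h
  · exact absurd (card_eq_one.1 h) h1
  · exact (eq_of_le_of_card_ge (inf_le_left : Z ⊓ center X ≤ Z) (by rw [h, hZ])).ge.trans inf_le_right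

/-- Centralisers modulo a central subgroup of order `p`. -/
theorem card_cent_mod {H : Type*} [Group H] [Finite H] (Z : Subgroup H) [Z.Normal] (hZ : Z ≤ center H)
    (hZp : Nat.card Z = p) (x : H) (L : Subgroup H) (hZL : Z ≤ L) {u : H} (hu : u ∈ L)
    (hux : ⁅u, x⁆ ∈ Z) (hux1 : ⁅u, x⁆ ≠ 1) :
    Nat.card ↥(L.map (QuotientGroup.mk' Z) ⊓ centralizer ({QuotientGroup.mk' Z x} : Set (H ⧸ Z))) =
      Nat.card ↥(L ⊓ centralizer ({x} : Set H)) := by
  set π := QuotientGroup.mk' Z with hπ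
  have hkey : ∀ h : H, Commute (π h) (π x) ↔ ⁅h, x⁆ ∈ Z := fun h => by
    rw [← QuotientGroup.eq_one_iff, ← QuotientGroup.mk'_apply, ← hπ, map_commutatorElement,
      commutatorElement_eq_one_iff_mul_comm]
    rfl
  set K : Subgroup H := L ⊓ (centralizer ({π x} : Set (H ⧸ Z))).comap π with hK
  have hKmem : ∀ h : H, h ∈ K ↔ h ∈ L ∧ ⁅h, x⁆ ∈ Z := fun h => by
    rw [hK, mem_inf, mem_comap, mem_centralizer_singleton_iff]
    exact and_congr_right fun _ => ⟨fun e => (hkey h).1 e, fun e => (hkey h).2 e⟩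
  have hmap : L.map π ⊓ centralizer ({π x} : Set (H ⧸ Z)) = K.map π := by
    refine le_antisymm (fun q hq => ?_) (le_inf (map_mono inf_le_left)
      ((map_mono inf_le_right).trans (map_comap_le _ _)))
    obtain ⟨hq1, hq2⟩ := mem_inf.1 hq
    obtain ⟨h, hh, rfl⟩ := mem_map.1 hq1
    exact mem_map_of_mem π (mem_inf.2 ⟨hh, mem_comap.2 hq2⟩)
  let ψ : K →* Z :=
    { toFun := fun h => ⟨⁅(h : H), x⁆, ((hKmem _).1 h.2).2⟩
      map_one' := Subtype.ext (by simp)
      map_mul' := fun a b => Subtype.ext (by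
        show ⁅(a : H) * b, x⁆ = ⁅(a : H), x⁆ * ⁅(b : H), x⁆
        rw [commutatorElement_mul_left_eq_conj_mul]
        have hc := mem_center_iff.1 (hZ ((hKmem _).1 b.2).2) (a : H)
        rw [hc, mul_inv_cancel_right]
        exact mem_center_iff.1 (hZ ((hKmem _).1 a.2).2) _) }
  have hker : ψ.ker.map K.subtype = L ⊓ centralizer ({x} : Set H) := by
    ext h
    simp only [mem_map, MonoidHom.mem_ker, mem_inf, mem_centralizer_singleton_iff]
    constructor
    · rintro ⟨a, ha, rfl⟩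
      exact ⟨((hKmem _).1 a.2).1, commutatorElement_eq_one_iff_mul_comm.1 (congrArg Subtype.val ha)⟩
    · rintro ⟨hL, hc⟩
      have h1 : ⁅h, x⁆ = 1 := commutatorElement_eq_one_iff_mul_comm.2 hc
      exact ⟨⟨h, (hKmem h).2 ⟨hL, h1 ▸ Z.one_mem⟩⟩, Subtype.ext h1, rfl⟩
  have hu' : u ∈ K := (hKmem u).2 ⟨hu, hux⟩
  have hrange : Nat.card ψ.range = p := by
    rcases (Nat.dvd_prime hp.out).1 (hZp ▸ card_subgroup_dvd_card ψ.range) with h | h
    · have hmem : ψ ⟨u, hu'⟩ ∈ ψ.range := ⟨_, rfl⟩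
      rw [card_eq_one.1 h, mem_bot] at hmem
      exact absurd (congrArg (fun w : Z => (w : H)) hmem) hux1
    · exact h
  have h1 := ψ.ker.card_mul_index
  rw [index_ker, hrange, ← card_map_of_injective K.subtype_injective, hker] at h1
  have hZK : Z ≤ K := fun z hz => (hKmem z).2 ⟨hZL hz, by
    rw [commutatorElement_eq_one_iff_mul_comm.2 (mem_center_iff.1 (hZ hz) x).symm]; exact Z.one_mem⟩
  have h2 : Nat.card ↥(K.map π) * p = Nat.card K := by
    rw [← relIndex_ker, show π.ker = Z from QuotientGroup.ker_mk' Z, ← hZp, mul_comm,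
      ← relIndex_bot_left, ← relIndex_bot_left]
    exact relIndex_mul_relIndex ⊥ Z K bot_le hZK
  rw [hmap]
  exact Nat.eq_of_mul_eq_mul_right hp.out.pos (h2.trans h1.symm)

/-- The centraliser of a self-centralising element of order `p ^ 2` type outside a normal subgroup
containing the derived subgroup of a Sylow subgroup. -/
theorem not_cube_dvd : ∀ (n : ℕ) (G : Type u) [Group G] [Finite G] (P : Sylow p G) (N : Subgroup G)
    [N.Normal] (x : G), Nat.card P = p ^ n → x ∈ (P : Subgroup G) → x ∉ N →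
    Nat.card ↥((P : Subgroup G) ⊓ centralizer ({x} : Set G)) = p ^ 2 →
    (∀ g ∈ (P : Subgroup G), ∀ h ∈ (P : Subgroup G), ⁅g, h⁆ ∈ N) →
    ¬ p ^ 3 ∣ Nat.card (centralizer ({x} : Set G)) := by
  intro n
  induction n using Nat.strong_induction_on with
  | _ n ih =>
  intro G _ _ P N _ x hn hxP hxN hA hder hdvd
  have hpp := hp.out
  have hn3 : 3 ≤ n := by
    refine (Nat.pow_dvd_pow_iff_le_right hpp.one_lt).1 ?_
    have h := hdvd.trans (card_subgroup_dvd_card _)
    rw [← (P : Subgroup G).card_mul_index] at h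
    rw [← hn]
    exact ((hpp.coprime_iff_not_dvd.2 P.not_dvd_index).pow_left 3).dvd_of_dvd_mul_right h
  set A := (P : Subgroup G) ⊓ centralizer ({x} : Set G) with hAdef
  have hxA : x ∈ A := mem_inf.2 ⟨hxP, mem_centralizer_singleton_iff.2 rfl⟩
  -- a central subgroup of order p inside N
  have hMne : (N.subgroupOf (P : Subgroup G)) ≠ ⊥ := fun hb => by
    have hle : (P : Subgroup G) ≤ A := le_inf le_rfl fun g hg => mem_centralizer_singleton_iff.2 (by
      have h1 : (⟨⁅g, x⁆, by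
          rw [commutatorElement_def]
          exact mul_mem (mul_mem (mul_mem hg hxP) (inv_mem hg)) (inv_mem hxP)⟩ : (P : Subgroup G)) ∈
          (⊥ : Subgroup (P : Subgroup G)) := hb ▸ (mem_subgroupOf.2 (hder g hg x hxP))
      exact commutatorElement_eq_one_iff_mul_comm.1 (congrArg Subtype.val (mem_bot.1 h1)))
    have := card_le_of_le hle
    rw [hn, hA, Nat.pow_le_pow_iff_right hpp.one_lt] at this
    omega
  obtain ⟨Z', hZ'N, hZ'c, -, hZ'p⟩ := Fusion.exists_central_card_prime P.isPGroup' _ hMne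
  set Z0 := Z'.map (P : Subgroup G).subtype with hZ0
  have hZ0p : Nat.card Z0 = p := by rw [hZ0, card_map_of_injective (subtype_injective _), hZ'p]
  have hZ0P : Z0 ≤ (P : Subgroup G) := map_subtype_le _
  have hZ0N : Z0 ≤ N := by
    rintro _ ⟨z, hz, rfl⟩
    exact mem_subgroupOf.1 (hZ'N hz)
  have hZ0comm : ∀ z ∈ Z0, ∀ g ∈ (P : Subgroup G), g * z = z * g := by
    rintro _ ⟨z, hz, rfl⟩ g hg
    exact congrArg Subtype.val (mem_center_iff.1 (hZ'c hz) ⟨g, hg⟩)
  have hZ0A : Z0 ≤ A := le_inf hZ0P fun z hz => mem_centralizer_singleton_iff.2 (hZ0comm z hz x hxP).symm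
  have hAN : A ⊓ N = Z0 := by
    refine (eq_of_le_of_card_ge (le_inf hZ0A hZ0N) ?_).symm
    obtain ⟨j, hj, hj'⟩ := (Nat.dvd_prime_pow hpp).1 (hA ▸ card_dvd_of_le (inf_le_left : A ⊓ N ≤ A))
    rw [hZ0p, hj']
    have hj2 : j ≠ 2 := fun e => hxN (mem_inf.1 (eq_of_le_of_card_ge (inf_le_left : A ⊓ N ≤ A)
      (by rw [hA, hj', e]) ▸ hxA)).2
    exact (Nat.pow_le_pow_right hpp.pos (show j ≤ 1 by omega)).trans (pow_one p).le
  -- an element of P moving x by an element of Z0
  obtain ⟨u, huP, hu1, huZ⟩ : ∃ u ∈ (P : Subgroup G), ⁅u, x⁆ ≠ 1 ∧ ⁅u, x⁆ ∈ Z0 := by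
    have := P.isPGroup'.isNilpotent
    have hlt : A.subgroupOf (P : Subgroup G) < ⊤ := by
      rw [lt_top_iff_ne_top]
      intro e
      have := card_le_of_le (subgroupOf_eq_top.1 e)
      rw [hn, hA, Nat.pow_le_pow_iff_right hpp.one_lt] at this
      omega
    obtain ⟨u, hu, huA⟩ := SetLike.exists_of_lt (Group.normalizerCondition_of_isNilpotent _ hlt)
    refine ⟨u, u.2, fun e => huA (mem_subgroupOf.2 (mem_inf.2 ⟨u.2,
      mem_centralizer_singleton_iff.2 (commutatorElement_eq_one_iff_mul_comm.1 e)⟩)), ?_⟩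
    rw [← hAN]
    refine mem_inf.2 ⟨?_, hder _ u.2 x hxP⟩
    have h1 := mem_subgroupOf.1 ((mem_normalizer_iff.1 hu ⟨x, hxP⟩).1 (mem_subgroupOf.2 hxA))
    rw [commutatorElement_def]
    exact mul_mem h1 (inv_mem hxA)
  -- a p-subgroup of order p ^ 3 centralising x and Z0
  set C := centralizer ({x} : Set G) with hC
  obtain ⟨R', hR', hAR⟩ := Sylow.exists_subgroup_card_pow_prime_le p hdvd (A.subgroupOf C)
    (n := 2) (by rw [Nat.card_congr (subgroupOfEquivOfLe (inf_le_right : A ≤ C)).toEquiv, hA]) (by omega)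
  set R := R'.map C.subtype with hRdef
  have hRcard : Nat.card R = p ^ 3 := by rw [hRdef, card_map_of_injective (subtype_injective _), hR']
  have hRC : R ≤ C := map_subtype_le _
  have hAR' : A ≤ R := fun a ha =>
    ⟨⟨a, (mem_inf.1 ha).2⟩, hAR (mem_subgroupOf.2 ha), rfl⟩
  have hRp : IsPGroup p R := IsPGroup.of_card hRcard
  have hRnorm : (A.subgroupOf R).Normal := by
    refine normal_of_index_eq_minFac_card ?_
    rw [hRcard, Nat.Prime.pow_minFac hpp (by omega)]
    have h := (A.subgroupOf R).card_mul_index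
    rw [Nat.card_congr (subgroupOfEquivOfLe hAR').toEquiv, hA, hRcard] at h
    exact Nat.eq_of_mul_eq_mul_left (pow_pos hpp.pos 2) (h.trans (pow_succ p 2))
  have hRZ : R ≤ centralizer (Z0 : Set G) := by
    haveI : (Z0.subgroupOf R).Normal := by
      rw [← hAN]
      exact ⟨fun a ha g => mem_subgroupOf.2 (mem_inf.2
        ⟨mem_subgroupOf.1 (hRnorm.conj_mem a (mem_subgroupOf.2 (mem_inf.1 (mem_subgroupOf.1 ha)).1) g),
          Subgroup.Normal.conj_mem inferInstance _ (mem_inf.1 (mem_subgroupOf.1 ha)).2 (g : G)⟩)⟩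
    have hc : Z0.subgroupOf R ≤ center R := le_center_of_card_prime hRp _
      (by rw [Nat.card_congr (subgroupOfEquivOfLe (hZ0A.trans hAR')).toEquiv, hZ0p])
    intro r hr
    refine mem_centralizer_iff.2 fun z hz => ?_
    have hz' : (⟨z, hAR' (hZ0A hz)⟩ : R) ∈ Z0.subgroupOf R := mem_subgroupOf.2 hz
    exact (congrArg (fun w : R => (w : G)) (mem_center_iff.1 (hc hz') ⟨r, hr⟩)).symm
  -- pass to the centraliser of Z0 modulo Z0
  set H := centralizer (Z0 : Set G) with hH
  have hPH : (P : Subgroup G) ≤ H := fun g hg => mem_centralizer_iff.2 fun z hz => (hZ0comm z hz g hg).symm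
  have hZH : Z0 ≤ H := hZ0P.trans hPH
  set ZH := Z0.subgroupOf H with hZHdef
  have hZHc : ZH ≤ center H := fun z hz => mem_center_iff.2 fun g =>
    Subtype.ext (mem_centralizer_iff.1 g.2 _ (mem_subgroupOf.1 hz)).symm
  haveI : ZH.Normal := ⟨fun z hz g => by
    rw [mem_center_iff.1 (hZHc hz) g, mul_inv_cancel_right]; exact hz⟩
  have hZHp : Nat.card ZH = p := by rw [Nat.card_congr (subgroupOfEquivOfLe hZH).toEquiv, hZ0p]
  set xH : H := ⟨x, hPH hxP⟩ with hxH
  set uH : H := ⟨u, hPH huP⟩ with huH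
  set π := QuotientGroup.mk' ZH with hπ
  have hsur : Function.Surjective π := QuotientGroup.mk'_surjective ZH
  set PH : Sylow p H := P.subtype hPH with hPHdef
  have hPHc : (PH : Subgroup H) = (P : Subgroup G).subgroupOf H := P.coe_subtype hPH
  have hucomm : ⁅uH, xH⁆ ∈ ZH := mem_subgroupOf.2 huZ
  have hucomm1 : ⁅uH, xH⁆ ≠ 1 := fun e => hu1 (congrArg Subtype.val e)
  have hZPH : ZH ≤ (PH : Subgroup H) := by
    rw [hPHc]; exact fun z hz => mem_subgroupOf.2 (hZ0P (mem_subgroupOf.1 hz))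
  have hcentH : centralizer ({xH} : Set H) = C.subgroupOf H := by
    ext h
    rw [mem_subgroupOf, hC, mem_centralizer_singleton_iff, mem_centralizer_singleton_iff, Subtype.ext_iff]
    rfl
  have hcardP : Nat.card (PH.mapSurjective hsur : Sylow p (H ⧸ ZH)) = p ^ (n - 1) := by
    show Nat.card ↥((PH.mapSurjective hsur : Sylow p (H ⧸ ZH)) : Subgroup (H ⧸ ZH)) = _
    rw [Sylow.coe_mapSurjective]
    have h1 := relIndex_mul_relIndex ⊥ ZH (PH : Subgroup H) bot_le hZPH
    rw [relIndex_bot_left, relIndex_bot_left, hZHp] at h1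
    have h2 : Nat.card (PH : Subgroup H) = p ^ n := by
      rw [hPHc, Nat.card_congr (subgroupOfEquivOfLe hPH).toEquiv, hn]
    rw [h2, show ZH = π.ker from (QuotientGroup.ker_mk' ZH).symm, relIndex_ker] at h1
    refine Nat.eq_of_mul_eq_mul_left hpp.pos (h1.trans ?_)
    rw [← pow_succ', Nat.sub_add_cancel (by omega)]
  haveI hNn : ((N.subgroupOf H).map π).Normal := Subgroup.Normal.map inferInstance _ hsur
  refine ih (n - 1) (by omega) (H ⧸ ZH) (PH.mapSurjective hsur) ((N.subgroupOf H).map π) (π xH)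
    hcardP ?_ ?_ ?_ ?_ ?_
  · rw [Sylow.coe_mapSurjective, hPHc]
    exact mem_map_of_mem π (mem_subgroupOf.2 hxP)
  · rintro ⟨v, hv, hvx⟩
    refine hxN ?_
    obtain ⟨z, hz, he⟩ := (QuotientGroup.mk'_eq_mk' ZH).1 hvx
    have := mul_mem (mem_subgroupOf.1 hv) (hZ0N (mem_subgroupOf.1 hz))
    rwa [← Subgroup.coe_mul, he] at this
  · rw [Sylow.coe_mapSurjective, card_cent_mod ZH hZHc hZHp xH _ hZPH
      (u := uH) (by rw [hPHc]; exact mem_subgroupOf.2 huP) hucomm hucomm1, hPHc, hcentH,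
      show (P : Subgroup G).subgroupOf H ⊓ C.subgroupOf H = A.subgroupOf H from
        (comap_inf (P : Subgroup G) C H.subtype).symm, Nat.card_congr (subgroupOfEquivOfLe (inf_le_left.trans hPH)).toEquiv, hA]
  · rw [Sylow.coe_mapSurjective, hPHc]
    rintro _ ⟨g, hg, rfl⟩ _ ⟨h, hh, rfl⟩
    rw [← map_commutatorElement]
    exact mem_map_of_mem π (mem_subgroupOf.2 (hder _ (mem_subgroupOf.1 hg) _ (mem_subgroupOf.1 hh)))
  · have h1 := card_cent_mod ZH hZHc hZHp xH ⊤ le_top (u := uH) (mem_top _) hucomm hucomm1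
    rw [map_top_of_surjective _ hsur, top_inf_eq, top_inf_eq, hcentH] at h1
    rw [h1]
    have h2 : Nat.card (R.subgroupOf H) = p ^ 3 := by
      rw [Nat.card_congr (subgroupOfEquivOfLe hRZ).toEquiv, hRcard]
    exact h2 ▸ card_dvd_of_le (fun r hr => mem_subgroupOf.2 (hRC (mem_subgroupOf.1 hr)))

end Cfsg.Agent.MaxClass.SelfCentFusion
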