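import Cfsg.Agent.FGS.AutFrattini
import Mathlib.GroupTheory.Subgroup.Centralizer

/-!
Elements of odd order normalising a 2-group with at most two generators.
-/

set_option autoImplicit false

namespace Cfsg.Agent.MaxClass

open Subgroup

variable {G : Type*} [Group G] [Finite G]

theorem conj_aut_spec (Q : Subgroup G) {g : G} (hg : g ∈ normalizer (Q : Set G)) (q : Q) :
    ((Q.normalizerMonoidHom ⟨g, hg⟩ q : Q) : G) = g * q * g⁻¹ := rfl

theorem mem_centralizer_of_aut_eq_one (Q : Subgroup G) {g : G} (hg : g ∈ normalizer (Q : Set G))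
    (h : Q.normalizerMonoidHom ⟨g, hg⟩ = 1) : g ∈ centralizer (Q : Set G) := by
  refine mem_centralizer_iff.2 fun q hq => ?_
  have h1 := conj_aut_spec Q hg ⟨q, hq⟩
  rw [h] at h1
  calc q * g = g * q * g⁻¹ * g := congrArg (· * g) h1
    _ = g * q := inv_mul_cancel_right _ _

theorem orderOf_aut_dvd (Q : Subgroup G) {g : G} (hg : g ∈ normalizer (Q : Set G)) :
    orderOf (Q.normalizerMonoidHom ⟨g, hg⟩) ∣ orderOf g :=
  (orderOf_map_dvd _ _).trans (dvd_of_eq (Subgroup.orderOf_mk g hg))

theorem orderOf_aut_dvd_two_pow_three (Q : Subgroup G) (hQ : IsPGroup 2 Q) (hr : (frattini Q).index ∣ 4)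
    (α : MulAut Q) : ∃ N : ℕ, orderOf α ∣ 2 ^ N * 3 := by
  have : Fact (Nat.Prime 2) := ⟨Nat.prime_two⟩
  obtain ⟨n, hn⟩ := IsPGroup.iff_card.1 hQ
  obtain ⟨r, hr2, hr'⟩ := (Nat.dvd_prime_pow Nat.prime_two).1 (show (frattini Q).index ∣ 2 ^ 2 by norm_num; exact hr)
  have h := (_root_.orderOf_dvd_natCard α).trans (FGS.card_mulAut_dvd hn hr')
  rcases (by omega : r = 0 ∨ r = 1 ∨ r = 2) with rfl | rfl | rfl
  · exact ⟨0, h.trans (by simp)⟩
  · exact ⟨1 * (n - 1), h.trans (by simp)⟩
  · exact ⟨2 * (n - 2) + 1, h.trans (dvd_of_eq (by rw [pow_succ]; simp [Finset.prod_range_succ]; ring))⟩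

/-- An element of order prime to six centralises a two-generated 2-group it normalises. -/
theorem centralize_of_coprime_six (Q : Subgroup G) (hQ : IsPGroup 2 Q) (hr : (frattini Q).index ∣ 4)
    {g : G} (hg : g ∈ normalizer (Q : Set G)) (h2 : (orderOf g).Coprime 2) (h3 : (orderOf g).Coprime 3) :
    g ∈ centralizer (Q : Set G) := by
  refine mem_centralizer_of_aut_eq_one Q hg (orderOf_eq_one_iff.1 ?_)
  obtain ⟨N, hN⟩ := orderOf_aut_dvd_two_pow_three Q hQ hr (Q.normalizerMonoidHom ⟨g, hg⟩)
  exact Nat.eq_one_of_dvd_coprimes (Nat.Coprime.mul_right (h2.pow_right N) h3) (orderOf_aut_dvd Q hg) hN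

/-- An element of odd order normalising a 2-group and an index two subgroup containing the Frattini
subgroup centralises it, provided there are at most two generators. -/
theorem centralize_of_invariant (Q : Subgroup G) (hQ : IsPGroup 2 Q) (hr : (frattini Q).index ∣ 4)
    {g : G} (hg : g ∈ normalizer (Q : Set G)) (h2 : (orderOf g).Coprime 2)
    (M : Subgroup Q) (hM : M.index = 2 ∨ (frattini Q).index ∣ 2) (hΦ : frattini Q ≤ M)
    (hinv : ∀ q ∈ M, Q.normalizerMonoidHom ⟨g, hg⟩ q ∈ M) :
    g ∈ centralizer (Q : Set G) := by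
  have : Fact (Nat.Prime 2) := ⟨Nat.prime_two⟩
  obtain ⟨n, hn⟩ := IsPGroup.iff_card.1 hQ
  obtain ⟨r, hr2, hr'⟩ := (Nat.dvd_prime_pow Nat.prime_two).1 (show (frattini Q).index ∣ 2 ^ 2 by norm_num; exact hr)
  set α := Q.normalizerMonoidHom ⟨g, hg⟩ with hα
  refine mem_centralizer_of_aut_eq_one Q hg (orderOf_eq_one_iff.1 ?_)
  have hodd : (orderOf α).Coprime 2 := h2.coprime_dvd_left (orderOf_aut_dvd Q hg)
  set π := QuotientGroup.mk' (frattini Q)
  obtain ⟨hcomm, hexp⟩ := FGS.frattini_quotient_props hn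
  have hπ0 : ∀ q : Q, π q = 1 ↔ q ∈ frattini Q := fun q => QuotientGroup.eq_one_iff q
  have hsq : ∀ q : Q, π (α (α q) * q⁻¹) = 1 := by
    have hαΦ : ∀ q ∈ frattini Q, α q ∈ frattini Q := fun q hq =>
      (Subgroup.characteristic_iff_map_le.1 frattini_characteristic α) ⟨q, hq, rfl⟩
    have hdiff : ∀ u v : Q, π u = π v → π (α u) = π (α v) := fun u v h => by
      have h1 : u⁻¹ * v ∈ frattini Q := QuotientGroup.eq.1 h
      refine QuotientGroup.eq.2 ?_
      rw [← map_inv, ← map_mul]
      exact hαΦ _ h1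
    have hd : ∀ u : Q, π u = π u⁻¹ := fun u => by
      rw [map_inv, ← mul_eq_one_iff_eq_inv, ← pow_two, hexp]
    rcases hM with hM | hM
    · by_cases hr4 : (frattini Q).index ∣ 2
      · intro q
        have hle : ∀ u v : Q, π u ≠ 1 → π v ≠ 1 → π u = π v := by
          intro u v hu hv
          have hc : Nat.card (Q ⧸ frattini Q) ≤ 2 := by rw [← index_eq_card]; exact Nat.le_of_dvd two_pos hr4
          by_contra hne
          have h3 : ({1, π u, π v} : Set (Q ⧸ frattini Q)).ncard = 3 :=
            Set.ncard_eq_three.2 ⟨_, _, _, hu.symm, hv.symm, hne, rfl⟩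
          have := Set.ncard_le_card ({1, π u, π v} : Set (Q ⧸ frattini Q))
          omega
        rw [map_mul, map_inv, mul_inv_eq_one]
        by_cases hq : π q = 1
        · rw [hq, hπ0]; exact hαΦ _ (hαΦ _ ((hπ0 q).1 hq))
        · refine hle _ _ (fun h => hq ?_) hq
          have hinj : ∀ u : Q, α u ∈ frattini Q → u ∈ frattini Q := fun u hu => by
            have := (Subgroup.characteristic_iff_map_le.1 frattini_characteristic α.symm) ⟨_, hu, rfl⟩
            simpa using this
          exact (hπ0 q).2 (hinj _ (hinj _ ((hπ0 _).1 h)))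
      have h4 : (frattini Q).index = 4 := by
        rcases (by omega : r = 0 ∨ r = 1 ∨ r = 2) with rfl | rfl | rfl
        · exact absurd (hr' ▸ one_dvd 2) hr4
        · exact absurd (hr' ▸ dvd_refl 2) hr4
        · exact hr'
      have hK : Nat.card (M.map π) = 2 := by
        have h1 := index_map_eq M (QuotientGroup.mk'_surjective (frattini Q)) (by rwa [QuotientGroup.ker_mk'])
        have h2 := (M.map π).card_mul_index
        rw [h1, hM, ← index_eq_card, h4] at h2
        omega
      obtain ⟨x, y, hxy, hall⟩ := Nat.card_eq_two_iff.1 hK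
      have hMfix : ∀ u ∈ M, π (α u) = π u := by
        intro u hu
        by_cases hu1 : π u = 1
        · rw [hu1, hπ0]; exact hαΦ _ ((hπ0 u).1 hu1)
        · have hα1 : π (α u) ≠ 1 := fun h => hu1 ((hπ0 u).2 (by
            have := (Subgroup.characteristic_iff_map_le.1 frattini_characteristic α.symm) ⟨_, (hπ0 _).1 h, rfl⟩
            simpa using this))
          let m1 : M.map π := ⟨π u, u, hu, rfl⟩
          let m2 : M.map π := ⟨π (α u), α u, hinv u hu, rfl⟩
          have hall' : ∀ w : M.map π, w = x ∨ w = y := fun w => by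
            simpa using Set.eq_univ_iff_forall.1 hall w
          have hne1 : ∀ w : M.map π, (w : Q ⧸ frattini Q) ≠ 1 → w ≠ 1 := fun w hw e => hw (by rw [e]; rfl)
          rcases hall' 1 with h1 | h1 <;> rcases hall' m1 with h2 | h2 <;> rcases hall' m2 with h3 | h3
          all_goals first
            | exact absurd (h2.trans h1.symm) (hne1 m1 hu1)
            | exact absurd (h3.trans h1.symm) (hne1 m2 hα1)
            | exact congrArg Subtype.val (h3.trans h2.symm)
      intro q
      rw [map_mul, map_inv, mul_inv_eq_one]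
      by_cases hq : q ∈ M
      · rw [hMfix _ (hinv q hq), hMfix q hq]
      · have hnq : α q ∉ M := fun h => by
          have hsurj : ∀ v ∈ M, ∃ u ∈ M, α u = v := by
            intro v hv
            have hinj : Function.Injective (fun u : M => (⟨α u, hinv u u.2⟩ : M)) := fun a b e =>
              Subtype.ext (α.injective (congrArg Subtype.val e))
            obtain ⟨u, hu⟩ := (Finite.injective_iff_surjective.1 hinj) ⟨v, hv⟩
            exact ⟨u, u.2, congrArg Subtype.val hu⟩
          obtain ⟨u, hu, e⟩ := hsurj _ h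
          exact hq (α.injective e ▸ hu)
        have hw : q⁻¹ * α q ∈ M := (mul_mem_iff_of_index_two hM).2
          (iff_of_false (fun h => hq (by simpa using inv_mem h)) hnq)
        calc π (α (α q)) = π (α (q * (q⁻¹ * α q))) := by rw [mul_inv_cancel_left]
          _ = π (α q) * π (α (q⁻¹ * α q)) := by rw [map_mul α, map_mul]
          _ = π (q * (q⁻¹ * α q)) * π (q⁻¹ * α q) := by rw [hMfix _ hw, mul_inv_cancel_left]
          _ = π q * (π (q⁻¹ * α q) * π (q⁻¹ * α q)) := by rw [map_mul π q, mul_assoc]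
          _ = π q := by rw [← pow_two, hexp, mul_one]
    · intro q
      have hle : ∀ u v : Q, π u ≠ 1 → π v ≠ 1 → π u = π v := by
        intro u v hu hv
        have hc : Nat.card (Q ⧸ frattini Q) ≤ 2 := by rw [← index_eq_card]; exact Nat.le_of_dvd two_pos hM
        by_contra hne
        have h3 : ({1, π u, π v} : Set (Q ⧸ frattini Q)).ncard = 3 :=
          Set.ncard_eq_three.2 ⟨_, _, _, hu.symm, hv.symm, hne, rfl⟩
        have := Set.ncard_le_card ({1, π u, π v} : Set (Q ⧸ frattini Q))
        omega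
      rw [map_mul, map_inv, mul_inv_eq_one]
      by_cases hq : π q = 1
      · rw [hq, hπ0]; exact hαΦ _ (hαΦ _ ((hπ0 q).1 hq))
      · refine hle _ _ (fun h => hq ?_) hq
        have hinj : ∀ u : Q, α u ∈ frattini Q → u ∈ frattini Q := fun u hu => by
          have := (Subgroup.characteristic_iff_map_le.1 frattini_characteristic α.symm) ⟨_, hu, rfl⟩
          simpa using this
        exact (hπ0 q).2 (hinj _ (hinj _ ((hπ0 _).1 h)))
  have htriv : ∀ β ∈ zpowers (α ^ 2), ∀ x : Q, β x * x⁻¹ ∈ frattini Q := by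
    intro β hβ
    obtain ⟨k, rfl⟩ := mem_powers_iff_mem_zpowers.2 hβ
    have hk : ∀ k : ℕ, ∀ x : Q, ((α ^ 2) ^ k) x * x⁻¹ ∈ frattini Q := by
      intro k
      induction k with
      | zero => intro x; simp
      | succ k ih =>
        intro x
        have h1 : ((α ^ 2) ^ (k + 1)) x = ((α ^ 2) ^ k) (α (α x)) := by
          rw [pow_succ, MulAut.mul_apply, pow_two, MulAut.mul_apply]
        rw [h1]
        have h2 := mul_mem (ih (α (α x))) ((hπ0 _).1 (hsq x))
        rwa [mul_assoc, inv_mul_cancel_left] at h2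
    exact hk k
  have h := FGS.card_dvd_of_trivial_on_frattini_quotient hn hr' (zpowers (α ^ 2)) htriv
  rw [Nat.card_zpowers] at h
  have hcop : (orderOf (α ^ 2)).Coprime 2 := hodd.coprime_dvd_left (orderOf_pow_dvd 2)
  have h1 : orderOf (α ^ 2) = 1 := Nat.eq_one_of_dvd_coprimes (hcop.pow_right _) dvd_rfl h
  have h2' : orderOf α ∣ 2 := orderOf_dvd_iff_pow_eq_one.2 (orderOf_eq_one_iff.1 h1)
  exact Nat.eq_one_of_dvd_coprimes hodd dvd_rfl h2'

/-- Subgroups of a 2-group with a cyclic subgroup of index at most two need at most two generators. -/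
theorem frattini_index_dvd_four (P : Subgroup G) (hP : IsPGroup 2 P) (x : G) (hxP : x ∈ P)
    (hi : Nat.card P ∣ 2 * orderOf x) (Q : Subgroup G) (hQ : Q ≤ P) : (frattini Q).index ∣ 4 := by
  have : Fact (Nat.Prime 2) := ⟨Nat.prime_two⟩
  have hQ2 : IsPGroup 2 Q := hP.to_le hQ
  obtain ⟨n, hn⟩ := IsPGroup.iff_card.1 hQ2
  obtain ⟨hcomm, hexp⟩ := FGS.frattini_quotient_props hn
  obtain ⟨r, hr⟩ := hQ2.index (frattini Q)
  set C := zpowers x
  have hrel : C.relIndex P ≤ 2 := by
    have h := (C.subgroupOf P).card_mul_index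
    rw [Nat.card_congr (subgroupOfEquivOfLe (zpowers_le.2 hxP)).toEquiv, Nat.card_zpowers] at h
    obtain ⟨t, ht⟩ := hi
    rw [← h, mul_comm 2, mul_assoc] at ht
    have h' := Nat.eq_of_mul_eq_mul_left (orderOf_pos x) ht
    show (C.subgroupOf P).index ≤ 2
    exact Nat.le_of_dvd two_pos ⟨t, h'.symm ▸ rfl⟩
  have hCQ : (C.subgroupOf Q).index ≤ 2 := (relIndex_le_of_le_right hQ (by
    show (C.subgroupOf P).index ≠ 0
    exact index_ne_zero_of_finite)).trans hrel
  have : IsCyclic (C.subgroupOf Q) := by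
    let f : C.subgroupOf Q →* C := MonoidHom.mk' (fun u => ⟨((u : Q) : G), u.2⟩) fun _ _ => rfl
    exact isCyclic_of_injective f fun u v e => Subtype.ext (Subtype.ext (congrArg (fun w : C => (w : G)) e))
  obtain ⟨c, hc⟩ := this
  set π := QuotientGroup.mk' (frattini Q)
  have hsmall : ∀ u ∈ C.subgroupOf Q, π u = 1 ∨ π u = π (c : Q) := by
    intro u hu
    obtain ⟨i, hi⟩ := mem_zpowers_iff.1 (hc ⟨u, hu⟩)
    have e : u = (c : Q) ^ i := (congrArg Subtype.val hi).symm
    rw [e, map_zpow]
    have h2 : π (c : Q) ^ (2 : ℤ) = 1 := by rw [zpow_ofNat]; exact hexp _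
    rcases Int.even_or_odd i with ⟨j, rfl⟩ | ⟨j, rfl⟩
    · left; rw [← two_mul, zpow_mul, h2, one_zpow]
    · right; rw [zpow_add, zpow_mul, h2, one_zpow, one_mul, zpow_one]
  have hle : Nat.card (Q ⧸ frattini Q) ≤ 4 := by
    classical
    have hcases : (C.subgroupOf Q).index = 1 ∨ (C.subgroupOf Q).index = 2 := by
      have := (index_ne_zero_of_finite (H := C.subgroupOf Q)); omega
    obtain ⟨d, hd⟩ : ∃ d : Q, ∀ q : Q, q ∈ C.subgroupOf Q ∨ d⁻¹ * q ∈ C.subgroupOf Q := by
      rcases hcases with h | h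
      · exact ⟨1, fun q => Or.inl (index_eq_one.1 h ▸ mem_top q)⟩
      · obtain ⟨d, hd⟩ : ∃ d, d ∉ C.subgroupOf Q := by
          by_contra! hh
          rw [show C.subgroupOf Q = ⊤ from eq_top_iff.2 fun v _ => hh v, index_top] at h
          omega
        refine ⟨d, fun q => ?_⟩
        by_cases hq : q ∈ C.subgroupOf Q
        · exact Or.inl hq
        · exact Or.inr ((mul_mem_iff_of_index_two h).2 (iff_of_false (fun e => hd (by simpa using inv_mem e)) hq))
    have hsurj : (Set.univ : Set (Q ⧸ frattini Q)) ⊆ {1, π (c : Q), π d, π d * π (c : Q)} := by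
      intro w _
      obtain ⟨q, rfl⟩ := QuotientGroup.mk'_surjective _ w
      rcases hd q with h | h
      · rcases hsmall q h with e | e <;> simp [π, e]
      · have e' : π q = π d * π (d⁻¹ * q) := by rw [← map_mul, mul_inv_cancel_left]
        rcases hsmall _ h with e | e <;> rw [e] at e' <;> simp [π] at e' ⊢ <;> simp [e']
    have h1 := Set.ncard_le_ncard hsurj
    rw [Set.ncard_univ] at h1
    have h2 := Set.ncard_insert_le (1 : Q ⧸ frattini Q) {π (c : Q), π d, π d * π (c : Q)}
    have h3 := Set.ncard_insert_le (π (c : Q)) {π d, π d * π (c : Q)}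
    have h4 := Set.ncard_insert_le (π d) {π d * π (c : Q)}
    have h5 := Set.ncard_singleton (π d * π (c : Q))
    omega
  rw [← index_eq_card, hr] at hle
  rw [hr, show (4 : ℕ) = 2 ^ 2 by norm_num]
  exact pow_dvd_pow 2 ((Nat.pow_le_pow_iff_right one_lt_two).1 (by simpa using hle))

end Cfsg.Agent.MaxClass
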