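import Cfsg.Agent.MaxClass.Pearl
import Cfsg.Agent.S0606

/-!
The case `p = 3`: every subgroup is generated by two elements, except for the group of order 81
with an elementary abelian maximal subgroup, which is a Sylow subgroup of the symmetric group of
degree 9.
-/

set_option autoImplicit false

namespace Cfsg.Agent.MaxClass.Graded

open Subgroup
open scoped commutatorElement

variable {X : Type*} [Group X] {n : ℕ} {x : X}

theorem comm_zpow_of_commute {G : Type*} [Group G] {a b : G} (h : Commute a ⁅a, b⁆) (k : ℤ) :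
    ⁅a ^ k, b⁆ = ⁅a, b⁆ ^ k := by
  have e : b * a ^ k * b⁻¹ = (⁅a, b⁆⁻¹ * a) ^ k := by
    rw [← conj_zpow]; congr 1; rw [commutatorElement_def]; group
  calc ⁅a ^ k, b⁆ = a ^ k * (b * a ^ k * b⁻¹)⁻¹ := by rw [commutatorElement_def]; group
    _ = _ := by rw [e, h.inv_right.symm.mul_zpow, inv_zpow, mul_inv_rev, inv_inv, mul_inv_cancel_left]

/-- The centralizer of `L₁` modulo `L₃`. -/
def G1 (X : Type*) [Group X] : Subgroup X :=
  (centralizer ((((⊤ : Subgroup X).lowerCentralSeries 1).map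
    (QuotientGroup.mk' ((⊤ : Subgroup X).lowerCentralSeries 3)) : Subgroup _) : Set _)).comap
    (QuotientGroup.mk' ((⊤ : Subgroup X).lowerCentralSeries 3))

theorem mem_G1 {g : X} : g ∈ G1 X ↔ ∀ a ∈ (⊤ : Subgroup X).lowerCentralSeries 1,
    ⁅g, a⁆ ∈ (⊤ : Subgroup X).lowerCentralSeries 3 := by
  rw [G1, mem_comap, mem_centralizer_iff]
  constructor
  · intro h a ha
    rw [← QuotientGroup.eq_one_iff, ← QuotientGroup.mk'_apply, map_commutatorElement,
      commutatorElement_eq_one_iff_mul_comm]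
    exact (h _ (mem_map_of_mem _ ha)).symm
  · rintro h _ ⟨a, ha, rfl⟩
    symm
    rw [← commutatorElement_eq_one_iff_mul_comm, ← map_commutatorElement]
    exact (QuotientGroup.eq_one_iff _).2 (h a ha)

theorem mk_central {j : ℕ} {c : X} (hc : c ∈ (⊤ : Subgroup X).lowerCentralSeries j) (g : X) :
    Commute (g : X ⧸ (⊤ : Subgroup X).lowerCentralSeries (j + 1)) c := by
  have h1 := (QuotientGroup.eq_one_iff ⁅g, c⁆).2 (L_comm_x hc g)
  rw [← QuotientGroup.mk'_apply, map_commutatorElement] at h1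
  exact commutatorElement_eq_one_iff_mul_comm.1 h1

variable [Fact (Nat.Prime 3)] [Finite X] (h : MX 3 n x)
include h

/-- The derived subgroup commutes with itself two degrees deeper than expected. -/
theorem MX.L11 {a b : X} (ha : a ∈ (⊤ : Subgroup X).lowerCentralSeries 1)
    (hb : b ∈ (⊤ : Subgroup X).lowerCentralSeries 1) : ⁅a, b⁆ ∈ (⊤ : Subgroup X).lowerCentralSeries 4 := by
  by_cases hn : 1 ≤ n - 2
  swap
  · have := h.three; omega
  set N := (⊤ : Subgroup X).lowerCentralSeries 4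
  obtain ⟨u, hu, hu'⟩ := h.ne_step le_rfl hn
  obtain ⟨k, d, hd, rfl⟩ := h.decomp le_rfl hu hu' ha
  obtain ⟨l, e, he, rfl⟩ := h.decomp le_rfl hu hu' hb
  have h12 : ∀ v ∈ (⊤ : Subgroup X).lowerCentralSeries 1, ∀ w ∈ (⊤ : Subgroup X).lowerCentralSeries 2,
      Commute (v : X ⧸ N) w := fun v hv w hw => by
    have hm : ⁅v, w⁆ ∈ N := L_anti (show 4 ≤ 1 + 2 + 1 by omega) (L_comm hv hw)
    have h1 := (QuotientGroup.eq_one_iff ⁅v, w⁆).2 hm
    rw [← QuotientGroup.mk'_apply, map_commutatorElement] at h1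
    exact commutatorElement_eq_one_iff_mul_comm.1 h1
  rw [← QuotientGroup.eq_one_iff, ← QuotientGroup.mk'_apply, map_commutatorElement,
    commutatorElement_eq_one_iff_mul_comm]
  simp only [QuotientGroup.mk'_apply, QuotientGroup.mk_mul, QuotientGroup.mk_zpow]
  have hd1 : d ∈ (⊤ : Subgroup X).lowerCentralSeries 1 := L_anti (Nat.le_succ 1) hd
  exact Commute.mul_left (Commute.mul_right ((Commute.refl (u : X ⧸ N)).zpow_zpow k l) ((h12 u hu e he).zpow_left k))
    (Commute.mul_right ((h12 u hu d hd).symm.zpow_right l) (h12 d hd1 e he))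

theorem MX.L1_le_G1 : (⊤ : Subgroup X).lowerCentralSeries 1 ≤ G1 X := fun _ ha =>
  mem_G1.2 fun _ hb => L_anti (by omega) (h.L11 ha hb)

/-- `G1` lowers degrees by two everywhere. -/
theorem MX.G1_comm {g : X} (hg : g ∈ G1 X) : ∀ i, 1 ≤ i → ∀ v ∈ (⊤ : Subgroup X).lowerCentralSeries i,
    ⁅g, v⁆ ∈ (⊤ : Subgroup X).lowerCentralSeries (i + 2) := by
  intro i
  induction i using Nat.strong_induction_on with
  | _ i ih =>
    intro hi v hv
    rcases (by omega : i = 1 ∨ i = 2 ∨ 3 ≤ i) with rfl | rfl | hi3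
    · exact mem_G1.1 hg v hv
    · obtain ⟨a, ha, rfl⟩ := h.surj le_rfl hv
      set N := (⊤ : Subgroup X).lowerCentralSeries 4
      set π := QuotientGroup.mk' N
      have hl : ⁅x⁻¹, g⁆ ∈ (⊤ : Subgroup X).lowerCentralSeries 1 :=
        L_comm_x (Subgroup.mem_top g : g ∈ (⊤ : Subgroup X).lowerCentralSeries 0) _
      set l := ⁅x⁻¹, g⁆ with hldef
      set m := ⁅g, a⁆ with hmdef
      have hm : m ∈ (⊤ : Subgroup X).lowerCentralSeries 3 := mem_G1.1 hg a ha
      have hla : Commute (π l) (π a) := by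
        have h1 : π ⁅l, a⁆ = 1 := (QuotientGroup.eq_one_iff _).2 (h.L11 hl ha)
        rw [map_commutatorElement] at h1
        exact commutatorElement_eq_one_iff_mul_comm.1 h1
      have hmc : ∀ w : X, Commute (π w) (π m) := fun w => mk_central hm w
      have hxg : g * x * g⁻¹ = x * l := by rw [hldef, commutatorElement_def]; group
      have hag : g * a * g⁻¹ = m * a := by rw [hmdef, commutatorElement_def]; group
      rw [← QuotientGroup.eq_one_iff, ← QuotientGroup.mk'_apply, map_commutatorElement,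
        commutatorElement_eq_one_iff_mul_comm]
      have e : π g * π ⁅x, a⁆ * (π g)⁻¹ = π ⁅x, a⁆ := by
        rw [← map_inv, ← map_mul, ← map_mul, ← MulAut.conj_apply, map_commutatorElement,
          MulAut.conj_apply, MulAut.conj_apply, hxg, hag, map_commutatorElement, map_commutatorElement,
          map_mul, map_mul, commutatorElement_def, commutatorElement_def]
        calc π x * π l * (π m * π a) * (π x * π l)⁻¹ * (π m * π a)⁻¹
            = (π x * π l) * π m * π a * ((π x * π l)⁻¹ * (π a)⁻¹ * (π m)⁻¹) := by group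
          _ = π m * ((π x * π l) * π a * (π x * π l)⁻¹ * (π a)⁻¹) * (π m)⁻¹ := by
            rw [← map_mul π x l, (hmc (x * l)).eq]; group
          _ = (π x * π l) * π a * (π x * π l)⁻¹ * (π a)⁻¹ := by
            rw [← map_mul π x l, ← map_inv π (x * l), ← map_inv π a, ← map_mul, ← map_mul, ← map_mul,
              ← (hmc _).eq, mul_inv_cancel_right]
          _ = π x * (π l * π a * (π l)⁻¹) * (π x)⁻¹ * (π a)⁻¹ := by group
          _ = _ := by rw [hla.eq, mul_inv_cancel_right]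
      exact mul_inv_eq_iff_eq_mul.1 e
    · obtain ⟨j, rfl⟩ : ∃ j, i = j + 2 := ⟨i - 2, by omega⟩
      rcases le_or_gt (j + 2) (n - 2) with hjn | hjn
      swap
      · rw [h.eq_bot (by omega), mem_bot] at hv
        rw [hv, commutatorElement_one_right]
        exact one_mem _
      obtain ⟨w, hw, hw'⟩ := h.ne_step (show 1 ≤ j by omega) (by omega)
      have hwp := L_anti (show j + 2 ≤ min (j + 3 - 1) (n - 2) by omega) (h.pow_mem j (by omega) w hw).1
      have hwp' := h.pow_exact le_rfl j (by omega) (by omega) w hw hw'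
      set N := (⊤ : Subgroup X).lowerCentralSeries (j + 2 + 2)
      set π := QuotientGroup.mk' N
      obtain ⟨k, d, hd, rfl⟩ := h.decomp (show 1 ≤ j + 2 by omega) hwp hwp' hv
      have hc := ih j (by omega) (by omega) w hw
      have h3 := pow_congr (p := 3) ((⊤ : Subgroup X).lowerCentralSeries j) N
        ((lcs_L j 2).trans (L_anti (by omega)))
        (fun c hc' => L_anti (by omega) ((h.pow_mem (j + j + 1) (by omega) c
          (Cfsg.Agent.Regular.PolySeq.lcs_commutator_le j j hc')).2 (by omega)))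
        (L_anti (by omega) hc) hw
      have hc3 : ⁅g, w⁆ ^ 3 ∈ N := L_anti (by omega) ((h.pow_mem (j + 2) (by omega) _ hc).2 (by omega))
      have e : (⁅g, w⁆ * w) ^ 3 = g * w ^ 3 * g⁻¹ := by
        rw [← conj_pow]; congr 1; rw [commutatorElement_def]; group
      rw [e, ← QuotientGroup.eq_one_iff, ← QuotientGroup.mk'_apply, map_mul, map_inv, map_mul π (_ ^ 3),
        show π (⁅g, w⁆ ^ 3) = 1 from (QuotientGroup.eq_one_iff _).2 hc3, one_mul, inv_mul_eq_one] at h3
      have h4 : Commute (π g) (π (w ^ 3)) := by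
        rw [map_mul, map_mul, map_inv] at h3
        exact mul_inv_eq_iff_eq_mul.1 h3.symm
      have h5 : Commute (π g) (π d) := mk_central hd g
      rw [← QuotientGroup.eq_one_iff, ← QuotientGroup.mk'_apply, map_commutatorElement,
        commutatorElement_eq_one_iff_mul_comm, map_mul, map_zpow]
      exact ((h4.zpow_right k).mul_right h5).eq

theorem MX.cube_L1_central (g : X) : g * x ^ 3 * g⁻¹ = x ^ 3 := by
  rw [(h.x_pow_central g).eq, mul_inv_cancel_right]

/-- Commutation with an element outside `G1` raises degrees by exactly one. -/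
theorem MX.exact_out (hn : 4 ≤ n) {u : X} (hu : u ∉ G1 X) {i : ℕ} (hi : 1 ≤ i) (hin : i + 1 ≤ n - 2)
    {v : X} (hv : v ∈ (⊤ : Subgroup X).lowerCentralSeries i)
    (hv' : v ∉ (⊤ : Subgroup X).lowerCentralSeries (i + 1)) :
    ⁅u, v⁆ ∉ (⊤ : Subgroup X).lowerCentralSeries (i + 2) := by
  -- `u = x ^ k g`
  obtain ⟨a, ha, ha'⟩ := h.ne_step le_rfl (show 1 ≤ n - 2 by omega)
  have hxa : ⁅x, a⁆ ∈ (⊤ : Subgroup X).lowerCentralSeries 2 := L_comm_x ha x
  obtain ⟨k, d, hd, hk⟩ := h.decomp (show 1 ≤ 2 by omega) hxa (h.exact le_rfl (by omega) ha ha')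
    (L_comm_x ha u)
  have hpow : ∀ j, 1 ≤ j → ∀ w ∈ (⊤ : Subgroup X).lowerCentralSeries j,
      QuotientGroup.mk' ((⊤ : Subgroup X).lowerCentralSeries (j + 2)) ⁅x ^ k, w⁆ =
        QuotientGroup.mk' ((⊤ : Subgroup X).lowerCentralSeries (j + 2)) ⁅x, w⁆ ^ k := fun j hj w hw => by
    rw [map_commutatorElement, map_zpow, comm_zpow_of_commute (by
      rw [← map_commutatorElement]; exact mk_central (L_comm_x hw x) x), map_commutatorElement]
  have hg : (x ^ k)⁻¹ * u ∈ G1 X := mem_G1.2 fun b hb => by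
    set π := QuotientGroup.mk' ((⊤ : Subgroup X).lowerCentralSeries 3)
    obtain ⟨l, e, he, rfl⟩ := h.decomp le_rfl ha ha' hb
    have hA : Commute (π ((x ^ k)⁻¹ * u)) (π a) := by
      have h1 : π ⁅u, a⁆ = π ⁅x ^ k, a⁆ := by
        rw [hpow 1 le_rfl a ha, hk, map_mul, map_zpow,
          show π d = 1 from (QuotientGroup.eq_one_iff _).2 hd, mul_one]
      rw [commutatorElement_def, commutatorElement_def, map_mul, map_mul, map_mul, map_mul, map_mul,
        map_mul, map_inv, map_inv, map_inv] at h1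
      have h2 := mul_right_cancel h1
      rw [map_mul, map_inv]
      show (π (x ^ k))⁻¹ * π u * π a = π a * ((π (x ^ k))⁻¹ * π u)
      calc (π (x ^ k))⁻¹ * π u * π a = (π (x ^ k))⁻¹ * (π u * π a * (π u)⁻¹) * π u := by group
        _ = _ := by rw [h2]; group
    rw [← QuotientGroup.eq_one_iff, ← QuotientGroup.mk'_apply, map_commutatorElement,
      commutatorElement_eq_one_iff_mul_comm, map_mul π (a ^ l), map_zpow π a]
    exact ((hA.zpow_right l).mul_right (mk_central he _)).eq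
  have hk3 : ¬ (3 : ℤ) ∣ k := by
    rintro ⟨r, rfl⟩
    refine hu ?_
    have h1 : x ^ ((3 : ℤ) * r) ∈ G1 X := by
      rw [zpow_mul, show (3 : ℤ) = ((3 : ℕ) : ℤ) from rfl, zpow_natCast]
      refine zpow_mem (h.L1_le_G1 (h.cent_inter (h.pow_L1 x) ?_ |> L_anti (by omega))) r
      exact Commute.self_pow x 3
    have h2 := mul_mem h1 hg
    rwa [mul_inv_cancel_left] at h2
  intro hc
  set N := (⊤ : Subgroup X).lowerCentralSeries (i + 2)
  set π := QuotientGroup.mk' N
  have h1 : π ⁅x, v⁆ ^ k = 1 := by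
    rw [← hpow i hi v hv, ← show π ⁅u, v⁆ = 1 from (QuotientGroup.eq_one_iff _).2 hc,
      show u = x ^ k * ((x ^ k)⁻¹ * u) by group, commutatorElement_mul_left_eq_conj_mul, map_mul, map_mul,
      map_mul, map_inv,
      show π ⁅(x ^ k)⁻¹ * u, v⁆ = 1 from (QuotientGroup.eq_one_iff _).2 (h.G1_comm hg i hi v hv)]
    rw [mul_one, mul_inv_cancel, one_mul]
  have h2 : π ⁅x, v⁆ ^ (3 : ℤ) = 1 := by
    rw [show (3 : ℤ) = ((3 : ℕ) : ℤ) from rfl, zpow_natCast, ← map_pow]
    exact (QuotientGroup.eq_one_iff _).2 (L_anti (by omega)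
      ((h.pow_mem (i + 1) (by omega) _ (L_comm_x hv x)).2 (by omega)))
  obtain ⟨s, t, hst⟩ := ((Nat.prime_iff_prime_int.mp (Fact.out : Nat.Prime 3)).coprime_iff_not_dvd).2 hk3
  refine h.exact hi hin hv hv' ((QuotientGroup.eq_one_iff _).1 (?_ : π ⁅x, v⁆ = 1))
  rw [← zpow_one (π ⁅x, v⁆), ← hst, zpow_add, mul_comm s, zpow_mul, zpow_mul', h1, Nat.cast_ofNat, h2,
    one_zpow, one_zpow, one_mul]

/-- An element of `G1` outside the derived subgroup is not centralized by `x` modulo `L₂`. -/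
theorem MX.comm_G1 {u : X} (hu : u ∈ G1 X) (hn : 4 ≤ n) (hu1 : u ∉ (⊤ : Subgroup X).lowerCentralSeries 1) :
    ⁅x, u⁆ ∈ (⊤ : Subgroup X).lowerCentralSeries 1 ∧ ⁅x, u⁆ ∉ (⊤ : Subgroup X).lowerCentralSeries 2 := by
  refine ⟨L_comm_x (Subgroup.mem_top u : u ∈ (⊤ : Subgroup X).lowerCentralSeries 0) x, fun hc => ?_⟩
  obtain ⟨b, hb, hbc⟩ := h.surj le_rfl hc
  have hcom : b⁻¹ * u ∈ centralizer ({x} : Set X) := by
    rw [mem_centralizer_singleton_iff]
    have h3 : b * x⁻¹ * b⁻¹ = u * x⁻¹ * u⁻¹ := by simpa [commutatorElement_def, mul_assoc] using hbc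
    have h4 := congrArg (·⁻¹) h3
    simp only [mul_inv_rev, inv_inv] at h4
    symm
    calc x * (b⁻¹ * u) = b⁻¹ * (b * (x * b⁻¹)) * u := by group
      _ = b⁻¹ * (u * (x * u⁻¹)) * u := by rw [h4]
      _ = _ := by group
  have hbu : b⁻¹ * u ∈ G1 X := mul_mem (inv_mem (h.L1_le_G1 hb)) hu
  -- the centralizer of `x` meets `G1` inside the derived subgroup
  set Z := centralizer ({x} : Set X) ⊓ G1 X with hZ
  have hxG : x ∉ G1 X := fun hx => by
    obtain ⟨a, ha, ha'⟩ := h.ne_step le_rfl (show 1 ≤ n - 2 by omega)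
    exact h.exact le_rfl (by omega) ha ha' (mem_G1.1 hx a ha)
  have hle : (⊤ : Subgroup X).lowerCentralSeries (n - 2) ≤ Z := fun z hz =>
    ⟨mem_centralizer_singleton_iff.2 (h.top_central hz x).symm.eq, h.L1_le_G1 (L_anti (by omega) hz)⟩
  obtain ⟨j, hj⟩ := IsPGroup.iff_card.1 (h.pgrp.to_subgroup Z)
  have hj2 : j < 2 := by
    by_contra hge
    have e := eq_of_le_of_card_ge (inf_le_left : Z ≤ centralizer ({x} : Set X))
      (by rw [h.cent, hj]; exact Nat.pow_le_pow_right (by norm_num) (by omega))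
    exact hxG (inf_eq_left.1 e (mem_centralizer_singleton_iff.2 rfl))
  have heq := eq_of_le_of_card_ge hle (by
    rw [hj, h.cardL (n - 2) (by omega), show n - 1 - (n - 2) = 1 by omega]
    exact Nat.pow_le_pow_right (by norm_num) (by omega))
  have h5 := mul_mem hb (L_anti (show 1 ≤ n - 2 by omega) (heq.symm ▸ ⟨hcom, hbu⟩ :
    b⁻¹ * u ∈ (⊤ : Subgroup X).lowerCentralSeries (n - 2)))
  rw [mul_inv_cancel_left] at h5
  exact hu1 h5

theorem MX.G1_eq {u : X} (hn : 4 ≤ n) (hu : u ∈ G1 X) (hu1 : u ∉ (⊤ : Subgroup X).lowerCentralSeries 1) :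
    G1 X = zpowers u ⊔ (⊤ : Subgroup X).lowerCentralSeries 1 := by
  have hle : zpowers u ⊔ (⊤ : Subgroup X).lowerCentralSeries 1 ≤ G1 X := sup_le (zpowers_le.2 hu) h.L1_le_G1
  obtain ⟨i, hi⟩ := IsPGroup.iff_card.1 (h.pgrp.to_subgroup (zpowers u ⊔ (⊤ : Subgroup X).lowerCentralSeries 1))
  obtain ⟨j, hj⟩ := IsPGroup.iff_card.1 (h.pgrp.to_subgroup (G1 X))
  have hi' : n - 2 < i := by
    by_contra hle'
    exact hu1 ((eq_of_le_of_card_ge (le_sup_right : _ ≤ zpowers u ⊔ (⊤ : Subgroup X).lowerCentralSeries 1)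
      (by rw [hi, h.cardL 1 le_rfl]; exact Nat.pow_le_pow_right (by norm_num) (by omega))).symm ▸
        mem_sup_left (mem_zpowers u))
  have hj' : j < n := by
    by_contra hge
    obtain ⟨a, ha, ha'⟩ := h.ne_step le_rfl (show 1 ≤ n - 2 by omega)
    have e : G1 X = ⊤ := eq_top_of_card_eq _ (le_antisymm (card_le_card_group _)
      (by rw [hj, h.cardX]; exact Nat.pow_le_pow_right (by norm_num) (by omega)))
    exact h.exact le_rfl (by omega) ha ha' (mem_G1.1 (e ▸ mem_top x) a ha)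
  exact (eq_of_le_of_card_ge hle (by rw [hi, hj]; exact Nat.pow_le_pow_right (by norm_num) (by omega))).symm

/-- Cubing lowers degree zero to degree two. -/
theorem MX.cube_G1 (hn : 5 ≤ n) {u : X} (hu : u ∈ G1 X) (hu1 : u ∉ (⊤ : Subgroup X).lowerCentralSeries 1) :
    u ^ 3 ∈ (⊤ : Subgroup X).lowerCentralSeries 2 ∧ u ^ 3 ∉ (⊤ : Subgroup X).lowerCentralSeries 3 := by
  obtain ⟨ha, ha'⟩ := h.comm_G1 hu (by omega) hu1
  set a := ⁅x, u⁆ with hadef
  set N := (⊤ : Subgroup X).lowerCentralSeries 4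
  have hG : ⁅G1 X, G1 X⁆ ≤ (⊤ : Subgroup X).lowerCentralSeries 2 := by
    rw [commutator_le, h.G1_eq (by omega) hu hu1]
    intro s hs t ht
    obtain ⟨s', hs', l, hl, rfl⟩ := mem_sup_of_normal_right.1 hs
    obtain ⟨t', ht', l', hl', rfl⟩ := mem_sup_of_normal_right.1 ht
    obtain ⟨k, rfl⟩ := mem_zpowers_iff.1 hs'
    obtain ⟨k', rfl⟩ := mem_zpowers_iff.1 ht'
    rw [← QuotientGroup.eq_one_iff, ← QuotientGroup.mk'_apply, map_commutatorElement,
      commutatorElement_eq_one_iff_mul_comm]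
    simp only [QuotientGroup.mk'_apply, QuotientGroup.mk_mul, QuotientGroup.mk_zpow]
    exact ((((Commute.refl _).zpow_zpow k k').mul_right ((mk_central hl' u).zpow_left k))).mul_left
      (((mk_central hl u).zpow_left k').symm.mul_right (mk_central hl' l))
  have hG2 : (G1 X).lowerCentralSeries 2 ≤ N := by
    refine (commutator_mono (show (G1 X).lowerCentralSeries 1 ≤ _ from hG) le_rfl).trans ?_
    rw [commutator_le]
    intro c hc g hg
    rw [← commutatorElement_inv]
    exact inv_mem (h.G1_comm hg 2 (by omega) c hc)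
  have h3 := pow_congr (p := 3) (G1 X) N hG2
    (fun c hc => L_anti (by omega) ((h.pow_mem 2 (by omega) c (hG hc)).2 le_rfl))
    (h.L1_le_G1 ha) hu
  have e : (a * u) ^ 3 = x * u ^ 3 * x⁻¹ := by
    rw [← conj_pow]; congr 1; rw [hadef, commutatorElement_def]; group
  rw [e] at h3
  have hkey : ⁅x, u ^ 3⁆ = a ^ 3 * (u ^ 3 * ((a ^ 3 * u ^ 3)⁻¹ * (x * u ^ 3 * x⁻¹)) * (u ^ 3)⁻¹) := by
    rw [commutatorElement_def]; group
  have hδ := Subgroup.Normal.conj_mem (inferInstance : N.Normal) _ h3 (u ^ 3)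
  have h2 : u ^ 3 ∈ (⊤ : Subgroup X).lowerCentralSeries 2 := by
    refine h.back (h.pow_L1 u) ?_ (by omega)
    rw [hkey]
    exact mul_mem (L_anti (by omega) (h.pow_mem 1 le_rfl a ha).1) (L_anti (by omega) hδ)
  refine ⟨h2, fun h3' => h.anchor le_rfl (by omega) ha ha' ?_⟩
  have h6 := L_comm_x h3' x
  rw [hkey] at h6
  have h7 := mul_mem h6 (inv_mem hδ)
  rwa [mul_inv_cancel_right] at h7

theorem MX.cover_all (H K : Subgroup X) (hKH : K ≤ H)
    (hocc : ∀ i, 1 ≤ i → i ≤ n - 2 → ∀ t ∈ H, t ∈ (⊤ : Subgroup X).lowerCentralSeries i →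
      t ∉ (⊤ : Subgroup X).lowerCentralSeries (i + 1) →
      ∃ s ∈ K, s ∈ (⊤ : Subgroup X).lowerCentralSeries i ∧ s ∉ (⊤ : Subgroup X).lowerCentralSeries (i + 1)) :
    H ⊓ (⊤ : Subgroup X).lowerCentralSeries 1 ≤ K := by
  have hcov : ∀ d i, n ≤ i + d → 1 ≤ i → H ⊓ (⊤ : Subgroup X).lowerCentralSeries i ≤ K := by
    intro d
    induction d with
    | zero =>
      intro i hd h1 u hu
      have hu2 : u ∈ (⊤ : Subgroup X).lowerCentralSeries i := hu.2
      rw [h.eq_bot (by omega), mem_bot] at hu2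
      rw [hu2]
      exact one_mem K
    | succ d ih =>
      intro i hd h1 u hu
      have hrest := ih (i + 1) (by omega) (by omega)
      by_cases hu' : u ∈ (⊤ : Subgroup X).lowerCentralSeries (i + 1)
      · exact hrest ⟨hu.1, hu'⟩
      have hin : i ≤ n - 2 := by
        by_contra hne
        have hu2 : u ∈ (⊤ : Subgroup X).lowerCentralSeries i := hu.2
        rw [h.eq_bot (by omega), mem_bot] at hu2
        exact hu' (hu2 ▸ one_mem _)
      obtain ⟨s, hsK, hs, hs'⟩ := hocc i h1 hin u hu.1 hu.2 hu'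
      exact h.cover h1 hsK hs hs' hKH hrest hu
  exact hcov n 1 (by omega) le_rfl

theorem MX.cube_tower {K : Subgroup X} {i : ℕ} (hi : 1 ≤ i) {t : X} (htK : t ∈ K)
    (ht : t ∈ (⊤ : Subgroup X).lowerCentralSeries i) (ht' : t ∉ (⊤ : Subgroup X).lowerCentralSeries (i + 1)) :
    ∀ k, i + 2 * k ≤ n - 2 → ∃ s ∈ K, s ∈ (⊤ : Subgroup X).lowerCentralSeries (i + 2 * k) ∧
      s ∉ (⊤ : Subgroup X).lowerCentralSeries (i + 2 * k + 1) := by
  intro k
  induction k with
  | zero => exact fun _ => ⟨t, htK, ht, ht'⟩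
  | succ k ih =>
    intro hk
    obtain ⟨s, hsK, hs, hs'⟩ := ih (by omega)
    refine ⟨s ^ 3, _root_.pow_mem hsK 3, L_anti (by omega) (h.pow_mem _ (by omega) s hs).1, ?_⟩
    rw [show i + 2 * (k + 1) + 1 = i + 2 * k + 3 by omega]
    exact h.pow_exact le_rfl _ (by omega) (by omega) s hs hs'

/-- Outside the exceptional group every subgroup is generated by two elements. -/
theorem MX.gens_two (hn : 4 ≤ n)
    (hne : 5 ≤ n ∨ ∃ v ∈ G1 X, v ∉ (⊤ : Subgroup X).lowerCentralSeries 1 ∧ v ^ 3 ≠ 1)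
    (H : Subgroup X) : ∃ T : Finset X, T.card ≤ 2 ∧ closure (T : Set X) = H := by
  classical
  set N := (⊤ : Subgroup X).lowerCentralSeries 1 with hN
  by_cases hHN : H ≤ N
  · obtain ⟨T, hT, hTH, hcov⟩ := h.gens_derived le_rfl H
    exact ⟨T, hT, le_antisymm ((closure_le _).2 hTH) fun u hu => hcov ⟨hu, hHN hu⟩⟩
  obtain ⟨u, huH, huN⟩ := SetLike.not_le_iff_exists.1 hHN
  have hpair : ∀ v ∈ H, H ≤ closure ({u, v} : Set X) → ∃ T : Finset X, T.card ≤ 2 ∧ closure (T : Set X) = H := by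
    intro v hv hle
    refine ⟨({u, v} : Finset X), Finset.card_le_two, ?_⟩
    rw [Finset.coe_insert, Finset.coe_singleton]
    exact le_antisymm ((closure_le _).2 (by rintro y (rfl | rfl) <;> assumption)) hle
  by_cases hHU : H ≤ zpowers u ⊔ N
  swap
  · obtain ⟨v, hvH, hvU⟩ := SetLike.not_le_iff_exists.1 hHU
    have := h.pgrp.isNilpotent
    set A := closure ({u, v} : Set X)
    have hAN : A ⊔ N = ⊤ := by
      obtain ⟨j, hj⟩ := IsPGroup.iff_card.1 (h.pgrp.to_subgroup (zpowers u ⊔ N))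
      obtain ⟨l, hl⟩ := IsPGroup.iff_card.1 (h.pgrp.to_subgroup (A ⊔ N))
      have hsub : zpowers u ⊔ N ≤ A ⊔ N :=
        sup_le_sup_right (zpowers_le.2 (subset_closure (by simp))) N
      have h1 : n - 2 < j := by
        by_contra hle'
        have hc := h.cardL 1 le_rfl
        exact huN ((eq_of_le_of_card_ge (le_sup_right : N ≤ zpowers u ⊔ N) (by
          rw [hj, hN, hc]; exact Nat.pow_le_pow_right (by norm_num) (by omega))).symm ▸
          mem_sup_left (mem_zpowers u))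
      have h2 : j < l := by
        by_contra hle'
        exact hvU ((eq_of_le_of_card_ge hsub (by rw [hj, hl]; exact Nat.pow_le_pow_right (by norm_num) (by omega))).symm ▸
          mem_sup_left (subset_closure (by simp)))
      exact eq_top_of_card_eq _ (le_antisymm (card_le_card_group _) (by
        rw [hl, h.cardX]; exact Nat.pow_le_pow_right (by norm_num) (by omega)))
    exact hpair v hvH (le_top.trans (Core.eq_top_of_sup_frattini Core.commutator_le_frattini hAN).ge)
  by_cases hex : n = 4 ∧ u ∈ G1 X ∧ N ≤ H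
  · -- `H = G1` in order 81
    obtain ⟨rfl, huG, hfull⟩ := hex
    obtain ⟨v, hvG, hvN, hv3⟩ := hne.resolve_left (by omega)
    have e := h.G1_eq le_rfl huG huN
    have hHG : H ≤ G1 X := e ▸ hHU
    have hvH : v ∈ H := (e ▸ sup_le (zpowers_le.2 huH) hfull : G1 X ≤ H) hvG
    have hv3N : v ^ 3 ∈ N := h.pow_L1 v
    have hvc : ∀ t : X, v ∈ closure ({v, t} : Set X) := fun t => subset_closure (by simp)
    have htc : ∀ t : X, t ∈ closure ({v, t} : Set X) := fun t => subset_closure (by simp)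
    -- some `t` with `L₁ ≤ ⟨v, t⟩`
    obtain ⟨t, htN, ht⟩ : ∃ t ∈ N, N ≤ closure ({v, t} : Set X) := by
      by_cases hv2 : v ^ 3 ∈ (⊤ : Subgroup X).lowerCentralSeries 2
      · obtain ⟨t, ht, ht'⟩ := h.ne_step le_rfl (show 1 ≤ 4 - 2 by omega)
        refine ⟨t, ht, fun w hw => ?_⟩
        refine h.cover le_rfl (htc t) ht ht' le_sup_left ?_
          (H := closure ({v, t} : Set X) ⊔ N) ⟨mem_sup_right hw, hw⟩
        intro c hc
        obtain ⟨k, d, hd, rfl⟩ := h.decomp (show 1 ≤ 2 by omega) hv2 (fun e => hv3 (by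
          rw [h.eq_bot (by omega), mem_bot] at e; exact e)) hc.2
        rw [h.eq_bot (by omega), mem_bot] at hd
        rw [hd, mul_one]
        exact zpow_mem (_root_.pow_mem (hvc t) 3) k
      · obtain ⟨t, ht, ht'⟩ := h.ne_step (show 1 ≤ 2 by omega) (show 2 ≤ 4 - 2 by omega)
        refine ⟨t, L_anti (by omega) ht, fun w hw => ?_⟩
        refine h.cover le_rfl (_root_.pow_mem (hvc t) 3) hv3N hv2
          le_sup_left ?_ (H := closure ({v, t} : Set X) ⊔ N) ⟨mem_sup_right hw, hw⟩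
        intro c hc
        obtain ⟨k, d, hd, rfl⟩ := h.decomp (show 1 ≤ 2 by omega) ht ht' hc.2
        rw [h.eq_bot (by omega), mem_bot] at hd
        rw [hd, mul_one]
        exact zpow_mem (htc t) k
    refine ⟨({v, t} : Finset X), Finset.card_le_two, ?_⟩
    rw [Finset.coe_insert, Finset.coe_singleton]
    refine le_antisymm ((closure_le _).2 (by rintro y (rfl | rfl); exacts [hvH, hfull htN]))
      (hHG.trans ?_)
    rw [h.G1_eq le_rfl hvG hvN]
    exact sup_le (zpowers_le.2 (hvc t)) ht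
  -- it suffices to cover the part in the derived subgroup
  suffices hcov : ∃ t ∈ H, H ⊓ N ≤ closure ({u, t} : Set X) by
    obtain ⟨t, ht, hle⟩ := hcov
    refine hpair t ht fun v hv => ?_
    obtain ⟨a, ha, b, hb, rfl⟩ := mem_sup_of_normal_right.1 (hHU hv)
    obtain ⟨k, rfl⟩ := mem_zpowers_iff.1 ha
    have hbH : b ∈ H := by
      have h2 := mul_mem (inv_mem (zpow_mem huH k)) hv
      rwa [inv_mul_cancel_left] at h2
    exact mul_mem (zpow_mem (subset_closure (by simp)) k) (hle ⟨hbH, hb⟩)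
  have hKH : ∀ t ∈ H, closure ({u, t} : Set X) ≤ H := fun t ht =>
    (closure_le _).2 (by rintro y (rfl | rfl) <;> assumption)
  let occ : ℕ → Prop := fun i => 1 ≤ i ∧ i ≤ n - 2 ∧ ∃ t ∈ H, t ∈ (⊤ : Subgroup X).lowerCentralSeries i ∧
    t ∉ (⊤ : Subgroup X).lowerCentralSeries (i + 1)
  by_cases huG : u ∈ G1 X
  · rcases Nat.lt_or_ge n 5 with hn5 | hn5
    · -- order 81
      obtain rfl : n = 4 := by omega
      have hfull : ¬ N ≤ H := fun e => hex ⟨rfl, huG, e⟩
      -- `H ∩ L₁` is cyclic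
      obtain ⟨j, hj⟩ := IsPGroup.iff_card.1 (h.pgrp.to_subgroup (H ⊓ N : Subgroup X))
      have hj1 : j ≤ 1 := by
        by_contra hj1
        exact hfull (eq_of_le_of_card_ge (inf_le_right : H ⊓ N ≤ N) (by
          rw [hj, hN, h.cardL 1 le_rfl]; exact Nat.pow_le_pow_right (by norm_num) (by omega)) ▸ inf_le_left)
      by_cases hb : H ⊓ N = ⊥
      · exact ⟨u, huH, by rw [hb]; exact bot_le⟩
      · obtain ⟨t, ht, ht1⟩ := (Subgroup.bot_or_exists_ne_one _).resolve_left hb
        refine ⟨t, ht.1, fun b hbH => ?_⟩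
        have h1 := mem_zpowers_of_prime_card (G := ↥(H ⊓ N)) (p := 3) (g := ⟨t, ht⟩) (g' := ⟨b, hbH⟩) (by
          have : j ≠ 0 := fun h0 => hb (card_eq_one.1 (by rw [hj, h0, pow_zero]))
          rw [hj, show j = 1 by omega, pow_one]) (fun e => ht1 (congrArg Subtype.val e))
        obtain ⟨l, hl⟩ := mem_zpowers_iff.1 h1
        rw [show b = t ^ l from (congrArg Subtype.val hl).symm]
        exact zpow_mem (subset_closure (by simp)) l
    · -- cubes cover the even degrees
      obtain ⟨hu2, hu3⟩ := h.cube_G1 hn5 huG huN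
      obtain ⟨t, htH, htspec⟩ : ∃ t ∈ H, ∀ i, occ i → i % 2 = 1 → ∃ i₀, 1 ≤ i₀ ∧ i₀ ≤ i ∧ i₀ % 2 = 1 ∧
          t ∈ (⊤ : Subgroup X).lowerCentralSeries i₀ ∧ t ∉ (⊤ : Subgroup X).lowerCentralSeries (i₀ + 1) := by
        by_cases he : ∃ i, occ i ∧ i % 2 = 1
        · obtain ⟨⟨h1, h2, t, htH, ht, ht'⟩, hr⟩ := Nat.find_spec he
          exact ⟨t, htH, fun i hi hir => ⟨Nat.find he, h1, Nat.find_min' he ⟨hi, hir⟩, hr, ht, ht'⟩⟩
        · exact ⟨1, one_mem H, fun i hi hir => absurd ⟨i, hi, hir⟩ he⟩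
      refine ⟨t, htH, h.cover_all H _ (hKH t htH) fun i h1 h2 s hs hs1 hs2 => ?_⟩
      rcases Nat.mod_two_eq_zero_or_one i with hev | hod
      · obtain ⟨k, rfl⟩ : ∃ k, i = 2 + 2 * k := ⟨(i - 2) / 2, by omega⟩
        exact h.cube_tower (show 1 ≤ 2 by omega) (_root_.pow_mem (subset_closure (by simp)) 3) hu2 hu3 k h2
      · obtain ⟨i₀, h0, hle, hpar, ht, ht'⟩ := htspec i ⟨h1, h2, s, hs, hs1, hs2⟩ hod
        obtain ⟨k, rfl⟩ : ∃ k, i = i₀ + 2 * k := ⟨(i - i₀) / 2, by omega⟩
        exact h.cube_tower h0 (subset_closure (by simp)) ht ht' k h2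
  · -- commutation with `u` covers everything above the first degree
    by_cases he : ∃ i, occ i
    swap
    · refine ⟨1, one_mem H, h.cover_all H _ (hKH 1 (one_mem H)) fun i h1 h2 s hs hs1 hs2 => ?_⟩
      exact absurd ⟨i, h1, h2, s, hs, hs1, hs2⟩ he
    obtain ⟨h1, h2, t, htH, ht, ht'⟩ := Nat.find_spec he
    refine ⟨t, htH, h.cover_all H _ (hKH t htH) fun i hi1 hi2 s hs hs1 hs2 => ?_⟩
    have hle : Nat.find he ≤ i := Nat.find_min' he ⟨hi1, hi2, s, hs, hs1, hs2⟩
    clear s hs hs1 hs2 hi1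
    induction i, hle using Nat.le_induction with
    | base => exact ⟨t, subset_closure (by simp), ht, ht'⟩
    | succ i hi ih =>
      obtain ⟨s, hsK, hs, hs'⟩ := ih (by omega)
      have huK : u ∈ closure ({u, t} : Set X) := subset_closure (by simp)
      exact ⟨⁅u, s⁆, by
        rw [commutatorElement_def]
        exact mul_mem (mul_mem (mul_mem huK hsK) (inv_mem huK)) (inv_mem hsK), L_comm_x hs u,
        h.exact_out hn huG (by omega) hi2 hs hs'⟩

/-- The exceptional group is a Sylow subgroup of the symmetric group of degree nine. -/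
theorem MX.exceptional (hn : n = 4)
    (hexp : ∀ v ∈ G1 X, v ∉ (⊤ : Subgroup X).lowerCentralSeries 1 → v ^ 3 = 1) :
    ∃ W : Sylow 3 (Equiv.Perm (Fin 9)), Nonempty (X ≃* ↥(W : Subgroup (Equiv.Perm (Fin 9)))) := by
  classical
  subst hn
  obtain ⟨u, huG, huN⟩ : ∃ u ∈ G1 X, u ∉ (⊤ : Subgroup X).lowerCentralSeries 1 := by
    obtain ⟨w, hw⟩ : ∃ w : X, w ∉ zpowers x ⊔ (⊤ : Subgroup X).lowerCentralSeries 1 := by
      by_contra hall
      push Not at hall
      have hcyc : IsCyclic (X ⧸ _root_.commutator X) := ⟨⟨(x : X ⧸ _root_.commutator X), fun q => by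
        obtain ⟨q, rfl⟩ := QuotientGroup.mk'_surjective _ q
        obtain ⟨a, ha, b, hb, rfl⟩ := mem_sup_of_normal_right.1 (hall q)
        obtain ⟨k, rfl⟩ := mem_zpowers_iff.1 ha
        refine mem_zpowers_iff.2 ⟨k, ?_⟩
        rw [map_mul, map_zpow, show QuotientGroup.mk' (_root_.commutator X) b = 1 from (QuotientGroup.eq_one_iff b).2 hb, mul_one]
        rfl⟩⟩
      refine not_isCyclic_quotient_commutator h.pgrp (fun hb => ?_) hcyc
      have h3 := h.cardL 1 le_rfl
      rw [show (⊤ : Subgroup X).lowerCentralSeries 1 = ⊥ from hb, card_bot] at h3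
      norm_num at h3
    obtain ⟨a, ha, ha'⟩ := h.ne_step le_rfl (show 1 ≤ 4 - 2 by omega)
    obtain ⟨k, d, hd, hk⟩ := h.decomp (show 1 ≤ 2 by omega) (L_comm_x ha x)
      (h.exact le_rfl (by omega) ha ha') (L_comm_x ha w)
    refine ⟨(x ^ k)⁻¹ * w, mem_G1.2 fun b hb => ?_, fun hc => hw ?_⟩
    · obtain ⟨l, e, he, rfl⟩ := h.decomp le_rfl ha ha' hb
      set π := QuotientGroup.mk' ((⊤ : Subgroup X).lowerCentralSeries 3)
      have h1 : π ⁅w, a⁆ = π ⁅x ^ k, a⁆ := by
        rw [map_commutatorElement π (x ^ k), map_zpow π x, comm_zpow_of_commute (by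
          rw [← map_commutatorElement]; exact mk_central (L_comm_x ha x) x), hk, map_mul, map_zpow,
          map_commutatorElement π x,
          show π d = 1 from (QuotientGroup.eq_one_iff _).2 hd, mul_one]
      have hA : Commute (π ((x ^ k)⁻¹ * w)) (π a) := by
        rw [commutatorElement_def, commutatorElement_def, map_mul, map_mul, map_mul, map_mul, map_mul,
          map_mul, map_inv, map_inv, map_inv] at h1
        have h2 := mul_right_cancel h1
        rw [map_mul, map_inv]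
        show (π (x ^ k))⁻¹ * π w * π a = π a * ((π (x ^ k))⁻¹ * π w)
        calc (π (x ^ k))⁻¹ * π w * π a = (π (x ^ k))⁻¹ * (π w * π a * (π w)⁻¹) * π w := by group
          _ = _ := by rw [h2]; group
      rw [← QuotientGroup.eq_one_iff, ← QuotientGroup.mk'_apply, map_commutatorElement,
        commutatorElement_eq_one_iff_mul_comm, map_mul π (a ^ l), map_zpow π a]
      exact ((hA.zpow_right l).mul_right (mk_central he _)).eq
    · have h2 := mul_mem (mem_sup_left (zpow_mem (mem_zpowers x) k) :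
        x ^ k ∈ zpowers x ⊔ (⊤ : Subgroup X).lowerCentralSeries 1) (mem_sup_right hc)
      rwa [mul_inv_cancel_left] at h2
  have hall : ∀ v ∈ G1 X, v ^ 3 = 1 := by
    intro v hv
    by_cases hvN : v ∈ (⊤ : Subgroup X).lowerCentralSeries 1
    swap
    · exact hexp v hv hvN
    have hcom : Commute u v := by
      have h1 := h.G1_comm huG 1 le_rfl v hvN
      rw [h.eq_bot (by omega), mem_bot] at h1
      exact commutatorElement_eq_one_iff_mul_comm.1 h1
    have h2 := hexp (u * v) (mul_mem huG hv) fun hc => huN (by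
      have := mul_mem hc (inv_mem hvN); rwa [mul_inv_cancel_right] at this)
    rwa [hcom.mul_pow, hexp u huG huN, one_mul] at h2
  obtain ⟨a, ha, ha'⟩ := h.ne_step le_rfl (show 1 ≤ 4 - 2 by omega)
  have haG := h.L1_le_G1 ha
  have hua : Commute u a := by
    have h1 := h.G1_comm huG 1 le_rfl a ha
    rw [h.eq_bot (by omega), mem_bot] at h1
    exact commutatorElement_eq_one_iff_mul_comm.1 h1
  set Z := (⊤ : Subgroup X).lowerCentralSeries 2 with hZ
  set B := zpowers u ⊔ zpowers a with hB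
  have hBle : B ≤ G1 X := sup_le (zpowers_le.2 huG) (zpowers_le.2 haG)
  have hBnorm : zpowers u ≤ Subgroup.normalizer (zpowers a : Set X) := by
    refine le_trans ?_ (Subgroup.centralizer_le_normalizer _)
    rw [zpowers_le, mem_centralizer_iff]
    rintro _ ⟨l, rfl⟩
    exact (hua.zpow_right l).symm.eq
  have hBZ : ∀ c ∈ B, c ∈ Z → c = 1 := by
    intro c hc hcZ
    rw [hB, ← SetLike.mem_coe, coe_mul_of_left_le_normalizer_right _ _ hBnorm] at hc
    obtain ⟨_, ⟨i, rfl⟩, _, ⟨j, rfl⟩, rfl⟩ := hc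
    have h3 : ∀ (w : X) (l : ℤ), w ^ 3 = 1 → (3 : ℤ) ∣ l → w ^ l = 1 := fun w l hw ⟨r, hr⟩ => by
      rw [hr, zpow_mul, show (3 : ℤ) = ((3 : ℕ) : ℤ) from rfl, zpow_natCast, hw, one_zpow]
    have h4 : ∀ (w : X) (l : ℤ) (M : Subgroup X), w ^ 3 = 1 → w ∉ M → w ^ l ∈ M → (3 : ℤ) ∣ l := by
      intro w l M hw hwM hl
      by_contra hnd
      obtain ⟨s, t, hst⟩ := ((Nat.prime_iff_prime_int.mp (Fact.out : Nat.Prime 3)).coprime_iff_not_dvd).2 hnd
      refine hwM ?_
      rw [← zpow_one w, ← hst, zpow_add, mul_comm s, zpow_mul, zpow_natCast, hw, one_zpow, one_mul,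
        zpow_mul']
      exact zpow_mem hl t
    have hi := h3 u i (hall u huG) (h4 u i _ (hall u huG) huN (by
      have := mul_mem (L_anti (by omega) hcZ : u ^ i * a ^ j ∈ (⊤ : Subgroup X).lowerCentralSeries 1)
        (inv_mem (zpow_mem ha j))
      rwa [mul_inv_cancel_right] at this))
    simp only at hi hcZ ⊢
    rw [hi, one_mul] at hcZ ⊢
    exact h3 a j (hall a haG) (h4 a j _ (hall a haG) ha' hcZ)
  have hBcard : Nat.card B = 9 := by
    have hsup : B ⊔ Z = G1 X := by
      refine le_antisymm (sup_le hBle ((L_anti (by omega)).trans h.L1_le_G1)) ?_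
      rw [h.G1_eq le_rfl huG huN]
      refine sup_le (zpowers_le.2 (mem_sup_left (mem_sup_left (mem_zpowers u)))) fun w hw => ?_
      obtain ⟨k, d, hd, rfl⟩ := h.decomp le_rfl ha ha' hw
      exact mul_mem (mem_sup_left (mem_sup_right (zpow_mem (mem_zpowers a) k))) (mem_sup_right hd)
    have h1 := Cfsg.Agent.S0606.card_sup_mul_card_inf_of_le_normalizer (H := B) (N := Z)
      (by rw [Subgroup.normalizer_eq_top_iff.2 inferInstance]; exact le_top)
    rw [show B ⊓ Z = ⊥ from (eq_bot_iff_forall _).2 fun c hc => hBZ c hc.1 hc.2, card_bot, mul_one,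
      hsup, hZ, h.cardL 2 (by omega)] at h1
    have hG : Nat.card (G1 X) = 3 ^ 3 := by
      obtain ⟨j, hj⟩ := IsPGroup.iff_card.1 (h.pgrp.to_subgroup (G1 X))
      have hlt : Nat.card ((⊤ : Subgroup X).lowerCentralSeries 1) < Nat.card (G1 X) := by
        by_contra hge
        exact huN ((eq_of_le_of_card_ge h.L1_le_G1 (not_lt.1 hge)).symm ▸ huG)
      rw [h.cardL 1 le_rfl, hj, Nat.pow_lt_pow_iff_right (by norm_num)] at hlt
      have hle : j < 4 := by
        by_contra hge
        obtain ⟨a', ha1, ha2⟩ := h.ne_step le_rfl (show 1 ≤ 4 - 2 by omega)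
        have e : G1 X = ⊤ := eq_top_of_card_eq _ (le_antisymm (card_le_card_group _)
          (by rw [hj, h.cardX]; exact Nat.pow_le_pow_right (by norm_num) (by omega)))
        exact h.exact le_rfl (by omega) ha1 ha2 (mem_G1.1 (e ▸ mem_top x) a' ha1)
      rw [hj, show j = 3 by omega]
    rw [hG] at h1
    norm_num at h1
    omega
  -- the action on the cosets of `B` is faithful
  let f : X →* Equiv.Perm (X ⧸ B) := MulAction.toPermHom X (X ⧸ B)
  have hfinj : Function.Injective f := by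
    rw [← MonoidHom.ker_eq_bot_iff, ← normalCore_eq_ker, eq_bot_iff_forall]
    intro c hc
    by_contra hc1
    have hN : ∀ w ∈ B.normalCore, ∀ g : X, ⁅g, w⁆ ∈ B.normalCore := fun w hw g => by
      rw [commutatorElement_def]
      exact mul_mem (Subgroup.Normal.conj_mem inferInstance w hw g) (inv_mem hw)
    have hBN : ∀ w ∈ B.normalCore, w ∈ B := fun w hw => normalCore_le B hw
    by_cases hcN : c ∈ (⊤ : Subgroup X).lowerCentralSeries 1
    · by_cases hcZ : c ∈ Z
      · exact hc1 (hBZ c (hBN c hc) hcZ)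
      · have h1 := hBZ _ (hBN _ (hN c hc x)) (L_comm_x hcN x)
        exact h.exact le_rfl (by omega) hcN hcZ (h1 ▸ one_mem _)
    · obtain ⟨h1, h2⟩ := h.comm_G1 (hBle (hBN c hc)) le_rfl hcN
      have h3 := hBZ _ (hBN _ (hN _ (hN c hc x) x)) (L_comm_x h1 x)
      exact h.exact le_rfl (by omega) h1 h2 (h3 ▸ one_mem _)
  haveI := Fintype.ofFinite (X ⧸ B)
  have hnine : Fintype.card (X ⧸ B) = 9 := by
    have h1 := B.card_mul_index
    rw [hBcard, h.cardX, index_eq_card, Nat.card_eq_fintype_card] at h1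
    omega
  let e9 : Equiv.Perm (X ⧸ B) ≃* Equiv.Perm (Fin 9) := (Fintype.equivFinOfCardEq hnine).permCongrHom
  let g : X →* Equiv.Perm (Fin 9) := e9.toMonoidHom.comp f
  have hginj : Function.Injective g := fun a b e => hfinj (e9.injective e)
  have hp : IsPGroup 3 g.range := h.pgrp.of_equiv (MonoidHom.ofInjective hginj)
  have hidx : ¬ 3 ∣ g.range.index := by
    have h1 := g.range.card_mul_index
    rw [← Nat.card_congr (MonoidHom.ofInjective hginj).toEquiv, h.cardX, Nat.card_eq_fintype_card (α := Equiv.Perm (Fin 9)),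
      Fintype.card_perm, Fintype.card_fin, show Nat.factorial 9 = 362880 from rfl] at h1
    omega
  exact ⟨hp.toSylow hidx, ⟨MonoidHom.ofInjective hginj⟩⟩

end Cfsg.Agent.MaxClass.Graded
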